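import Mathlib
import Cfsg.Agent.Prune
set_option linter.all false
prune_inst 0x7f00000000000000000000000000000000000000000000000000000000000000000000000000000000000000000000000000000000000000000000000000000000000000000000000000000000000000003fffffffffffffffffffffffffffbeffbdffffffff
open scoped Cfsg.Agent.FastGrp

/-!
# Traces of powers (helper943)

The trace of `f ^ j` is the sum of the `j`-th powers of the roots of the characteristic polynomial of `f`.
-/

set_option autoImplicit false

namespace Cfsg.Agent.H943.TracePow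

open Module Polynomial

variable {k V : Type*} [Field k] [AddCommGroup V] [Module k V] [FiniteDimensional k V]

/-- the powers preserve the generalised eigenspaces -/
theorem mapsTo_pow (f : End k V) (j : ℕ) (μ : k) :
    Set.MapsTo (f ^ j) (f.maxGenEigenspace μ) (f.maxGenEigenspace μ) :=
  f.mapsTo_maxGenEigenspace_of_comm ((Commute.refl f).pow_right j) μ

theorem trace_restrict_pow (f : End k V) (j : ℕ) (μ : k) :
    LinearMap.trace k _ ((f ^ j).restrict (mapsTo_pow f j μ)) = (f.charpoly.rootMultiplicity μ : k) * μ ^ j := by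
  set N := f.maxGenEigenspace μ with hN
  have h1 : Set.MapsTo f N N := f.mapsTo_maxGenEigenspace_of_comm (Commute.refl f) μ
  set g : End k N := f.restrict h1 with hg
  have h2 : (f ^ j).restrict (mapsTo_pow f j μ) = g ^ j := by
    exact (Module.End.pow_restrict j h1 (mapsTo_pow f j μ)).symm
  have h3 : IsNilpotent (g - algebraMap k (End k N) μ) := by
    have h4 := f.isNilpotent_restrict_maxGenEigenspace_sub_algebraMap μ
    convert h4 using 1
    ext x
    rfl
  have h5 : IsNilpotent (g ^ j - algebraMap k (End k N) (μ ^ j)) := by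
    have h6 : Commute g (algebraMap k (End k N) μ) := Algebra.commutes μ g |>.symm
    obtain ⟨c, hc⟩ : (g - algebraMap k (End k N) μ) ∣ (g ^ j - (algebraMap k (End k N) μ) ^ j) :=
      h6.sub_dvd_pow_sub_pow j
    have h7 : ∃ d : End k N, Commute (g - algebraMap k (End k N) μ) d ∧
        (g - algebraMap k (End k N) μ) * d = g ^ j - (algebraMap k (End k N) μ) ^ j := by
      refine ⟨∑ i ∈ Finset.range j, g ^ i * (algebraMap k (End k N) μ) ^ (j - 1 - i), ?_, h6.mul_geom_sum₂ j⟩
      refine Commute.sum_right _ _ _ fun i _ => ?_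
      refine Commute.mul_right ?_ ?_
      · exact ((Commute.refl g).sub_left (Algebra.commutes μ g)).pow_right i
      · refine Commute.pow_right ?_ _
        exact (Algebra.commutes μ (g - algebraMap k (End k N) μ)).symm
    obtain ⟨d, hd1, hd2⟩ := h7
    rw [map_pow, ← hd2]
    exact hd1.isNilpotent_mul_right h3
  rw [h2]
  have h8 := LinearMap.isNilpotent_trace_of_isNilpotent h5
  rw [map_sub, isNilpotent_iff_eq_zero, sub_eq_zero] at h8
  rw [h8, Algebra.algebraMap_eq_smul_one, map_smul, LinearMap.trace_one, ← LinearMap.finrank_maxGenEigenspace_eq,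
    smul_eq_mul, mul_comm]

/-- **The trace of a power.** -/
theorem trace_pow [IsAlgClosed k] (f : End k V) (j : ℕ) :
    LinearMap.trace k V (f ^ j) = (f.charpoly.roots.map (fun x => x ^ j)).sum := by
  classical
  have h0 : iSupIndep f.maxGenEigenspace := f.independent_maxGenEigenspace
  have h1 : ⨆ μ, f.maxGenEigenspace μ = ⊤ := Module.End.iSup_maxGenEigenspace_eq_top f
  have h2 : DirectSum.IsInternal f.maxGenEigenspace :=
    (DirectSum.isInternal_submodule_iff_iSupIndep_and_iSup_eq_top _).2 ⟨h0, h1⟩
  have h3 : {μ | f.maxGenEigenspace μ ≠ ⊥}.Finite := WellFoundedGT.finite_ne_bot_of_iSupIndep h0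
  rw [LinearMap.trace_eq_sum_trace_restrict' h2 h3 (fun μ => mapsTo_pow f j μ), Finset.sum_multiset_map_count]
  have h4 : h3.toFinset = f.charpoly.roots.toFinset := by
    ext μ
    rw [Set.Finite.mem_toFinset, Multiset.mem_toFinset, mem_roots f.charpoly_monic.ne_zero]
    show f.maxGenEigenspace μ ≠ ⊥ ↔ _
    rw [ne_eq, ← Submodule.finrank_eq_zero (R := k), LinearMap.finrank_maxGenEigenspace_eq,
      rootMultiplicity_eq_zero_iff]
    simp [f.charpoly_monic.ne_zero]
  rw [h4]
  refine Finset.sum_congr rfl fun μ _ => ?_
  rw [trace_restrict_pow, count_roots, nsmul_eq_mul]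

end Cfsg.Agent.H943.TracePow
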