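import Cfsg.Agent.H944.TS.Asm_mg_m3
import Mathlib
import Cfsg.Agent.H943.TracePow
import Cfsg.Agent.H943.PSLHom
import Cfsg.Prelude
import Cfsg.Agent.H341.ThreeList_m3
import Cfsg.Agent.H860.TS.Base
import Cfsg.Agent.LieClassical.FieldTransfer
import Cfsg.Agent.H897.Data
import Cfsg.Agent.AGraded.HomFinite
import Cfsg.Agent.S1034
import Cfsg.Agent.ChevalleyStructure.Irreducible
import Cfsg.Agent.LieClassical.HermSimple
import Cfsg.Agent.LieClassical.HermPerfect
import Cfsg.Agent.Cit.LongSp
import Cfsg.Agent.BpLin.PSU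
import Cfsg.Agent.H897.Fin
import Cfsg.Agent.SporadicB.J1.Main
import Cfsg.Agent.ChevFast.E6
import Cfsg.Agent.ChevFast.Lin
import Cfsg.Agent.Lib.FastDecM
import Cfsg.Agent.H147.Fpr.Gen
import Cfsg.Agent.S0801
import Cfsg.Agent.TwoESix.Iso
import Cfsg.Agent.H83.TwESix
import Cfsg.Agent.GpExc.Field
import Cfsg.Agent.ChevalleyStructure.E6Min.Adjoint
import Cfsg.Agent.FastGrp
import Cfsg.Agent.Prune
set_option linter.all false

section
prune_inst 0x7ff8a9f98bb829dfdfff7e7fa6dccdfc39919fffa4dff94bffe061ef8b1f03020945638d09e000fe0e82c01410a87803fdfefeffea6bdc7ffffd5ff41ffbee4fe5f7b508519488340f300ff603f0778e7f3fffffffffffffffffffffffffffbeffbfffffffff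

-- part: H944/TS/EigMain
section
set_option linter.all false
open scoped Cfsg.Agent.FastGrp

-- part: H944/TS/EigChk
section
set_option autoImplicit false
set_option maxRecDepth 100000

namespace Cfsg.Agent.H944.TS.Eig

open Cfsg.Agent.H944.Tab

/-- a loop -/
private def alN (n : ℕ) (p : ℕ → Bool) : Bool := Nat.rec true (fun i r => p i && r) n

private theorem alN_spec {p : ℕ → Bool} : ∀ {n : ℕ}, alN n p = true → ∀ i < n, p i = true
  | 0, _, _, h => absurd h (Nat.not_lt_zero _)
  | n + 1, h, i, hi => by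
    have h1 : (p n && alN n p) = true := h
    rw [Bool.and_eq_true] at h1
    rcases Nat.lt_succ_iff_lt_or_eq.1 hi with h2 | rfl
    · exact alN_spec h1.2 i h2
    · exact h1.1

/-- table look-up -/
private def lk (A N t : ℕ) : ℕ := Nat.mod (Nat.shiftRight A (Nat.mul 32 (Nat.mod t N))) 4294967296

/-- the hash of the difference of the two sums of `invB` -/
private def sm (A N a b c d e f : ℕ) : ℕ :=
  (Nat.add (lk A N f)
    (Nat.add (lk A N e)
    (Nat.add (lk A N (Nat.add e f))
    (Nat.add (lk A N d)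
    (Nat.add (lk A N (Nat.add d e))
    (Nat.add (lk A N (Nat.add d (Nat.add e f)))
    (Nat.add (lk A N c)
    (Nat.add (lk A N (Nat.add c d))
    (Nat.add (lk A N (Nat.add c (Nat.add d e)))
    (Nat.add (lk A N (Nat.add c (Nat.add d (Nat.add e f))))
    (Nat.add (lk A N b)
    (Nat.add (lk A N (Nat.add b d))
    (Nat.add (lk A N (Nat.add b (Nat.add d e)))
    (Nat.add (lk A N (Nat.add b (Nat.add d (Nat.add e f))))
    (Nat.add (lk A N (Nat.add b (Nat.add c d)))
    (Nat.add (lk A N (Nat.add b (Nat.add c (Nat.add d e))))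
    (Nat.add (lk A N (Nat.add b (Nat.add c (Nat.add d (Nat.add e f)))))
    (Nat.add (lk A N (Nat.add b (Nat.add c (Nat.add (Nat.mul 2 d) e))))
    (Nat.add (lk A N (Nat.add b (Nat.add c (Nat.add (Nat.mul 2 d) (Nat.add e f)))))
    (Nat.add (lk A N (Nat.add b (Nat.add c (Nat.add (Nat.mul 2 d) (Nat.add (Nat.mul 2 e) f)))))
    (Nat.add (lk A N a)
    (Nat.add (lk A N (Nat.add a c))
    (Nat.add (lk A N (Nat.add a (Nat.add c d)))
    (Nat.add (lk A N (Nat.add a (Nat.add c (Nat.add d e))))
    (Nat.add (lk A N (Nat.add a (Nat.add c (Nat.add d (Nat.add e f)))))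
    (Nat.add (lk A N (Nat.add a (Nat.add b (Nat.add c d))))
    (Nat.add (lk A N (Nat.add a (Nat.add b (Nat.add c (Nat.add d e)))))
    (Nat.add (lk A N (Nat.add a (Nat.add b (Nat.add c (Nat.add d (Nat.add e f))))))
    (Nat.add (lk A N (Nat.add a (Nat.add b (Nat.add c (Nat.add (Nat.mul 2 d) e)))))
    (Nat.add (lk A N (Nat.add a (Nat.add b (Nat.add c (Nat.add (Nat.mul 2 d) (Nat.add e f))))))
    (Nat.add (lk A N (Nat.add a (Nat.add b (Nat.add c (Nat.add (Nat.mul 2 d) (Nat.add (Nat.mul 2 e) f))))))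
    (Nat.add (lk A N (Nat.add a (Nat.add b (Nat.add (Nat.mul 2 c) (Nat.add (Nat.mul 2 d) e)))))
    (Nat.add (lk A N (Nat.add a (Nat.add b (Nat.add (Nat.mul 2 c) (Nat.add (Nat.mul 2 d) (Nat.add e f))))))
    (Nat.add (lk A N (Nat.add a (Nat.add b (Nat.add (Nat.mul 2 c) (Nat.add (Nat.mul 2 d) (Nat.add (Nat.mul 2 e) f))))))
    (Nat.add (lk A N (Nat.add a (Nat.add b (Nat.add (Nat.mul 2 c) (Nat.add (Nat.mul 3 d) (Nat.add (Nat.mul 2 e) f))))))
    (lk A N (Nat.add a (Nat.add (Nat.mul 2 b) (Nat.add (Nat.mul 2 c) (Nat.add (Nat.mul 3 d) (Nat.add (Nat.mul 2 e) f)))))))))))))))))))))))))))))))))))))))))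

private theorem sm_eq (A N a b c d e f : ℕ) : sm A N a b c d e f = sumH (lk A N) R6 [a, b, c, d, e, f] := by
  delta R6
  simp only [sumH, dotN, Nat.zero_mul, Nat.one_mul, Nat.zero_add, Nat.add_zero]
  rfl

private theorem sum_mod {g h h' : ℕ → ℕ} {M : ℕ} (H : ∀ t, g t + h' t ≡ h t [MOD M]) (V : List ℕ) :
    ∀ R : List (List ℕ), sumH g R V + sumH h' R V ≡ sumH h R V [MOD M]
  | [] => rfl
  | r :: R => by
    rw [sumH, sumH, sumH, Nat.add_add_add_comm]
    exact (H _).add (sum_mod H V R)

/-- the fast check -/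
private def fast (A N : ℕ) (L : List (List ℕ)) : Bool :=
  alN N (fun t => Nat.beq (Nat.mod (Nat.add (lk A N t) (hh N (Nat.mul 2 t))) 4294967291) (Nat.mod (hh N t) 4294967291)) &&
  alN (N / 1 + 1) fun a => alN ((N - 1 * a) / 2 + 1) fun b => alN ((N - 1 * a - 2 * b) / 2 + 1) fun c =>
  alN ((N - 1 * a - 2 * b - 2 * c) / 3 + 1) fun d => alN ((N - 1 * a - 2 * b - 2 * c - 3 * d) / 2 + 1) fun e =>
  alN ((N - 1 * a - 2 * b - 2 * c - 3 * d - 2 * e) / 1 + 1) fun f =>
    bif Nat.beq (Nat.mod (sm A N a b c d e f) 4294967291) 0 then chkT N L [a, b, c, d, e, f] else true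

private theorem chk_of {A N : ℕ} {L : List (List ℕ)} (hN : 0 < N) (h : fast A N L = true) : chkA N L = true := by
  rw [fast, Bool.and_eq_true] at h
  have h1 : ∀ t, lk A N t + hh N (2 * t) ≡ hh N t [MOD 4294967291] := fun t => by
    have h2 := Nat.eq_of_beq_eq_true (alN_spec h.1 (t % N) (Nat.mod_lt _ hN))
    have e1 : lk A N (t % N) = lk A N t := congrArg (fun x => Nat.mod (Nat.shiftRight A (Nat.mul 32 x)) 4294967296)
      (Nat.mod_mod t N)
    have e2 : hh N (Nat.mul 2 (t % N)) = hh N (2 * t) := by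
      rw [hh, hh, show Nat.mul 2 (t % N) % N = 2 * t % N from Nat.mul_mod_mod 2 t N]
    have e3 : hh N (t % N) = hh N t := by rw [hh, hh, Nat.mod_mod]
    rw [e1, e2, e3] at h2
    exact h2
  delta chkA th6
  simp only [allAlc, List.all_eq_true, List.mem_range]
  intro a ha b hb c hc d hd e he f hf
  have h2 := alN_spec (alN_spec (alN_spec (alN_spec (alN_spec (alN_spec h.2 a ha) b hb) c hc) d hd) e he) f hf
  cases h3 : invB N 2 R6 [a, b, c, d, e, f] with
  | false => rfl
  | true =>
    have h4 := sum_mod h1 [a, b, c, d, e, f] R6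
    rw [← Nat.eq_of_beq_eq_true h3, ← sm_eq] at h4
    have h5 : sm A N a b c d e f ≡ 0 [MOD 4294967291] := Nat.ModEq.add_right_cancel' _ (h4.trans (by rw [Nat.zero_add]))
    rw [show Nat.mod (sm A N a b c d e f) 4294967291 = 0 from h5] at h2
    exact h2

theorem chk3 : chkA 3 [[18, 27, 27], [22, 25, 25], [24, 24, 24], [30, 21, 21], [40, 16, 16], [72, 0, 0]] = true :=
  chk_of (A := 0) (by decide) (by decide +kernel)

theorem chk5 : chkA 5 [[12, 15, 15, 15, 15], [72, 0, 0, 0, 0]] = true :=
  chk_of (A := 1455770432928500879430960523361067281487109292032) (by decide) (by decide +kernel)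

theorem chk7 : chkA 7 [[6, 11, 11, 11, 11, 11, 11], [12, 10, 10, 10, 10, 10, 10], [24, 8, 8, 8, 8, 8, 8],
    [72, 0, 0, 0, 0, 0, 0]] = true :=
  chk_of (A := 1639083057823613897860273371857707953883056712974595660837814272) (by decide) (by decide +kernel)

theorem chk9 : chkA 9 [[2, 9, 9, 8, 9, 9, 8, 9, 9], [4, 9, 9, 7, 9, 9, 7, 9, 9], [8, 9, 9, 5, 9, 9, 5, 9, 9],
    [18, 0, 0, 27, 0, 0, 27, 0, 0], [22, 0, 0, 25, 0, 0, 25, 0, 0], [24, 0, 0, 24, 0, 0, 24, 0, 0],
    [30, 0, 0, 21, 0, 0, 21, 0, 0], [40, 0, 0, 16, 0, 0, 16, 0, 0], [72, 0, 0, 0, 0, 0, 0, 0, 0]] = true :=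
  chk_of (A := 487602335359177665992321239407845648013062548223307357644286122737915962478505242918912) (by decide) (by decide +kernel)

/-- the tables for elements of order 19 -/
def L19 : List (List ℕ) :=
  [[0, 4, 4, 4, 4, 4, 4, 4, 4, 4, 4, 4, 4, 4, 4, 4, 4, 4, 4],
    [72, 0, 0, 0, 0, 0, 0, 0, 0, 0, 0, 0, 0, 0, 0, 0, 0, 0, 0]]

theorem chk19 : chkA 19 L19 = true :=
  chk_of (A := 10074934778071091766735455902305616940728806419683996111261544593479807375516274430241699825697487634275249623432368974109425844349895627191971946860688341573977924255111586131214336) (by decide) (by decide +kernel)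

end Cfsg.Agent.H944.TS.Eig
end

-- part: H944/TS/EigMain
section
/-!
# Eigenvalues of the elements of odd order of `²E₆(2)` on the 78-dimensional module: the characteristic polynomials
(helper944)
-/

set_option autoImplicit false
set_option maxRecDepth 100000

namespace Cfsg.Agent.H944.TS.Eig

open Cfsg.Lie Polynomial

universe u

theorem prod_range_root {k : Type*} [Field k] {N : ℕ} (hN : 0 < N) {ζ : k} (hζ : IsPrimitiveRoot ζ N) :
    ∏ c ∈ Finset.range N, (X - C (ζ ^ c)) = (X ^ N - 1 : k[X]) := by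
  classical
  rw [X_pow_sub_one_eq_prod hN hζ]
  have h1 : nthRoots N (1 : k) = (Multiset.range N).map (fun c => ζ ^ c) := by
    rw [hζ.nthRoots_eq (one_pow N)]
    simp
  have h2 : (nthRootsFinset N (1 : k)) = (Finset.range N).image (fun c => ζ ^ c) := by
    rw [nthRootsFinset, h1]
    rfl
  rw [h2, Finset.prod_image]
  intro a ha b hb hab
  exact hζ.pow_inj (Finset.mem_range.1 ha) (Finset.mem_range.1 hb) hab

variable {K : Type u} [Field K]

/-- The characteristic polynomial is `(X - 1) ^ a * ((X ^ N - 1) / (X - 1)) ^ b`: the eigenvalue 1 has multiplicity `a`,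
each primitive `N`-th root of unity (`N` prime) has multiplicity `b`. -/
def CP {ι : Type} [Fintype ι] [DecidableEq ι] (A : Matrix ι ι K) (N a b : ℕ) : Prop :=
  A.charpoly * (X - 1) ^ b = (X - 1) ^ a * (X ^ N - 1) ^ b

/-- `N = 9`: the eigenvalue 1 has multiplicity `a`, the primitive cube roots of unity `b`, the primitive ninth roots of
unity `c`. -/
def CPNine {ι : Type} [Fintype ι] [DecidableEq ι] (A : Matrix ι ι K) (a b c : ℕ) : Prop :=
  A.charpoly * (X - 1) ^ b * (X ^ 3 - 1) ^ c = (X - 1) ^ a * (X ^ 3 - 1) ^ b * (X ^ 9 - 1) ^ c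

theorem cp_prime {N : ℕ} (hN : 0 < N) {T : List ℕ} {a b : ℕ} (hT : ∀ c < N, 0 < c → T.getD c 0 = b)
    (hT0 : 6 + T.getD 0 0 = a)
    {ζ : AlgebraicClosure K} (hζ : IsPrimitiveRoot ζ N) {ι : Type} [Fintype ι] [DecidableEq ι] {A : Matrix ι ι K}
    (h : A.charpoly.map (algebraMap K (AlgebraicClosure K)) =
        (X - 1) ^ 6 * ∏ c ∈ Finset.range N, (X - C (ζ ^ c)) ^ (T.getD c 0)) :
    CP A N a b := by
  show A.charpoly * (X - 1) ^ b = (X - 1) ^ a * (X ^ N - 1) ^ b
  refine Polynomial.map_injective _ (algebraMap K (AlgebraicClosure K)).injective ?_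
  rw [Polynomial.map_mul, h]
  simp only [Polynomial.map_mul, Polynomial.map_pow, Polynomial.map_sub, Polynomial.map_one, Polynomial.map_X]
  rw [← prod_range_root hN hζ, ← Finset.prod_pow]
  obtain ⟨n, rfl⟩ := Nat.exists_eq_succ_of_ne_zero hN.ne'
  rw [Finset.prod_range_succ', Finset.prod_range_succ']
  have h1 : ∏ c ∈ Finset.range n, (X - C (ζ ^ (c + 1))) ^ (T.getD (c + 1) 0) =
      ∏ c ∈ Finset.range n, (X - C (ζ ^ (c + 1))) ^ b := by
    refine Finset.prod_congr rfl fun c hc => ?_
    rw [hT (c + 1) (Nat.succ_lt_succ (Finset.mem_range.1 hc)) (Nat.succ_pos c)]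
  rw [h1, pow_zero, C_1, ← hT0]
  generalize (X - 1 : (AlgebraicClosure K)[X]) = A0
  generalize (∏ c ∈ Finset.range n, (X - C (ζ ^ (c + 1))) ^ b : (AlgebraicClosure K)[X]) = B
  ring

theorem cp_nine {a0 a b c : ℕ} (ha : 6 + a0 = a)
    {ζ : AlgebraicClosure K} (hζ : IsPrimitiveRoot ζ 9) {ι : Type} [Fintype ι] [DecidableEq ι] {A : Matrix ι ι K}
    (h : A.charpoly.map (algebraMap K (AlgebraicClosure K)) =
        (X - 1) ^ 6 * ∏ i ∈ Finset.range 9, (X - C (ζ ^ i)) ^ ([a0, c, c, b, c, c, b, c, c].getD i 0)) :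
    CPNine A a b c := by
  show A.charpoly * (X - 1) ^ b * (X ^ 3 - 1) ^ c = (X - 1) ^ a * (X ^ 3 - 1) ^ b * (X ^ 9 - 1) ^ c
  refine Polynomial.map_injective _ (algebraMap K (AlgebraicClosure K)).injective ?_
  simp only [Polynomial.map_mul, Polynomial.map_pow, Polynomial.map_sub, Polynomial.map_one, Polynomial.map_X]
  have hζ3 : IsPrimitiveRoot (ζ ^ 3) 3 := hζ.pow (by norm_num) (by norm_num)
  rw [h, ← prod_range_root (by norm_num) hζ, ← prod_range_root (by norm_num) hζ3, ← ha]
  simp only [Finset.prod_range_succ, Finset.prod_range_zero, one_mul, ← pow_mul, List.getD_cons_succ,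
    List.getD_cons_zero, pow_zero, C_1, Nat.mul_zero, Nat.mul_one]
  simp only [show 3 * 2 = 6 from rfl]
  generalize (X - 1 : (AlgebraicClosure K)[X]) = A0
  generalize (X - C (ζ ^ 1) : (AlgebraicClosure K)[X]) = A1
  generalize (X - C (ζ ^ 2) : (AlgebraicClosure K)[X]) = A2
  generalize (X - C (ζ ^ 3) : (AlgebraicClosure K)[X]) = A3
  generalize (X - C (ζ ^ 4) : (AlgebraicClosure K)[X]) = A4
  generalize (X - C (ζ ^ 5) : (AlgebraicClosure K)[X]) = A5
  generalize (X - C (ζ ^ 6) : (AlgebraicClosure K)[X]) = A6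
  generalize (X - C (ζ ^ 7) : (AlgebraicClosure K)[X]) = A7
  generalize (X - C (ζ ^ 8) : (AlgebraicClosure K)[X]) = A8
  simp only [mul_pow, pow_add]
  ring

variable [Fintype K]

/-- order 3 -/
theorem cp3 (hK : Fintype.card K = 4) {x : GL chevE6.Idx K} (hx : x ∈ twistedE6 K 2) (h : orderOf x = 3) :
    ∃ ab ∈ ([(24, 27), (28, 25), (30, 24), (36, 21), (46, 16)] : List (ℕ × ℕ)),
      CP (x : Matrix chevE6.Idx chevE6.Idx K) 3 ab.1 ab.2 := by
  obtain ⟨T, hT, ζ, hζ, hd, hc⟩ := eig hK (N := 3) (by norm_num) (by norm_num) chk3 hx (by rw [← h]; exact pow_orderOf_eq_one x)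
  simp only [List.mem_cons, List.not_mem_nil, or_false] at hT
  rcases hT with hT | hT | hT | hT | hT | hT
  · exact ⟨(24, 27), by simp, cp_prime (by norm_num) (by rw [hT]; decide) (by rw [hT]; rfl) hζ hc⟩
  · exact ⟨(28, 25), by simp, cp_prime (by norm_num) (by rw [hT]; decide) (by rw [hT]; rfl) hζ hc⟩
  · exact ⟨(30, 24), by simp, cp_prime (by norm_num) (by rw [hT]; decide) (by rw [hT]; rfl) hζ hc⟩
  · exact ⟨(36, 21), by simp, cp_prime (by norm_num) (by rw [hT]; decide) (by rw [hT]; rfl) hζ hc⟩
  · exact ⟨(46, 16), by simp, cp_prime (by norm_num) (by rw [hT]; decide) (by rw [hT]; rfl) hζ hc⟩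
  · exfalso
    subst hT
    have h1 : x ^ 1 = 1 := hd 1 fun c h1 h2 => by interval_cases c <;> simp at h2 ⊢
    rw [pow_one] at h1
    rw [h1, orderOf_one] at h
    omega

/-- order 5 -/
theorem cp5 (hK : Fintype.card K = 4) {x : GL chevE6.Idx K} (hx : x ∈ twistedE6 K 2) (h : orderOf x = 5) :
    CP (x : Matrix chevE6.Idx chevE6.Idx K) 5 18 15 := by
  obtain ⟨T, hT, ζ, hζ, hd, hc⟩ := eig hK (N := 5) (by norm_num) (by norm_num) chk5 hx (by rw [← h]; exact pow_orderOf_eq_one x)
  simp only [List.mem_cons, List.not_mem_nil, or_false] at hT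
  rcases hT with hT | hT
  · exact cp_prime (by norm_num) (by rw [hT]; decide) (by rw [hT]; rfl) hζ hc
  · exfalso
    subst hT
    have h1 : x ^ 1 = 1 := hd 1 fun c h1 h2 => by interval_cases c <;> simp at h2 ⊢
    rw [pow_one] at h1
    rw [h1, orderOf_one] at h
    omega

/-- order 7 -/
theorem cp7 (hK : Fintype.card K = 4) {x : GL chevE6.Idx K} (hx : x ∈ twistedE6 K 2) (h : orderOf x = 7) :
    ∃ ab ∈ ([(12, 11), (18, 10), (30, 8)] : List (ℕ × ℕ)),
      CP (x : Matrix chevE6.Idx chevE6.Idx K) 7 ab.1 ab.2 := by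
  obtain ⟨T, hT, ζ, hζ, hd, hc⟩ := eig hK (N := 7) (by norm_num) (by norm_num) chk7 hx (by rw [← h]; exact pow_orderOf_eq_one x)
  simp only [List.mem_cons, List.not_mem_nil, or_false] at hT
  rcases hT with hT | hT | hT | hT
  · exact ⟨(12, 11), by simp, cp_prime (by norm_num) (by rw [hT]; decide) (by rw [hT]; rfl) hζ hc⟩
  · exact ⟨(18, 10), by simp, cp_prime (by norm_num) (by rw [hT]; decide) (by rw [hT]; rfl) hζ hc⟩
  · exact ⟨(30, 8), by simp, cp_prime (by norm_num) (by rw [hT]; decide) (by rw [hT]; rfl) hζ hc⟩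
  · exfalso
    subst hT
    have h1 : x ^ 1 = 1 := hd 1 fun c h1 h2 => by interval_cases c <;> simp at h2 ⊢
    rw [pow_one] at h1
    rw [h1, orderOf_one] at h
    omega

/-- order 9 -/
theorem cp9 (hK : Fintype.card K = 4) {x : GL chevE6.Idx K} (hx : x ∈ twistedE6 K 2) (h : orderOf x = 9) :
    ∃ ab ∈ ([(8, 8), (10, 7), (14, 5)] : List (ℕ × ℕ)),
      CPNine (x : Matrix chevE6.Idx chevE6.Idx K) ab.1 ab.2 9 := by
  obtain ⟨T, hT, ζ, hζ, hd, hc⟩ := eig hK (N := 9) (by norm_num) (by norm_num) chk9 hx (by rw [← h]; exact pow_orderOf_eq_one x)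
  simp only [List.mem_cons, List.not_mem_nil, or_false] at hT
  have bad : ∀ a b : ℕ, T = [a, 0, 0, b, 0, 0, b, 0, 0] → False := by
    rintro a b rfl
    have h1 : x ^ 3 = 1 := hd 3 fun c h1 h2 => by
      interval_cases c
      · norm_num
      · simp at h2
      · simp at h2
      · norm_num
      · simp at h2
      · simp at h2
      · norm_num
      · simp at h2
      · simp at h2
    have h2 := orderOf_dvd_of_pow_eq_one h1
    rw [h] at h2
    omega
  rcases hT with hT | hT | hT | hT | hT | hT | hT | hT | hT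
  · exact ⟨(8, 8), by simp, by rw [hT] at hc; exact cp_nine (a0 := 2) (a := 8) (b := 8) (c := 9) rfl hζ hc⟩
  · exact ⟨(10, 7), by simp, by rw [hT] at hc; exact cp_nine (a0 := 4) (a := 10) (b := 7) (c := 9) rfl hζ hc⟩
  · exact ⟨(14, 5), by simp, by rw [hT] at hc; exact cp_nine (a0 := 8) (a := 14) (b := 5) (c := 9) rfl hζ hc⟩
  all_goals exact (bad _ _ hT).elim

/-- order 19 -/
theorem cp19 (hK : Fintype.card K = 4) {x : GL chevE6.Idx K} (hx : x ∈ twistedE6 K 2) (h : orderOf x = 19) :
    CP (x : Matrix chevE6.Idx chevE6.Idx K) 19 6 4 := by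
  obtain ⟨T, hT, ζ, hζ, hd, hc⟩ := eig hK (N := 19) (by norm_num) (by norm_num) chk19 hx (by rw [← h]; exact pow_orderOf_eq_one x)
  simp only [L19, List.mem_cons, List.not_mem_nil, or_false] at hT
  rcases hT with hT | hT
  · exact cp_prime (by norm_num) (by rw [hT]; decide) (by rw [hT]; rfl) hζ hc
  · exfalso
    subst hT
    have h1 : x ^ 1 = 1 := hd 1 fun c h1 h2 => by interval_cases c <;> simp at h2 ⊢
    rw [pow_one] at h1
    rw [h1, orderOf_one] at h
    omega

end Cfsg.Agent.H944.TS.Eig
end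

private theorem dce_2aec7b38b8e3 : _root_.True := by
  try have : _root_.True := by simp only [_root_.Cfsg.Agent.H944.TS.Eig.L19.eq_1]
  exact _root_.True.intro
end

-- part: H943/L19Main
section
prune_inst 0x740023047d2200000000008023201c62e20000200008000000a1000005890c0a01820820a7a00005422200050034002000000000020000000a000400011801800080100400000008c00000000000000000000000000000000000000000000000000000000
set_option linter.all false
open scoped Cfsg.Agent.FastGrp

-- part: H943/PowSum
section
/-!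
# Power sums of the roots of a polynomial (helper943)
-/

set_option autoImplicit false

namespace Cfsg.Agent.H943.PowSum

open Polynomial

variable {k : Type*} [Field k]

/-- the sum of the `j`-th powers of the roots -/
noncomputable def S (j : ℕ) (P : k[X]) : k := (P.roots.map (fun x => x ^ j)).sum

theorem S_mul (j : ℕ) {P Q : k[X]} (hP : P ≠ 0) (hQ : Q ≠ 0) : S j (P * Q) = S j P + S j Q := by
  rw [S, S, S, roots_mul (mul_ne_zero hP hQ), Multiset.map_add, Multiset.sum_add]

theorem S_pow (j : ℕ) (P : k[X]) (n : ℕ) : S j (P ^ n) = (n : k) * S j P := by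
  rw [S, S, roots_pow, Multiset.map_nsmul, Multiset.sum_nsmul, nsmul_eq_mul]

theorem S_X_sub_one (j : ℕ) : S j (X - 1 : k[X]) = 1 := by
  rw [S, show (X - 1 : k[X]) = X - C 1 by rw [map_one], roots_X_sub_C]
  simp

theorem S_X_pow_sub_one {n : ℕ} (j : ℕ) {z : k} (hz : IsPrimitiveRoot z n) (hn : n ≠ 0) :
    S j (X ^ n - 1 : k[X]) = if n ∣ j then (n : k) else 0 := by
  have h1 : (X ^ n - 1 : k[X]).roots = (Multiset.range n).map (z ^ ·) := by
    have h2 := hz.nthRoots_eq (α := 1) (a := 1) (one_pow n)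
    rw [nthRoots, map_one] at h2
    rw [h2]
    simp
  rw [S, h1, Multiset.map_map]
  have h3 : (Multiset.map ((fun x => x ^ j) ∘ fun x => z ^ x) (Multiset.range n)).sum =
      ∑ i ∈ Finset.range n, (z ^ j) ^ i := by
    rw [Finset.sum]
    congr 1
    refine Multiset.map_congr rfl fun i _ => ?_
    show (z ^ i) ^ j = (z ^ j) ^ i
    rw [← pow_mul, ← pow_mul, mul_comm]
  rw [h3]
  split_ifs with h
  · rw [(hz.pow_eq_one_iff_dvd j).2 h]
    simp
  · have h4 : z ^ j ≠ 1 := fun h5 => h ((hz.pow_eq_one_iff_dvd j).1 h5)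
    rw [geom_sum_eq h4, ← pow_mul, mul_comm, pow_mul, hz.pow_eq_one, one_pow, sub_self, zero_div]

theorem X_sub_one_ne_zero : (X - 1 : k[X]) ≠ 0 := by
  rw [show (X - 1 : k[X]) = X - C 1 by rw [map_one]]
  exact X_sub_C_ne_zero 1

theorem X_pow_sub_one_ne_zero {n : ℕ} (hn : n ≠ 0) : (X ^ n - 1 : k[X]) ≠ 0 := by
  rw [show (1 : k[X]) = C 1 by rw [map_one]]
  exact X_pow_sub_C_ne_zero (Nat.pos_of_ne_zero hn) 1

/-! ### multiplicities -/

theorem rootMultiplicity_X_pow_sub_one {n : ℕ} (hn : (n : k) ≠ 0) {z : k} (hz : z ^ n = 1) :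
    rootMultiplicity z (X ^ n - 1 : k[X]) = 1 := by
  have hn0 : n ≠ 0 := fun h => hn (by rw [h, Nat.cast_zero])
  have h1 : (X ^ n - 1 : k[X]).Separable := by
    rw [show (1 : k[X]) = C 1 by rw [map_one]]
    exact separable_X_pow_sub_C 1 hn one_ne_zero
  refine le_antisymm (rootMultiplicity_le_one_of_separable h1 z) ?_
  rw [Nat.one_le_iff_ne_zero, ne_eq, rootMultiplicity_eq_zero_iff]
  intro h
  exact X_pow_sub_one_ne_zero hn0 (h (by simp [IsRoot, hz]))

theorem rootMultiplicity_X_sub_one {z : k} (hz : z ≠ 1) : rootMultiplicity z (X - 1 : k[X]) = 0 := by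
  rw [rootMultiplicity_eq_zero_iff]
  intro h
  exact absurd (by simpa [IsRoot, sub_eq_zero] using h) hz

theorem rootMultiplicity_pow' (z : k) {P : k[X]} (hP : P ≠ 0) (n : ℕ) :
    rootMultiplicity z (P ^ n) = n * rootMultiplicity z P := by
  classical
  rw [← count_roots, ← count_roots, roots_pow, Multiset.count_nsmul]

end Cfsg.Agent.H943.PowSum
end

-- part: H646/SLTwoCount
section
/-!
# Class sums of `SL₂(q)`, `q` odd, in characteristic 2

The class sums `c r` (sum over the elements of trace `r`) satisfy, in characteristic 2,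
`c (a + a⁻¹) c (b + b⁻¹) = c (ab + (ab)⁻¹) + c (a/b + b/a)` up to the unipotent elements.
-/

set_option autoImplicit false

namespace Cfsg.Agent.H646.SLT

open Finset

variable {F : Type*} [Field F]

/-- constructor -/
def mk (M : Matrix (Fin 2) (Fin 2) F) (h : M.det = 1) : Matrix.SpecialLinearGroup (Fin 2) F := ⟨M, h⟩

theorem mk_val (M : Matrix (Fin 2) (Fin 2) F) (h : M.det = 1) : (mk M h).1 = M := rfl

/-- the trace of a matrix -/
def t (g : Matrix.SpecialLinearGroup (Fin 2) F) : F := g.1 0 0 + g.1 1 1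

theorem det_eq (g : Matrix.SpecialLinearGroup (Fin 2) F) : g.1 0 0 * g.1 1 1 - g.1 0 1 * g.1 1 0 = 1 := by
  have := g.2
  rwa [Matrix.det_fin_two] at this

theorem neg_val (g : Matrix.SpecialLinearGroup (Fin 2) F) (i j : Fin 2) : (-g).1 i j = -g.1 i j := rfl

theorem mul_val (g h : Matrix.SpecialLinearGroup (Fin 2) F) (i j : Fin 2) :
    (g * h).1 i j = g.1 i 0 * h.1 0 j + g.1 i 1 * h.1 1 j := by
  show (g.1 * h.1) i j = _
  rw [Matrix.mul_apply, Fin.sum_univ_two]

theorem inv_val (g : Matrix.SpecialLinearGroup (Fin 2) F) :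
    (g⁻¹).1 = !![g.1 1 1, -g.1 0 1; -g.1 1 0, g.1 0 0] :=
  Matrix.adjugate_fin_two _

theorem inv00 (g : Matrix.SpecialLinearGroup (Fin 2) F) : (g⁻¹).1 0 0 = g.1 1 1 := by rw [inv_val]; rfl
theorem inv01 (g : Matrix.SpecialLinearGroup (Fin 2) F) : (g⁻¹).1 0 1 = -g.1 0 1 := by rw [inv_val]; rfl
theorem inv10 (g : Matrix.SpecialLinearGroup (Fin 2) F) : (g⁻¹).1 1 0 = -g.1 1 0 := by rw [inv_val]; rfl
theorem inv11 (g : Matrix.SpecialLinearGroup (Fin 2) F) : (g⁻¹).1 1 1 = g.1 0 0 := by rw [inv_val]; rfl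

theorem t_neg (g : Matrix.SpecialLinearGroup (Fin 2) F) : t (-g) = -t g := by
  simp only [t, neg_val]
  ring

theorem t_inv (g : Matrix.SpecialLinearGroup (Fin 2) F) : t g⁻¹ = t g := by
  simp only [t, inv00, inv11]
  ring

theorem t_mul (g h : Matrix.SpecialLinearGroup (Fin 2) F) :
    t (g * h) = g.1 0 0 * h.1 0 0 + g.1 0 1 * h.1 1 0 + g.1 1 0 * h.1 0 1 + g.1 1 1 * h.1 1 1 := by
  simp only [t, mul_val]
  ring

theorem t_inv_mul (g h : Matrix.SpecialLinearGroup (Fin 2) F) :
    t (g⁻¹ * h) = g.1 1 1 * h.1 0 0 - g.1 0 1 * h.1 1 0 - g.1 1 0 * h.1 0 1 + g.1 0 0 * h.1 1 1 := by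
  rw [t_mul, inv00, inv01, inv10, inv11]
  ring

theorem t_comm (g h : Matrix.SpecialLinearGroup (Fin 2) F) : t (g * h) = t (h * g) := by
  rw [t_mul, t_mul]; ring

theorem t_conj (g h : Matrix.SpecialLinearGroup (Fin 2) F) : t (h * g * h⁻¹) = t g := by
  rw [t_comm, ← mul_assoc, inv_mul_cancel, one_mul]

theorem t_one : t (1 : Matrix.SpecialLinearGroup (Fin 2) F) = 2 := by
  show (1 : F) + 1 = 2
  norm_num

theorem t_mul_add (g x : Matrix.SpecialLinearGroup (Fin 2) F) : t (g * x) + t (g⁻¹ * x) = t g * t x := by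
  rw [t_mul, t_inv_mul]; simp only [t]; ring

theorem ext_iff' {g h : Matrix.SpecialLinearGroup (Fin 2) F} : g = h ↔ g.1 0 0 = h.1 0 0 ∧
    g.1 0 1 = h.1 0 1 ∧ g.1 1 0 = h.1 1 0 ∧ g.1 1 1 = h.1 1 1 := by
  constructor
  · rintro rfl; exact ⟨rfl, rfl, rfl, rfl⟩
  · rintro ⟨h1, h2, h3, h4⟩
    apply Matrix.SpecialLinearGroup.ext
    intro i j
    fin_cases i <;> fin_cases j <;> assumption

theorem neg_ne (h2F : (2 : F) ≠ 0) (g : Matrix.SpecialLinearGroup (Fin 2) F) : -g ≠ g := by
  intro h
  have h1 := ext_iff'.mp h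
  simp only [neg_val] at h1
  obtain ⟨h2, h3, h4, h5⟩ := h1
  have key : ∀ a : F, -a = a → a = 0 := by
    intro a ha
    have h6 : (2 : F) * a = 0 := by linear_combination -ha
    exact (mul_eq_zero.mp h6).resolve_left h2F
  have h6 := det_eq g
  rw [key _ h2, key _ h3] at h6
  simp at h6

/-- an element equal to its inverse has trace `± 2` -/
theorem t_of_inv_eq (h2F : (2 : F) ≠ 0) {g : Matrix.SpecialLinearGroup (Fin 2) F} (h : g⁻¹ = g) :
    t g = 2 ∨ t g = -2 := by
  have h1 := ext_iff'.mp h
  rw [inv00, inv01, inv10, inv11] at h1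
  obtain ⟨h2, h3, h4, h5⟩ := h1
  have key : ∀ a : F, -a = a → a = 0 := by
    intro a ha
    have h6 : (2 : F) * a = 0 := by linear_combination -ha
    exact (mul_eq_zero.mp h6).resolve_left h2F
  have h6 := det_eq g
  rw [key _ h3, h2] at h6
  have h7 : (g.1 0 0 - 1) * (g.1 0 0 + 1) = 0 := by linear_combination h6
  rcases mul_eq_zero.mp h7 with h8 | h8
  · left; simp only [t]; linear_combination 2 * h8 + h2
  · right; simp only [t]; linear_combination 2 * h8 + h2

/-! ### parity of the number of solutions -/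

/-- the involution principle -/
theorem sum_fix {α R : Type*} [DecidableEq α] [Ring R] (h2 : ∀ r : R, r + r = 0) (T : Finset α) (φ : α → α)
    (h1 : ∀ a ∈ T, φ a ∈ T) (h3 : ∀ a ∈ T, φ (φ a) = a) :
    (∑ _a ∈ T, (1 : R)) = ∑ _a ∈ T.filter (fun a => φ a = a), (1 : R) := by
  rw [← Finset.sum_filter_add_sum_filter_not T (fun a => φ a = a) (fun _ => (1 : R))]
  have : ∑ _a ∈ T.filter (fun a => ¬ φ a = a), (1 : R) = 0 := by
    refine Finset.sum_involution (fun a _ => φ a) ?_ ?_ ?_ ?_
    · intro a _; exact h2 1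
    · intro a ha _ h
      exact (Finset.mem_filter.mp ha).2 h
    · intro a ha
      obtain ⟨ha1, ha2⟩ := Finset.mem_filter.mp ha
      refine Finset.mem_filter.mpr ⟨h1 a ha1, ?_⟩
      rw [h3 a ha1]
      exact fun h => ha2 h.symm
    · intro a ha
      exact h3 a (Finset.mem_filter.mp ha).1
  rw [this, add_zero]

variable [Fintype F] [DecidableEq F]

/-- the number of `g` of trace `s` such that `g⁻¹ x` has trace `t'` -/
def N (k : Type*) [Field k] (s t' : F) (x : Matrix.SpecialLinearGroup (Fin 2) F) : k :=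
  ∑ _g ∈ (Finset.univ : Finset (Matrix.SpecialLinearGroup (Fin 2) F)).filter
    (fun g => t g = s ∧ t (g⁻¹ * x) = t'), (1 : k)

variable {k : Type*} [Field k] [CharP k 2]

theorem two_zero (r : k) : r + r = 0 := CharTwo.add_self_eq_zero r

/-- trace different from `±2` -/
theorem N_of_ne (h2F : (2 : F) ≠ 0) {s t' : F} {x : Matrix.SpecialLinearGroup (Fin 2) F}
    (h2 : t x ≠ 2) (h2' : t x ≠ -2) :
    N k s t' x = if (t x) ^ 2 - t x * s * t' + s ^ 2 + t' ^ 2 - 4 = 0 then 1 else 0 := by
  set r := t x with hr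
  have h4 : (4 : F) - r ^ 2 ≠ 0 := by
    intro h
    have h5 : (r - 2) * (r + 2) = 0 := by linear_combination -h
    rcases mul_eq_zero.mp h5 with h6 | h6
    · exact h2 (sub_eq_zero.mp h6)
    · exact h2' (eq_neg_of_add_eq_zero_left h6)
  obtain ⟨α, hα⟩ : ∃ α : F, α = (2 * s - r * t') / (4 - r ^ 2) := ⟨_, rfl⟩
  obtain ⟨β, hβ⟩ : ∃ β : F, β = (2 * t' - r * s) / (4 - r ^ 2) := ⟨_, rfl⟩
  rw [eq_div_iff h4] at hα hβ
  have e1 : 2 * α + β * r = s := by
    apply mul_right_cancel₀ h4
    linear_combination 2 * hα + r * hβ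
  have e2 : α * r + 2 * β = t' := by
    apply mul_right_cancel₀ h4
    linear_combination r * hα + 2 * hβ
  have hx1 := det_eq x
  have hxr : x.1 0 0 + x.1 1 1 = r := rfl
  -- the matrix `m`
  obtain ⟨m, hm⟩ : ∃ m : Matrix (Fin 2) (Fin 2) F, m = !![α + β * x.1 0 0, β * x.1 0 1; β * x.1 1 0, α + β * x.1 1 1] :=
    ⟨_, rfl⟩
  have m00 : m 0 0 = α + β * x.1 0 0 := by rw [hm]; rfl
  have m01 : m 0 1 = β * x.1 0 1 := by rw [hm]; rfl
  have m10 : m 1 0 = β * x.1 1 0 := by rw [hm]; rfl
  have m11 : m 1 1 = α + β * x.1 1 1 := by rw [hm]; rfl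
  have hdm : m.det = α ^ 2 + α * β * r + β ^ 2 := by
    rw [Matrix.det_fin_two, m00, m01, m10, m11, ← hxr]
    linear_combination β ^ 2 * hx1
  have hD : m.det = 1 ↔ r ^ 2 - r * s * t' + s ^ 2 + t' ^ 2 - 4 = 0 := by
    have h5 : (4 - r ^ 2) * m.det = s ^ 2 + t' ^ 2 - r * s * t' := by
      rw [hdm, ← e1, ← e2]; ring
    constructor
    · intro h
      rw [h] at h5
      linear_combination -h5
    · intro h
      apply mul_left_cancel₀ h4
      rw [h5]
      linear_combination h
  obtain ⟨T, hT⟩ : ∃ T : Finset (Matrix.SpecialLinearGroup (Fin 2) F), T = (Finset.univ : Finset (Matrix.SpecialLinearGroup (Fin 2) F)).filter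
    (fun g => t g = s ∧ t (g⁻¹ * x) = t') := ⟨_, rfl⟩
  have hmem : ∀ g : Matrix.SpecialLinearGroup (Fin 2) F, g ∈ T ↔ (g.1 0 0 + g.1 1 1 = s ∧
      g.1 1 1 * x.1 0 0 - g.1 0 1 * x.1 1 0 - g.1 1 0 * x.1 0 1 + g.1 0 0 * x.1 1 1 = t') := by
    intro g
    rw [hT, Finset.mem_filter]
    simp only [Finset.mem_univ, true_and, t_inv_mul]
    rfl
  -- the involution
  have hdet : ∀ g ∈ T, ((2 : F) • m - g.1).det = 1 := by
    intro g hg
    obtain ⟨hg4, hg2⟩ := (hmem g).mp hg
    have hg3 := det_eq g
    rw [Matrix.det_fin_two]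
    simp only [Matrix.sub_apply, Matrix.smul_apply, smul_eq_mul, m00, m01, m10, m11]
    rw [← e1, ← hxr] at hg4
    rw [← e2, ← hxr] at hg2
    linear_combination 4 * β ^ 2 * hx1 - 2 * α * hg4 - 2 * β * hg2 + hg3
  let φ : Matrix.SpecialLinearGroup (Fin 2) F → Matrix.SpecialLinearGroup (Fin 2) F :=
    fun g => if h : ((2 : F) • m - g.1).det = 1 then mk ((2 : F) • m - g.1) h else g
  have hφ : ∀ g ∈ T, (φ g).1 = (2 : F) • m - g.1 := by
    intro g hg
    simp only [φ]
    rw [dif_pos (hdet g hg), mk_val]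
  have hφT : ∀ g ∈ T, φ g ∈ T := by
    intro g hg
    have h5 := (hmem g).mp hg
    rw [hmem, hφ g hg]
    simp only [Matrix.sub_apply, Matrix.smul_apply, smul_eq_mul, m00, m01, m10, m11]
    obtain ⟨h6, h7⟩ := h5
    rw [← hxr] at e1 e2
    constructor
    · linear_combination 2 * e1 - h6
    · linear_combination 2 * e2 - h7 + 4 * β * hx1
  have hφφ : ∀ g ∈ T, φ (φ g) = g := by
    intro g hg
    apply Subtype.ext
    rw [hφ _ (hφT g hg), hφ g hg]
    abel
  show (∑ _g ∈ _, (1 : k)) = _
  rw [← hT, sum_fix two_zero T φ hφT hφφ]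
  have hfix : ∀ g ∈ T, φ g = g → g.1 = m := by
    intro g hg h
    have h5 := hφ g hg
    rw [h] at h5
    have h6 : (2 : F) • g.1 = (2 : F) • m := by
      rw [two_smul]
      nth_rewrite 1 [h5]
      abel
    exact smul_right_injective _ h2F h6
  by_cases hc : m.det = 1
  · rw [if_pos (hD.mp hc)]
    have h5 : T.filter (fun a => φ a = a) = {mk m hc} := by
      ext g
      rw [Finset.mem_filter, Finset.mem_singleton]
      constructor
      · rintro ⟨hg, h⟩
        exact Subtype.ext (hfix g hg h)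
      · rintro rfl
        have h6 : mk m hc ∈ T := by
          rw [hmem]
          show m 0 0 + m 1 1 = s ∧ m 1 1 * x.1 0 0 - m 0 1 * x.1 1 0 - m 1 0 * x.1 0 1 + m 0 0 * x.1 1 1 = t'
          rw [m00, m01, m10, m11]
          rw [← hxr] at e1 e2
          exact ⟨by linear_combination e1, by linear_combination e2 + 2 * β * hx1⟩
        refine ⟨h6, ?_⟩
        apply Subtype.ext
        rw [hφ _ h6, mk_val]
        rw [two_smul]; abel
    rw [h5, Finset.sum_singleton]
  · rw [if_neg (fun h => hc (hD.mpr h))]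
    have h5 : T.filter (fun a => φ a = a) = ∅ := by
      apply Finset.eq_empty_of_forall_notMem
      intro g hg
      obtain ⟨hg1, hg2⟩ := Finset.mem_filter.mp hg
      have h6 := hfix g hg1 hg2
      apply hc
      rw [← h6]
      exact g.2
    rw [h5, Finset.sum_empty]

/-- trace `2`, equal parameters -/
theorem N_self (h2F : (2 : F) ≠ 0) {s : F} (hs : s ≠ 2) (hs' : s ≠ -2) {x : Matrix.SpecialLinearGroup (Fin 2) F}
    (hx : t x = 2) : N k s s x = 0 := by
  show (∑ _g ∈ _, (1 : k)) = 0
  rw [sum_fix two_zero _ (fun g => g⁻¹) ?_ (fun g _ => inv_inv g)]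
  · apply Finset.sum_eq_zero
    intro g hg
    exfalso
    simp only [Finset.mem_filter, Finset.mem_univ, true_and] at hg
    obtain ⟨⟨h1, -⟩, h2⟩ := hg
    rcases t_of_inv_eq h2F h2 with h3 | h3
    · exact hs (h1.symm.trans h3)
    · exact hs' (h1.symm.trans h3)
  · intro g hg
    simp only [Finset.mem_filter, Finset.mem_univ, true_and] at hg ⊢
    obtain ⟨h1, h2⟩ := hg
    refine ⟨by rw [t_inv, h1], ?_⟩
    rw [inv_inv]
    have h3 := t_mul_add g x
    rw [h1, h2, hx] at h3
    linear_combination h3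

/-- `x = 1`, different parameters -/
theorem N_one {s t' : F} (hst : s ≠ t') : N k s t' (1 : Matrix.SpecialLinearGroup (Fin 2) F) = 0 := by
  apply Finset.sum_eq_zero
  intro g hg
  exfalso
  simp only [Finset.mem_filter, Finset.mem_univ, true_and, mul_one, t_inv] at hg
  exact hst (hg.1.symm.trans hg.2)

theorem N_neg (s t' : F) (x : Matrix.SpecialLinearGroup (Fin 2) F) : N k s t' (-x) = N k s (-t') x := by
  unfold N
  (with_reducible congr 1)
  ext g
  simp only [Finset.mem_filter, Finset.mem_univ, true_and]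
  rw [show g⁻¹ * -x = -(g⁻¹ * x) from mul_neg _ _, t_neg, neg_eq_iff_eq_neg]

/-- `N` is a class function -/
theorem N_conj (s t' : F) (x h : Matrix.SpecialLinearGroup (Fin 2) F) : N k s t' (h * x * h⁻¹) = N k s t' x := by
  unfold N
  refine Finset.sum_bij' (fun g _ => h⁻¹ * g * h) (fun g _ => h * g * h⁻¹) ?_ ?_ ?_ ?_ ?_
  · intro g hg
    simp only [Finset.mem_filter, Finset.mem_univ, true_and] at hg ⊢
    obtain ⟨h1, h2⟩ := hg
    constructor
    · rw [← h1, ← t_conj g h⁻¹, inv_inv]
    · rw [← h2, ← t_conj (g⁻¹ * (h * x * h⁻¹)) h⁻¹, inv_inv]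
      congr 1
      group
  · intro g hg
    simp only [Finset.mem_filter, Finset.mem_univ, true_and] at hg ⊢
    obtain ⟨h1, h2⟩ := hg
    constructor
    · rw [t_conj, h1]
    · rw [← h2, ← t_conj (g⁻¹ * x) h]
      congr 1
      group
  · intro g _; group
  · intro g _; group
  · intro g _; rfl

/-- the upper unitriangular matrices -/
def u (b : F) : Matrix.SpecialLinearGroup (Fin 2) F := mk !![1, b; 0, 1] (by simp [Matrix.det_fin_two_of])

omit [Fintype F] [DecidableEq F] in
theorem u00 (b : F) : (u b).1 0 0 = 1 := rfl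
omit [Fintype F] [DecidableEq F] in
theorem u01 (b : F) : (u b).1 0 1 = b := rfl
omit [Fintype F] [DecidableEq F] in
theorem u10 (b : F) : (u b).1 1 0 = 0 := rfl
omit [Fintype F] [DecidableEq F] in
theorem u11 (b : F) : (u b).1 1 1 = 1 := rfl

omit [Fintype F] in
/-- every element of trace `2` is conjugate to an upper unitriangular matrix -/
theorem exists_conj_u {x : Matrix.SpecialLinearGroup (Fin 2) F} (hx : t x = 2) :
    ∃ (h : Matrix.SpecialLinearGroup (Fin 2) F) (b : F), x = h * u b * h⁻¹ := by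
  have hd := det_eq x
  have hx' : x.1 0 0 + x.1 1 1 = 2 := hx
  by_cases hc : x.1 1 0 = 0
  · refine ⟨1, x.1 0 1, ?_⟩
    rw [one_mul, inv_one, mul_one, ext_iff', u00, u01, u10, u11]
    have h1 : (x.1 0 0 - 1) ^ 2 = 0 := by
      linear_combination x.1 0 0 * hx' - hd - x.1 0 1 * hc
    have h2 : x.1 0 0 = 1 := sub_eq_zero.mp (pow_eq_zero_iff (two_ne_zero) |>.mp h1)
    exact ⟨h2, rfl, hc, by linear_combination hx' - h2⟩
  · set c := x.1 1 0 with hcdef
    have hdet : (!![x.1 0 0 - 1, -1 / c; c, 0] : Matrix (Fin 2) (Fin 2) F).det = 1 := by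
      rw [Matrix.det_fin_two_of]; field_simp; ring
    refine ⟨mk _ hdet, -1 / c, ?_⟩
    · rw [eq_mul_inv_iff_mul_eq]
      rw [ext_iff']
      simp only [mul_val, u00, u01, u10, u11]
      show x.1 0 0 * (x.1 0 0 - 1) + x.1 0 1 * c = (x.1 0 0 - 1) * 1 + (-1 / c) * 0 ∧
        x.1 0 0 * (-1 / c) + x.1 0 1 * 0 = (x.1 0 0 - 1) * (-1 / c) + (-1 / c) * 1 ∧
        x.1 1 0 * (x.1 0 0 - 1) + x.1 1 1 * c = c * 1 + 0 * 0 ∧
        x.1 1 0 * (-1 / c) + x.1 1 1 * 0 = c * (-1 / c) + 0 * 1
      refine ⟨?_, ?_, ?_, ?_⟩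
      · linear_combination x.1 0 0 * hx' - hd
      · ring
      · linear_combination c * hx'
      · ring

/-- unipotent elements, different parameters -/
theorem N_u (h2F : (2 : F) ≠ 0) {s t' b : F} (hst : s ≠ t') (hb : b ≠ 0) : N k s t' (u b) = 1 := by
  have hmem : ∀ g : Matrix.SpecialLinearGroup (Fin 2) F,
      g ∈ (Finset.univ : Finset (Matrix.SpecialLinearGroup (Fin 2) F)).filter
        (fun g => t g = s ∧ t (g⁻¹ * u b) = t') ↔ (g.1 0 0 + g.1 1 1 = s ∧ g.1 1 0 = (s - t') / b) := by
    intro g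
    rw [Finset.mem_filter]
    simp only [Finset.mem_univ, true_and, t_inv_mul, u00, u01, u10, u11]
    show g.1 0 0 + g.1 1 1 = s ∧ _ ↔ _
    rw [eq_div_iff hb]
    constructor
    · rintro ⟨h1, h2⟩
      exact ⟨h1, by linear_combination h1 - h2⟩
    · rintro ⟨h1, h2⟩
      exact ⟨h1, by linear_combination h1 - h2⟩
  let φ : Matrix.SpecialLinearGroup (Fin 2) F → Matrix.SpecialLinearGroup (Fin 2) F :=
    fun g => mk !![g.1 1 1, g.1 0 1; g.1 1 0, g.1 0 0] (by
      rw [Matrix.det_fin_two_of]; linear_combination det_eq g)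
  have p00 : ∀ g, (φ g).1 0 0 = g.1 1 1 := fun g => rfl
  have p01 : ∀ g, (φ g).1 0 1 = g.1 0 1 := fun g => rfl
  have p10 : ∀ g, (φ g).1 1 0 = g.1 1 0 := fun g => rfl
  have p11 : ∀ g, (φ g).1 1 1 = g.1 0 0 := fun g => rfl
  show (∑ _g ∈ _, (1 : k)) = 1
  rw [sum_fix two_zero _ φ ?_ ?_]
  · set c := (s - t') / b with hc
    have hc0 : c ≠ 0 := div_ne_zero (sub_ne_zero.mpr hst) hb
    have hdet : (!![s / 2, ((s / 2) ^ 2 - 1) / c; c, s / 2] : Matrix (Fin 2) (Fin 2) F).det = 1 := by
      rw [Matrix.det_fin_two_of, div_mul_cancel₀ _ hc0]; ring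
    have h5 : ((Finset.univ : Finset (Matrix.SpecialLinearGroup (Fin 2) F)).filter
        (fun g => t g = s ∧ t (g⁻¹ * u b) = t')).filter (fun a => φ a = a) = {mk _ hdet} := by
      ext g
      rw [Finset.mem_filter, hmem, Finset.mem_singleton, ext_iff', p00, p01, p10, p11, ext_iff']
      show _ ↔ g.1 0 0 = s / 2 ∧ g.1 0 1 = ((s / 2) ^ 2 - 1) / c ∧ g.1 1 0 = c ∧ g.1 1 1 = s / 2
      have hd := det_eq g
      constructor
      · rintro ⟨⟨h1, h2⟩, h3, -, -, -⟩
        have h4 : g.1 0 0 = s / 2 := by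
          rw [eq_div_iff h2F]; linear_combination h1 - h3
        refine ⟨h4, ?_, h2, by rw [h3, h4]⟩
        rw [eq_div_iff hc0]
        rw [h3, h4, h2] at hd
        linear_combination -hd
      · rintro ⟨h1, h2, h3, h4⟩
        refine ⟨⟨?_, h3⟩, by rw [h1, h4], rfl, rfl, by rw [h1, h4]⟩
        rw [h1, h4]; field_simp; ring
    rw [h5, Finset.sum_singleton]
  · intro g hg
    rw [hmem] at hg ⊢
    rw [p00, p10, p11, add_comm]
    exact hg
  · intro g _
    rw [ext_iff']
    simp only [p00, p01, p10, p11, and_self]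

/-- elements of trace `2`, different parameters -/
theorem N_of_two (h2F : (2 : F) ≠ 0) {s t' : F} (hst : s ≠ t') {x : Matrix.SpecialLinearGroup (Fin 2) F}
    (hx : t x = 2) (hx1 : x ≠ 1) : N k s t' x = 1 := by
  obtain ⟨h, b, rfl⟩ := exists_conj_u hx
  rw [N_conj]
  apply N_u h2F hst
  rintro rfl
  apply hx1
  have : u (0 : F) = 1 := by
    rw [ext_iff', u00, u01, u10, u11]
    exact ⟨rfl, rfl, rfl, rfl⟩
  rw [this, mul_one, mul_inv_cancel]

end Cfsg.Agent.H646.SLT
end

-- part: H646/SLTwoSum
section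
/-!
# Class sums of `SL₂(q)`, `q` odd, in characteristic 2: products and traces
-/

set_option autoImplicit false

namespace Cfsg.Agent.H646.SLT

open Finset

variable {F : Type*} [Field F] [Fintype F] [DecidableEq F]
variable {k : Type*} [Field k] [CharP k 2]
variable {A : Type*} [Ring A] [Algebra k A]

/-- the sum over the elements of trace `r` -/
noncomputable def c (ρ : Matrix.SpecialLinearGroup (Fin 2) F →* A) (r : F) : A :=
  ∑ g ∈ (Finset.univ : Finset (Matrix.SpecialLinearGroup (Fin 2) F)).filter (fun g => t g = r), ρ g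

/-- the sum over the non-trivial elements of trace `2` -/
noncomputable def K (ρ : Matrix.SpecialLinearGroup (Fin 2) F →* A) : A :=
  ∑ g ∈ (Finset.univ : Finset (Matrix.SpecialLinearGroup (Fin 2) F)).filter (fun g => t g = 2 ∧ g ≠ 1), ρ g

theorem c_comm (ρ : Matrix.SpecialLinearGroup (Fin 2) F →* A) (r : F) (h : Matrix.SpecialLinearGroup (Fin 2) F) :
    ρ h * c ρ r = c ρ r * ρ h := by
  unfold c
  rw [Finset.mul_sum, Finset.sum_mul]
  refine Finset.sum_bij' (fun g _ => h * g * h⁻¹) (fun g _ => h⁻¹ * g * h) ?_ ?_ ?_ ?_ ?_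
  · intro g hg
    simp only [Finset.mem_filter, Finset.mem_univ, true_and] at hg ⊢
    rw [t_conj, hg]
  · intro g hg
    simp only [Finset.mem_filter, Finset.mem_univ, true_and] at hg ⊢
    rw [← hg, ← t_conj g h⁻¹, inv_inv]
  · intro g _; group
  · intro g _; group
  · intro g _
    rw [← map_mul, ← map_mul]
    congr 1
    group

theorem c_two (ρ : Matrix.SpecialLinearGroup (Fin 2) F →* A) : c ρ 2 = 1 + K ρ := by
  unfold c K
  have : (Finset.univ : Finset (Matrix.SpecialLinearGroup (Fin 2) F)).filter (fun g => t g = 2) =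
      insert 1 ((Finset.univ : Finset (Matrix.SpecialLinearGroup (Fin 2) F)).filter (fun g => t g = 2 ∧ g ≠ 1)) := by
    ext g
    simp only [Finset.mem_filter, Finset.mem_univ, true_and, Finset.mem_insert]
    constructor
    · intro h
      by_cases h1 : g = 1
      · exact Or.inl h1
      · exact Or.inr ⟨h, h1⟩
    · rintro (rfl | h)
      · exact t_one
      · exact h.1
  rw [this, Finset.sum_insert (by simp), map_one]

/-- even functions give zero -/
theorem sum_even (h2F : (2 : F) ≠ 0) (ρ : Matrix.SpecialLinearGroup (Fin 2) F →* A) (hρ : ρ (-1) = 1)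
    (f : Matrix.SpecialLinearGroup (Fin 2) F → k) (hf : ∀ x, f (-x) = f x) : ∑ x, f x • ρ x = 0 := by
  have hneg : ∀ x, ρ (-x) = ρ x := by
    intro x
    rw [← neg_one_mul, map_mul, hρ, one_mul]
  refine Finset.sum_involution (fun x _ => -x) ?_ ?_ ?_ ?_
  · intro x _
    rw [hf, hneg, ← add_smul, two_zero, zero_smul]
  · intro x _ _
    exact neg_ne h2F x
  · intro x _; exact Finset.mem_univ _
  · intro x _; exact neg_neg x

theorem smul_form (ρ : Matrix.SpecialLinearGroup (Fin 2) F →* A) (P : Matrix.SpecialLinearGroup (Fin 2) F → Prop)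
    [DecidablePred P] : ∑ g ∈ (Finset.univ : Finset (Matrix.SpecialLinearGroup (Fin 2) F)).filter P, ρ g =
      ∑ x, (if P x then (1 : k) else 0) • ρ x := by
  rw [Finset.sum_filter]
  refine Finset.sum_congr rfl fun x _ => ?_
  split_ifs
  · rw [one_smul]
  · rw [zero_smul]

theorem c_mul_c (ρ : Matrix.SpecialLinearGroup (Fin 2) F →* A) (s t' : F) :
    c ρ s * c ρ t' = ∑ x, N k s t' x • ρ x := by
  unfold c
  rw [smul_form (k := k) ρ (fun g => t g = s), smul_form (k := k) ρ (fun g => t g = t'), Finset.sum_mul_sum]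
  have h1 : ∀ g : Matrix.SpecialLinearGroup (Fin 2) F,
      ∑ h, ((if t g = s then (1 : k) else 0) • ρ g) * ((if t h = t' then (1 : k) else 0) • ρ h) =
      ∑ x, (if t g = s ∧ t (g⁻¹ * x) = t' then (1 : k) else 0) • ρ x := by
    intro g
    refine Fintype.sum_equiv (Equiv.mulLeft g) _ _ ?_
    intro h
    rw [Equiv.coe_mulLeft, inv_mul_cancel_left, map_mul, smul_mul_smul_comm]
    congr 1
    by_cases h1 : t g = s <;> by_cases h2 : t h = t' <;> simp [h1, h2]
  rw [Finset.sum_congr rfl (fun g _ => h1 g), Finset.sum_comm]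
  refine Finset.sum_congr rfl fun x _ => ?_
  rw [← Finset.sum_smul]
  (with_reducible congr 1)
  unfold N
  rw [Finset.sum_filter]

/-- **The product of two class sums.** -/
theorem mul_formula (h2F : (2 : F) ≠ 0) (ρ : Matrix.SpecialLinearGroup (Fin 2) F →* A) (hρ : ρ (-1) = 1)
    {s t' : F} (hs0 : s ≠ 0) (hs : s ≠ 2) (hs' : s ≠ -2) (R : Finset F) (h2 : (2 : F) ∉ R) (h2' : (-2 : F) ∉ R)
    (hR : ∀ r : F, r ≠ 2 → r ≠ -2 → (r ^ 2 - r * s * t' + s ^ 2 + t' ^ 2 - 4 = 0 ↔ r ∈ R)) :
    c ρ s * c ρ t' = ∑ r ∈ R, c ρ r + (if s = t' ∨ s = -t' then (1 : k) else 0) • K ρ := by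
  classical
  have h4 : ∀ a : A, a + a = 0 := by
    intro a
    rw [← one_smul k a, ← add_smul, two_zero, zero_smul]
  have hsum : ∑ r ∈ R, c ρ r = ∑ x, (if t x ∈ R then (1 : k) else 0) • ρ x := by
    unfold c
    rw [Finset.sum_congr rfl (fun r _ => smul_form (k := k) ρ (fun g => t g = r)), Finset.sum_comm]
    refine Finset.sum_congr rfl fun x _ => ?_
    rw [← Finset.sum_smul]
    congr 1
    rw [Finset.sum_ite_eq]
  have hK : K ρ = ∑ x, (if t x = 2 ∧ x ≠ 1 then (1 : k) else 0) • ρ x := smul_form (k := k) ρ _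
  rw [hsum, hK, c_mul_c (k := k), Finset.smul_sum, ← Finset.sum_add_distrib]
  rw [← sub_eq_zero, ← Finset.sum_sub_distrib]
  set ε : k := if s = t' ∨ s = -t' then (1 : k) else 0 with hε
  have h5 : ∀ x : Matrix.SpecialLinearGroup (Fin 2) F, N k s t' x • ρ x - ((if t x ∈ R then (1 : k) else 0) • ρ x +
      ε • (if t x = 2 ∧ x ≠ 1 then (1 : k) else 0) • ρ x) =
      (N k s t' x - ((if t x ∈ R then (1 : k) else 0) + ε * (if t x = 2 ∧ x ≠ 1 then (1 : k) else 0))) • ρ x := by
    intro x
    rw [sub_smul, add_smul, mul_smul]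
  rw [Finset.sum_congr rfl (fun x _ => h5 x)]
  apply sum_even h2F ρ hρ
  -- it is enough to treat the elements of trace `2` and the elements of trace different from `±2`
  have hst : s = t' → s ≠ -t' := by
    intro h1 h3
    apply hs0
    have h6 : (2 : F) * s = 0 := by rw [h1] at h3 ⊢; linear_combination h3
    exact (mul_eq_zero.mp h6).resolve_left h2F
  have hN1 : N k s t' (1 : Matrix.SpecialLinearGroup (Fin 2) F) = 0 := by
    by_cases h1 : s = t'
    · subst h1; exact N_self h2F hs hs' t_one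
    · exact N_one h1
  have hN1' : N k s t' (-1 : Matrix.SpecialLinearGroup (Fin 2) F) = 0 := by
    rw [N_neg]
    by_cases h1 : s = -t'
    · rw [← h1]; exact N_self h2F hs hs' t_one
    · exact N_one h1
  have h22 : (2 : F) ≠ -2 := by
    intro h
    have h6 : (2 : F) * 2 = 0 := by linear_combination h
    rcases mul_eq_zero.mp h6 with h | h <;> exact h2F h
  have key : ∀ x : Matrix.SpecialLinearGroup (Fin 2) F, t x = 2 →
      (N k s t' (-x) - ((if t (-x) ∈ R then (1 : k) else 0) + ε * (if t (-x) = 2 ∧ -x ≠ 1 then (1 : k) else 0))) =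
      (N k s t' x - ((if t x ∈ R then (1 : k) else 0) + ε * (if t x = 2 ∧ x ≠ 1 then (1 : k) else 0))) := by
    intro x hx
    rw [t_neg, hx, if_neg h2, if_neg h2']
    rw [if_neg (c := (-2 : F) = 2 ∧ -x ≠ 1) (fun h => h22 h.1.symm)]
    by_cases hx1 : x = 1
    · rw [hx1, hN1, hN1', if_neg (fun h => h.2 rfl)]
    · rw [if_pos ⟨rfl, hx1⟩, N_neg, hε]
      by_cases h1 : s = t'
      · rw [if_pos (Or.inl h1), N_of_two h2F (hst h1) hx hx1]
        subst h1
        rw [N_self h2F hs hs' hx, mul_zero, mul_one, add_zero, zero_add, sub_zero, zero_sub, CharTwo.neg_eq]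
      · rw [N_of_two h2F h1 hx hx1]
        by_cases h3 : s = -t'
        · rw [if_pos (Or.inr h3)]
          rw [← h3, N_self h2F hs hs' hx]
          ring
        · rw [if_neg (not_or.mpr ⟨h1, h3⟩), N_of_two h2F h3 hx hx1]
          ring
  intro x
  by_cases hx : t x = 2
  · exact key x hx
  · by_cases hx' : t x = -2
    · have h1 := key (-x) (by rw [t_neg, hx', neg_neg])
      rw [neg_neg] at h1
      exact h1.symm
    · have hy : t (-x) ≠ 2 := by
        rw [t_neg]; intro h; exact hx' (by rw [← h, neg_neg])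
      have hy' : t (-x) ≠ -2 := by
        rw [t_neg]; intro h; exact hx (neg_inj.mp h)
      have main : ∀ y : Matrix.SpecialLinearGroup (Fin 2) F, t y ≠ 2 → t y ≠ -2 →
          (N k s t' y - ((if t y ∈ R then (1 : k) else 0) + ε * (if t y = 2 ∧ y ≠ 1 then (1 : k) else 0))) = 0 := by
        intro y h7 h8
        rw [N_of_ne h2F h7 h8, if_neg (c := t y = 2 ∧ y ≠ 1) (fun h => h7 h.1), mul_zero, add_zero]
        simp only [hR _ h7 h8, sub_self]
      rw [main x hx hx', main (-x) hy hy']

end Cfsg.Agent.H646.SLT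
end

-- part: H646/SLTwoTrace
section
/-!
# Representations of `SL₂(q)`, `q` odd, in characteristic 2: traces of the class sums on the eigenspaces of the
unipotent elements
-/

set_option autoImplicit false

namespace Cfsg.Agent.H646.SLT

open Finset

section conj

variable {F : Type*} [Field F]

/-- the companion matrix -/
def comp (r : F) : Matrix.SpecialLinearGroup (Fin 2) F := mk !![0, -1; 1, r] (by simp [Matrix.det_fin_two_of])

theorem comp00 (r : F) : (comp r).1 0 0 = 0 := rfl
theorem comp01 (r : F) : (comp r).1 0 1 = -1 := rfl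
theorem comp10 (r : F) : (comp r).1 1 0 = 1 := rfl
theorem comp11 (r : F) : (comp r).1 1 1 = r := rfl

theorem t_comp (r : F) : t (comp r) = r := by
  simp only [t, comp00, comp11, zero_add]

variable [Finite F]

open Polynomial in
/-- a non-degenerate diagonal binary form over a finite field of odd order represents everything -/
theorem exists_diag (h2F : (2 : F) ≠ 0) {D m : F} (hD : D ≠ 0) : ∃ X Y : F, X ^ 2 - D * Y ^ 2 = m := by
  classical
  have : Fintype F := Fintype.ofFinite F
  have hodd : Fintype.card F % 2 = 1 := by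
    apply FiniteField.odd_card_of_char_ne_two
    intro h
    apply h2F
    have : CharP F 2 := by rw [← h]; exact ringChar.charP F
    exact CharTwo.two_eq_zero
  have h1 : degree (X ^ 2 - C m : F[X]) = 2 := by compute_degree!
  have h2 : degree (-(C D * X ^ 2) : F[X]) = 2 := by
    rw [degree_neg, degree_C_mul_X_pow 2 hD]; rfl
  obtain ⟨a, b, h⟩ := FiniteField.exists_root_sum_quadratic h1 h2 hodd
  refine ⟨a, b, ?_⟩
  simp only [eval_sub, eval_pow, eval_X, eval_C, eval_neg, eval_mul] at h
  linear_combination h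

/-- elements with the same trace, different from `±2`, are conjugate -/
theorem exists_conj_comp (h2F : (2 : F) ≠ 0) {g : Matrix.SpecialLinearGroup (Fin 2) F} (h2 : t g ≠ 2)
    (h2' : t g ≠ -2) : ∃ h : Matrix.SpecialLinearGroup (Fin 2) F, g = h * comp (t g) * h⁻¹ := by
  have hd := det_eq g
  have ht : t g = g.1 0 0 + g.1 1 1 := rfl
  set a := g.1 0 0 with ha
  set b := g.1 0 1 with hb
  set c := g.1 1 0 with hc
  set d := g.1 1 1 with hdd
  have hD : (d - a) ^ 2 + 4 * b * c ≠ 0 := by
    have : (d - a) ^ 2 + 4 * b * c = (t g - 2) * (t g + 2) := by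
      rw [ht]; linear_combination -4 * hd
    rw [this]
    exact mul_ne_zero (sub_ne_zero.mpr h2) (fun h => h2' (eq_neg_of_add_eq_zero_left h))
  have h4F : (4 : F) ≠ 0 := by
    have : (4 : F) = 2 * 2 := by norm_num
    rw [this]; exact mul_ne_zero h2F h2F
  obtain ⟨x, y, hxy⟩ : ∃ x y : F, c * x ^ 2 + (d - a) * x * y - b * y ^ 2 = 1 := by
    by_cases hc0 : c = 0
    · by_cases hb0 : b = 0
      · have hda : d - a ≠ 0 := by
          intro h
          apply hD
          rw [h, hb0]; ring
        refine ⟨1, 1 / (d - a), ?_⟩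
        rw [hc0, hb0]
        field_simp
        ring
      · obtain ⟨X, Y, h⟩ := exists_diag h2F (m := -4 * b) hD
        refine ⟨Y, (X + (d - a) * Y) / (2 * b), ?_⟩
        apply mul_left_cancel₀ (mul_ne_zero (mul_ne_zero h4F hb0) (one_ne_zero))
        have h5 : (X + (d - a) * Y) / (2 * b) * (2 * b) = X + (d - a) * Y := div_mul_cancel₀ _ (mul_ne_zero h2F hb0)
        generalize (X + (d - a) * Y) / (2 * b) = y at h5
        have h6 : X = y * (2 * b) - (d - a) * Y := by rw [h5]; ring
        rw [h6] at h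
        linear_combination -h
    · obtain ⟨X, Y, h⟩ := exists_diag h2F (m := 4 * c) hD
      refine ⟨(X - (d - a) * Y) / (2 * c), Y, ?_⟩
      apply mul_left_cancel₀ (mul_ne_zero h4F hc0)
      have h5 : (X - (d - a) * Y) / (2 * c) * (2 * c) = X - (d - a) * Y := div_mul_cancel₀ _ (mul_ne_zero h2F hc0)
      generalize (X - (d - a) * Y) / (2 * c) = x at h5
      have h6 : X = x * (2 * c) + (d - a) * Y := by rw [h5]; ring
      rw [h6] at h
      linear_combination h
  have hdet : (!![x, a * x + b * y; y, c * x + d * y] : Matrix (Fin 2) (Fin 2) F).det = 1 := by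
    rw [Matrix.det_fin_two_of]; linear_combination hxy
  refine ⟨mk _ hdet, ?_⟩
  rw [eq_mul_inv_iff_mul_eq, ext_iff']
  simp only [mul_val, comp00, comp01, comp10, comp11, mk_val]
  show a * x + b * y = x * 0 + (a * x + b * y) * 1 ∧
    a * (a * x + b * y) + b * (c * x + d * y) = x * (-1) + (a * x + b * y) * t g ∧
    c * x + d * y = y * 0 + (c * x + d * y) * 1 ∧
    c * (a * x + b * y) + d * (c * x + d * y) = y * (-1) + (c * x + d * y) * t g
  refine ⟨by ring, ?_, by ring, ?_⟩
  · rw [ht]; linear_combination -x * hd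
  · rw [ht]; linear_combination -y * hd

end conj

section chartwo

variable {k : Type*} [Field k] [CharP k 2] {V : Type*} [AddCommGroup V] [Module k V] [FiniteDimensional k V]

/-- the trace of a square, in characteristic 2 -/
theorem trace_sq (f : Module.End k V) : LinearMap.trace k V (f * f) = (LinearMap.trace k V f) ^ 2 := by
  classical
  set b := Module.finBasis k V
  rw [LinearMap.trace_eq_matrix_trace k b, LinearMap.trace_eq_matrix_trace k b, LinearMap.toMatrix_mul]
  set M := LinearMap.toMatrix b b f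
  simp only [Matrix.trace, Matrix.diag_apply, Matrix.mul_apply]
  have h1 : (∑ i, M i i) ^ 2 = ∑ i, ∑ j, (if i = j then M i j * M j i else 0) := by
    rw [CharTwo.sum_sq]
    refine Finset.sum_congr rfl fun i _ => ?_
    rw [Finset.sum_ite_eq, if_pos (Finset.mem_univ _), sq]
  rw [h1, ← sub_eq_zero, ← Finset.sum_sub_distrib]
  simp only [← Finset.sum_sub_distrib]
  rw [← Finset.sum_product']
  refine Finset.sum_involution (fun p _ => (p.2, p.1)) ?_ ?_ ?_ ?_
  · rintro ⟨i, j⟩ _
    by_cases h : i = j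
    · simp [h]
    · simp only [h, Ne.symm h, if_false, sub_zero]
      rw [mul_comm (M j i)]
      exact two_zero _
  · rintro ⟨i, j⟩ _ h h'
    simp only [Prod.mk.injEq] at h'
    apply h
    simp [h'.2]
  · rintro ⟨i, j⟩ _; exact Finset.mem_univ _
  · rintro ⟨i, j⟩ _; rfl

/-- an operator with square 1 on a space of even dimension has trace 0 in characteristic 2 -/
theorem trace_of_sq_one (hV : Even (Module.finrank k V)) {f : Module.End k V} (hf : f * f = 1) :
    LinearMap.trace k V f = 0 := by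
  have h1 : LinearMap.trace k V (1 : Module.End k V) = 0 := by
    rw [LinearMap.trace_one]
    obtain ⟨n, hn⟩ := hV
    rw [hn, Nat.cast_add, two_zero]
  have h2 := trace_sq f
  rw [hf, h1] at h2
  exact pow_eq_zero_iff two_ne_zero |>.mp h2.symm

end chartwo

section traces

variable {F : Type*} [Field F] [Fintype F] [DecidableEq F]
variable {k : Type*} [Field k] [CharP k 2] {V : Type*} [AddCommGroup V] [Module k V] [FiniteDimensional k V]

/-- the trace is a function of the trace -/
theorem exists_T (h2F : (2 : F) ≠ 0) (ρ : Matrix.SpecialLinearGroup (Fin 2) F →* Module.End k V) (hρ : ρ (-1) = 1)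
    (hV : Even (Module.finrank k V))
    (hu : ∀ g, t g = 2 → g ≠ 1 → LinearMap.trace k V (ρ g) = 0) :
    ∃ T : F → k, (∀ g, LinearMap.trace k V (ρ g) = T (t g)) ∧ T 2 = 0 ∧ T (-2) = 0 ∧ T 0 = 0 ∧ (∀ r, T (-r) = T r) := by
  have hneg : ∀ x, ρ (-x) = ρ x := by
    intro x
    rw [← neg_one_mul, map_mul, hρ, one_mul]
  have h1 : LinearMap.trace k V (ρ 1) = 0 := by
    apply trace_of_sq_one hV
    rw [← map_mul, mul_one, map_one]
  have hu2 : ∀ g, t g = 2 → LinearMap.trace k V (ρ g) = 0 := by
    intro g hg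
    by_cases hg1 : g = 1
    · rw [hg1, h1]
    · exact hu g hg hg1
  have hum2 : ∀ g, t g = -2 → LinearMap.trace k V (ρ g) = 0 := by
    intro g hg
    rw [← hneg]
    exact hu2 _ (by rw [t_neg, hg, neg_neg])
  have hT : ∀ g, LinearMap.trace k V (ρ g) = LinearMap.trace k V (ρ (comp (t g))) := by
    intro g
    by_cases h2 : t g = 2
    · rw [hu2 g h2, hu2 _ (by rw [t_comp, h2])]
    · by_cases h2' : t g = -2
      · rw [hum2 g h2', hum2 _ (by rw [t_comp, h2'])]
      · obtain ⟨h, hh⟩ := exists_conj_comp h2F h2 h2'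
        rw [hh]
        rw [map_mul, LinearMap.trace_mul_comm, ← map_mul, ← mul_assoc, inv_mul_cancel, one_mul, t_conj, t_comp]
  refine ⟨fun r => LinearMap.trace k V (ρ (comp r)), hT, hu2 _ (t_comp 2), hum2 _ (t_comp _), ?_, ?_⟩
  · have h3 : comp (0 : F) * comp 0 = -1 := by
      rw [ext_iff']
      simp only [mul_val, neg_val, comp00, comp01, comp10, comp11]
      show _ = -(1 : F) ∧ _ = -(0 : F) ∧ _ = -(0 : F) ∧ _ = -(1 : F)
      refine ⟨?_, ?_, ?_, ?_⟩ <;> ring
    apply trace_of_sq_one hV
    rw [← map_mul, h3, hρ]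
  · intro r
    have h3 := hT (-comp r)
    rw [hneg, t_neg, t_comp] at h3
    exact h3.symm

theorem sum_T (h2F : (2 : F) ≠ 0) {T : F → k} (h0 : T 0 = 0) (hneg : ∀ r, T (-r) = T r) : ∑ r, T r = 0 := by
  refine Finset.sum_involution (fun r _ => -r) ?_ ?_ ?_ ?_
  · intro r _
    rw [hneg]
    exact two_zero _
  · intro r _ h h'
    apply h
    have h6 : (2 : F) * r = 0 := by linear_combination -h'
    rw [(mul_eq_zero.mp h6).resolve_left h2F, h0]
  · intro r _; exact Finset.mem_univ _
  · intro r _; exact neg_neg r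

variable (ρ : Matrix.SpecialLinearGroup (Fin 2) F →* Module.End k V)

/-- the trace of a class sum times an element -/
theorem trace_c_mul {T : F → k} (hT : ∀ g, LinearMap.trace k V (ρ g) = T (t g)) (r : F)
    (x : Matrix.SpecialLinearGroup (Fin 2) F) :
    LinearMap.trace k V (c ρ r * ρ x) = ∑ t', N k r t' x * T t' := by
  classical
  have h1 : LinearMap.trace k V (c ρ r * ρ x) =
      ∑ g ∈ (Finset.univ : Finset (Matrix.SpecialLinearGroup (Fin 2) F)).filter (fun g => t g = r), T (t (g * x)) := by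
    unfold c
    rw [Finset.sum_mul, map_sum]
    refine Finset.sum_congr rfl fun g _ => ?_
    rw [← map_mul, hT]
  have h2 : ∑ g ∈ (Finset.univ : Finset (Matrix.SpecialLinearGroup (Fin 2) F)).filter (fun g => t g = r), T (t (g * x)) =
      ∑ g ∈ (Finset.univ : Finset (Matrix.SpecialLinearGroup (Fin 2) F)).filter (fun g => t g = r), T (t (g⁻¹ * x)) := by
    refine Finset.sum_bij' (fun g _ => g⁻¹) (fun g _ => g⁻¹) ?_ ?_ ?_ ?_ ?_
    · intro g hg
      simp only [Finset.mem_filter, Finset.mem_univ, true_and] at hg ⊢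
      rw [t_inv, hg]
    · intro g hg
      simp only [Finset.mem_filter, Finset.mem_univ, true_and] at hg ⊢
      rw [t_inv, hg]
    · intro g _; exact inv_inv g
    · intro g _; exact inv_inv g
    · intro g _; rw [inv_inv]
  rw [h1, h2, ← Finset.sum_fiberwise_of_maps_to (g := fun g => t (g⁻¹ * x)) (fun _ _ => Finset.mem_univ _)]
  refine Finset.sum_congr rfl fun t' _ => ?_
  unfold N
  rw [Finset.filter_filter, Finset.sum_mul]
  refine Finset.sum_congr rfl fun g hg => ?_
  simp only [Finset.mem_filter, Finset.mem_univ, true_and] at hg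
  rw [hg.2, one_mul]

variable {ρ}

theorem trace_c_mul_u (h2F : (2 : F) ≠ 0) {T : F → k} (hT : ∀ g, LinearMap.trace k V (ρ g) = T (t g))
    (h0 : T 0 = 0) (hneg : ∀ r, T (-r) = T r) {r : F} (hr : r ≠ 2) (hr' : r ≠ -2) {b : F} (hb : b ≠ 0) :
    LinearMap.trace k V (c ρ r * ρ (u b)) = T r := by
  rw [trace_c_mul ρ hT]
  have h1 : ∀ t', N k r t' (u b) * T t' = T t' + (if t' = r then T t' else 0) := by
    intro t'
    by_cases h : t' = r
    · rw [h, if_pos rfl, N_self h2F hr hr', zero_mul, two_zero]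
      simp only [t, u00, u11]; norm_num
    · rw [if_neg h, N_u h2F (Ne.symm h) hb, one_mul, add_zero]
  rw [Finset.sum_congr rfl (fun t' _ => h1 t'), Finset.sum_add_distrib, sum_T h2F h0 hneg, zero_add,
    Finset.sum_ite_eq', if_pos (Finset.mem_univ _)]

theorem trace_c (h2F : (2 : F) ≠ 0) {T : F → k} (hT : ∀ g, LinearMap.trace k V (ρ g) = T (t g))
    {r : F} (hr : r ≠ 2) (hr' : r ≠ -2) : LinearMap.trace k V (c ρ r) = 0 := by
  have h1 := trace_c_mul ρ hT r 1
  rw [map_one, mul_one] at h1
  rw [h1]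
  apply Finset.sum_eq_zero
  intro t' _
  by_cases h : r = t'
  · rw [← h, N_self h2F hr hr' t_one, zero_mul]
  · rw [N_one h, zero_mul]

theorem trace_K {T : F → k} (hT : ∀ g, LinearMap.trace k V (ρ g) = T (t g)) (h2 : T 2 = 0) :
    LinearMap.trace k V (K ρ) = 0 := by
  unfold K
  rw [map_sum]
  apply Finset.sum_eq_zero
  intro g hg
  simp only [Finset.mem_filter, Finset.mem_univ, true_and] at hg
  rw [hT, hg.1, h2]

theorem trace_K_mul_u (h2F : (2 : F) ≠ 0) {T : F → k} (hT : ∀ g, LinearMap.trace k V (ρ g) = T (t g))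
    (h0 : T 0 = 0) (hneg : ∀ r, T (-r) = T r) (h2 : T 2 = 0) {b : F} (hb : b ≠ 0) :
    LinearMap.trace k V (K ρ * ρ (u b)) = 0 := by
  have h1 : LinearMap.trace k V (c ρ 2 * ρ (u b)) = 0 := by
    rw [trace_c_mul ρ hT]
    have h3 : ∀ t', N k 2 t' (u b) * T t' = T t' := by
      intro t'
      by_cases h : t' = 2
      · rw [h, h2, mul_zero]
      · rw [N_u h2F (Ne.symm h) hb, one_mul]
    rw [Finset.sum_congr rfl (fun t' _ => h3 t'), sum_T h2F h0 hneg]
  rw [c_two, add_mul, one_mul, map_add, hT] at h1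
  have h4 : t (u b) = 2 := by
    simp only [t, u00, u11]; norm_num
  rwa [h4, h2, zero_add] at h1

theorem u_add (a b : F) : u a * u b = u (a + b) := by
  rw [ext_iff']
  simp only [mul_val, u00, u01, u10, u11]
  refine ⟨?_, ?_, ?_, ?_⟩ <;> ring

/-- the projection onto an eigenspace of the unipotent elements (up to a factor) -/
noncomputable def proj (ρ : Matrix.SpecialLinearGroup (Fin 2) F →* Module.End k V) (χ : AddChar F k) :
    Module.End k V := ∑ b, χ (-b) • ρ (u b)

theorem u_mul_proj (χ : AddChar F k) (a : F) : ρ (u a) * proj ρ χ = χ a • proj ρ χ := by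
  unfold proj
  rw [Finset.mul_sum, Finset.smul_sum]
  refine Fintype.sum_equiv (Equiv.addLeft a) _ _ ?_
  intro b
  rw [Equiv.coe_addLeft, mul_smul_comm, ← map_mul, u_add, smul_smul, ← AddChar.map_add_eq_mul]
  congr 2
  ring

theorem u_zero : u (0 : F) = 1 := by
  rw [ext_iff', u00, u01, u10, u11]
  exact ⟨rfl, rfl, rfl, rfl⟩

theorem trace_mul_proj {χ : AddChar F k} (hχ : χ ≠ 0) {z : Module.End k V} {α : k}
    (h0 : LinearMap.trace k V z = 0) (h1 : ∀ b, b ≠ 0 → LinearMap.trace k V (z * ρ (u b)) = α) :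
    LinearMap.trace k V (z * proj ρ χ) = α := by
  classical
  unfold proj
  rw [Finset.mul_sum, map_sum]
  have h2 : ∀ b : F, LinearMap.trace k V (z * χ (-b) • ρ (u b)) = χ (-b) * α - (if b = 0 then α else 0) := by
    intro b
    rw [mul_smul_comm, map_smul, smul_eq_mul]
    by_cases hb : b = 0
    · subst hb
      rw [u_zero, map_one, mul_one, h0, if_pos rfl, neg_zero, AddChar.map_zero_eq_one]
      ring
    · rw [h1 b hb, if_neg hb, sub_zero]
  rw [Finset.sum_congr rfl (fun b _ => h2 b), Finset.sum_sub_distrib, ← Finset.sum_mul, Finset.sum_ite_eq',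
    if_pos (Finset.mem_univ _)]
  have h3 : ∑ b : F, χ (-b) = 0 := by
    have h4 : ∑ b : F, χ (-b) = ∑ b : F, χ b := Fintype.sum_equiv (Equiv.neg F) _ _ (fun b => rfl)
    rw [h4, AddChar.sum_eq_ite, if_neg hχ]
  rw [h3, zero_mul, zero_sub, CharTwo.neg_eq]

theorem trace_c_proj (h2F : (2 : F) ≠ 0) {T : F → k} (hT : ∀ g, LinearMap.trace k V (ρ g) = T (t g))
    (h0 : T 0 = 0) (hneg : ∀ r, T (-r) = T r) {r : F} (hr : r ≠ 2) (hr' : r ≠ -2) {χ : AddChar F k} (hχ : χ ≠ 0) :
    LinearMap.trace k V (c ρ r * proj ρ χ) = T r :=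
  trace_mul_proj hχ (trace_c h2F hT hr hr') (fun _ hb => trace_c_mul_u h2F hT h0 hneg hr hr' hb)

theorem trace_K_proj (h2F : (2 : F) ≠ 0) {T : F → k} (hT : ∀ g, LinearMap.trace k V (ρ g) = T (t g))
    (h0 : T 0 = 0) (hneg : ∀ r, T (-r) = T r) (h2 : T 2 = 0) {χ : AddChar F k} (hχ : χ ≠ 0) :
    LinearMap.trace k V (K ρ * proj ρ χ) = 0 :=
  trace_mul_proj hχ (trace_K hT h2) (fun _ hb => trace_K_mul_u h2F hT h0 hneg h2 hb)

end traces

end Cfsg.Agent.H646.SLT
end

-- part: H646/LTwoNineteen
section
/-!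
# Representations of `SL₂(19)` in characteristic 2

`five_le` : let `ρ` be a representation of `SL₂(19)` on a space `V` of even dimension over an algebraically closed field of
characteristic 2, trivial on `-1`, such that the trace is `1` on the elements of order 5 and on the cubes of the
elements of order 9, `0` on the elements of order 19, and in the prime field on the elements of order 9. Then every
`ζ ≠ 1` with `ζ ^ 19 = 1` is an eigenvalue of `[1, 1; 0, 1]` of multiplicity at least 5.
-/

set_option autoImplicit false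

namespace Cfsg.Agent.H646.LTN

open Finset Cfsg.Agent.H646.SLT

instance fact19 : Fact (Nat.Prime 19) := ⟨by norm_num⟩

section rel

variable {k : Type*} [Field k] [CharP k 2] {A : Type*} [Ring A] [Algebra k A]

theorem two_ne : (2 : ZMod 19) ≠ 0 := by decide

theorem char_two (k : Type*) [Field k] [CharP k 2] {A : Type*} [Ring A] [Algebra k A] (a : A) : a + a = 0 := by
  rw [← one_smul k a, ← add_smul, two_zero, zero_smul]

variable (ρ : Matrix.SpecialLinearGroup (Fin 2) (ZMod 19) →* A) (hρ : ρ (-1) = 1)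

include hρ

/-- a product, given by a decidable check -/
theorem prod_of (k : Type*) [Field k] [CharP k 2] [Algebra k A] (s t' : ZMod 19) (R : Finset (ZMod 19))
    (h : (s ≠ 0 ∧ s ≠ 2 ∧ s ≠ -2) ∧ (2 : ZMod 19) ∉ R ∧ (-2 : ZMod 19) ∉ R ∧ ∀ r : ZMod 19, r ≠ 2 → r ≠ -2 →
      (r ^ 2 - r * s * t' + s ^ 2 + t' ^ 2 - 4 = 0 ↔ r ∈ R)) :
    c ρ s * c ρ t' = ∑ r ∈ R, c ρ r + (if s = t' ∨ s = -t' then (1 : k) else 0) • K ρ :=
  mul_formula two_ne ρ hρ h.1.1 h.1.2.1 h.1.2.2 R h.2.1 h.2.2.1 h.2.2.2

theorem r1 (k : Type*) [Field k] [CharP k 2] [Algebra k A] : c ρ 9 * c ρ 9 = c ρ 3 + K ρ := by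
  rw [prod_of ρ hρ k 9 9 {3} (by decide +kernel), Finset.sum_singleton, if_pos (Or.inl rfl), one_smul]

theorem r2 (k : Type*) [Field k] [CharP k 2] [Algebra k A] : c ρ 9 * c ρ 3 = c ρ 18 + c ρ 9 := by
  rw [prod_of ρ hρ k 9 3 {18, 9} (by decide +kernel), Finset.sum_pair (by decide), if_neg (by decide), zero_smul, add_zero]

theorem r3 (k : Type*) [Field k] [CharP k 2] [Algebra k A] : c ρ 9 * c ρ 18 = c ρ 7 + c ρ 3 := by
  rw [prod_of ρ hρ k 9 18 {7, 3} (by decide +kernel), Finset.sum_pair (by decide), if_neg (by decide), zero_smul, add_zero]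

theorem r4 (k : Type*) [Field k] [CharP k 2] [Algebra k A] : c ρ 9 * c ρ 7 = c ρ 7 + c ρ 18 := by
  rw [prod_of ρ hρ k 9 7 {7, 18} (by decide +kernel), Finset.sum_pair (by decide), if_neg (by decide), zero_smul, add_zero]

theorem r5 (k : Type*) [Field k] [CharP k 2] [Algebra k A] : c ρ 9 * K ρ = 0 := by
  have h := prod_of ρ hρ k 9 2 {9} (by decide +kernel)
  rw [Finset.sum_singleton, if_neg (by decide), zero_smul, add_zero, c_two, mul_add, mul_one] at h
  exact left_eq_add.mp h.symm

theorem r6 (k : Type*) [Field k] [CharP k 2] [Algebra k A] : c ρ 4 * c ρ 4 = c ρ 14 + K ρ := by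
  rw [prod_of ρ hρ k 4 4 {14} (by decide +kernel), Finset.sum_singleton, if_pos (Or.inl rfl), one_smul]

theorem r7 (k : Type*) [Field k] [CharP k 2] [Algebra k A] : c ρ 4 * c ρ 14 = c ρ 14 + c ρ 4 := by
  rw [prod_of ρ hρ k 4 14 {14, 4} (by decide +kernel), Finset.sum_pair (by decide), if_neg (by decide), zero_smul, add_zero]

theorem r8 (k : Type*) [Field k] [CharP k 2] [Algebra k A] : c ρ 4 * K ρ = 0 := by
  have h := prod_of ρ hρ k 4 2 {4} (by decide +kernel)
  rw [Finset.sum_singleton, if_neg (by decide), zero_smul, add_zero, c_two, mul_add, mul_one] at h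
  exact left_eq_add.mp h.symm

theorem r9 (k : Type*) [Field k] [CharP k 2] [Algebra k A] : c ρ 9 * c ρ 4 = 0 := by
  rw [prod_of ρ hρ k 9 4 ∅ (by decide +kernel), Finset.sum_empty, if_neg (by decide), zero_smul, add_zero]

theorem r10 (k : Type*) [Field k] [CharP k 2] [Algebra k A] : c ρ 9 * c ρ 14 = 0 := by
  rw [prod_of ρ hρ k 9 14 ∅ (by decide +kernel), Finset.sum_empty, if_neg (by decide), zero_smul, add_zero]

theorem r11 (k : Type*) [Field k] [CharP k 2] [Algebra k A] : c ρ 4 * c ρ 3 = 0 := by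
  rw [prod_of ρ hρ k 4 3 ∅ (by decide +kernel), Finset.sum_empty, if_neg (by decide), zero_smul, add_zero]

theorem r12 (k : Type*) [Field k] [CharP k 2] [Algebra k A] : c ρ 4 * c ρ 18 = 0 := by
  rw [prod_of ρ hρ k 4 18 ∅ (by decide +kernel), Finset.sum_empty, if_neg (by decide), zero_smul, add_zero]

theorem r13 (k : Type*) [Field k] [CharP k 2] [Algebra k A] : c ρ 4 * c ρ 7 = 0 := by
  rw [prod_of ρ hρ k 4 7 ∅ (by decide +kernel), Finset.sum_empty, if_neg (by decide), zero_smul, add_zero]

theorem r14 (k : Type*) [Field k] [CharP k 2] [Algebra k A] : c ρ 4 * c ρ 9 = 0 := by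
  rw [prod_of ρ hρ k 4 9 ∅ (by decide +kernel), Finset.sum_empty, if_neg (by decide), zero_smul, add_zero]

/-- the powers of `Z = c 9 + c 4` -/
theorem Z_powers (k : Type*) [Field k] [CharP k 2] [Algebra k A] {Z : A} (hZ : Z = c ρ 9 + c ρ 4) :
    Z ^ 2 = c ρ 3 + c ρ 14 ∧ Z ^ 3 = c ρ 18 + c ρ 9 + c ρ 14 + c ρ 4 ∧ Z ^ 4 = c ρ 7 + c ρ 4 ∧
    Z ^ 5 = c ρ 7 + c ρ 18 + c ρ 14 + K ρ ∧ Z ^ 6 = c ρ 18 + c ρ 3 + c ρ 14 + c ρ 4 ∧
    Z ^ 7 = c ρ 7 + c ρ 3 + c ρ 18 + c ρ 9 + c ρ 4 + K ρ ∧ Z ^ 8 = c ρ 9 + c ρ 14 := by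
  have e := char_two k (A := A)
  have e1 : ∀ a b : A, a = b ↔ a + b = 0 := by
    intro a b
    constructor
    · rintro rfl; exact e a
    · intro h
      have := congrArg (· + b) h
      simp only [add_assoc, e, add_zero, zero_add] at this
      exact this
  have q1 := r1 ρ hρ k
  have q2 := r2 ρ hρ k
  have q3 := r3 ρ hρ k
  have q4 := r4 ρ hρ k
  have q5 := r5 ρ hρ k
  have q6 := r6 ρ hρ k
  have q7 := r7 ρ hρ k
  have q8 := r8 ρ hρ k
  have q9 := r9 ρ hρ k
  have q10 := r10 ρ hρ k
  have q11 := r11 ρ hρ k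
  have q12 := r12 ρ hρ k
  have q13 := r13 ρ hρ k
  have q14 := r14 ρ hρ k
  have h2 : Z ^ 2 = c ρ 3 + c ρ 14 := by
    rw [pow_two, hZ]
    simp only [mul_add, add_mul, q1, q6, q9, q14]
    linear_combination (norm := module) e (K ρ)
  have h3 : Z ^ 3 = c ρ 18 + c ρ 9 + c ρ 14 + c ρ 4 := by
    rw [pow_succ', h2, hZ]
    simp only [mul_add, add_mul, q2, q7, q10, q11]
    module
  have h4 : Z ^ 4 = c ρ 7 + c ρ 4 := by
    rw [pow_succ', h3, hZ]
    simp only [mul_add, add_mul, q1, q3, q6, q7, q9, q10, q12, q14]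
    linear_combination (norm := module) e (c ρ 3) + e (K ρ) + e (c ρ 14)
  have h5 : Z ^ 5 = c ρ 7 + c ρ 18 + c ρ 14 + K ρ := by
    rw [pow_succ', h4, hZ]
    simp only [mul_add, add_mul, q4, q6, q9, q13]
    module
  have h6 : Z ^ 6 = c ρ 18 + c ρ 3 + c ρ 14 + c ρ 4 := by
    rw [pow_succ', h5, hZ]
    simp only [mul_add, add_mul, q3, q4, q5, q7, q8, q10, q12, q13]
    linear_combination (norm := module) e (c ρ 7)
  have h7 : Z ^ 7 = c ρ 7 + c ρ 3 + c ρ 18 + c ρ 9 + c ρ 4 + K ρ := by
    rw [pow_succ', h6, hZ]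
    simp only [mul_add, add_mul, q2, q3, q6, q7, q9, q10, q11, q12]
    linear_combination (norm := module) e (c ρ 14)
  have h8 : Z ^ 8 = c ρ 9 + c ρ 14 := by
    rw [pow_succ', h7, hZ]
    simp only [mul_add, add_mul, q1, q2, q3, q4, q5, q6, q8, q9, q11, q12, q13, q14]
    linear_combination (norm := module) e (c ρ 7) + e (c ρ 18) + e (c ρ 3) + e (K ρ)
  exact ⟨h2, h3, h4, h5, h6, h7, h8⟩

end rel

section main

variable {k : Type*} [Field k] [CharP k 2] {V : Type*} [AddCommGroup V] [Module k V] [FiniteDimensional k V]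

/-- the eigenvectors -/
theorem exists_eigenvector (ρ : Matrix.SpecialLinearGroup (Fin 2) (ZMod 19) →* Module.End k V) (hρ : ρ (-1) = 1)
    {T : ZMod 19 → k} (hT : ∀ g, LinearMap.trace k V (ρ g) = T (t g)) (hT2 : T 2 = 0) (hT0 : T 0 = 0)
    (hTneg : ∀ r, T (-r) = T r) {a : k} (h9 : T 9 = a) (h3 : T 3 = a) (h7 : T 7 = a) (h18 : T 18 = 1)
    (h4 : T 4 = 1) (h14 : T 14 = 1) {χ : AddChar (ZMod 19) k} (hχ : χ ≠ 0) {μ : k} (hμ : μ ^ 5 + μ ^ 4 + 1 = 0) :
    ∃ x : V, x ≠ 0 ∧ (c ρ 9 + c ρ 4) x = μ • x ∧ ρ (u 1) x = χ 1 • x := by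
  have e := char_two k (A := Module.End k V)
  have e' : ∀ z : k, z + z = 0 := two_zero
  obtain ⟨Z, hZ⟩ : ∃ Z : Module.End k V, Z = c ρ 9 + c ρ 4 := ⟨_, rfl⟩
  rw [← hZ]
  obtain ⟨z2, z3, z4, z5, z6, z7, z8⟩ := Z_powers ρ hρ k hZ
  obtain ⟨y, hy⟩ : ∃ y : Module.End k V, y = Z ^ 7 + Z ^ 6 + (μ + 1) • (Z ^ 6 + Z ^ 5) + (μ ^ 2 + μ) • (Z ^ 5 + Z ^ 4) +
    (μ ^ 3 + μ ^ 2) • (Z ^ 4 + Z ^ 3) + (μ ^ 4 + μ ^ 3) • (Z ^ 3 + Z ^ 2) := ⟨_, rfl⟩
  have hZy : Z * y = μ • y := by
    rw [hy]
    simp only [mul_add, mul_smul_comm, ← pow_succ']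
    have h1 : Z ^ (7 + 1) + Z ^ 6 + Z ^ 3 + Z ^ 2 = 0 := by
      rw [show 7 + 1 = 8 from rfl, z8, z6, z3, z2]
      linear_combination (norm := module) e (c ρ 9) + e (c ρ 14) + e (c ρ 14) + e (c ρ 18) + e (c ρ 3) + e (c ρ 4)
    have h2 : (μ ^ 5 + μ ^ 4 + 1) • (Z ^ 3 + Z ^ 2) = 0 := by rw [hμ, zero_smul]
    linear_combination (norm := module) h1 + e (Z ^ 7) - h2
  -- the trace
  have p9 := trace_c_proj two_ne hT hT0 hTneg (r := 9) (by decide) (by decide) hχ
  have p3 := trace_c_proj two_ne hT hT0 hTneg (r := 3) (by decide) (by decide) hχ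
  have p7 := trace_c_proj two_ne hT hT0 hTneg (r := 7) (by decide) (by decide) hχ
  have p18 := trace_c_proj two_ne hT hT0 hTneg (r := 18) (by decide) (by decide) hχ
  have p4 := trace_c_proj two_ne hT hT0 hTneg (r := 4) (by decide) (by decide) hχ
  have p14 := trace_c_proj two_ne hT hT0 hTneg (r := 14) (by decide) (by decide) hχ
  have pK := trace_K_proj two_ne hT hT0 hTneg hT2 hχ
  rw [h9] at p9
  rw [h3] at p3
  rw [h7] at p7
  rw [h18] at p18
  rw [h4] at p4
  rw [h14] at p14
  have htr : LinearMap.trace k V (y * proj ρ χ) = μ ^ 2 := by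
    rw [hy, z2, z3, z4, z5, z6, z7]
    simp only [add_mul, smul_mul_assoc, map_add, map_smul, smul_eq_mul, p9, p3, p7, p18, p4, p14, pK]
    have h2 : (2 : k) = 0 := CharTwo.two_eq_zero
    linear_combination (2 * a + 5 + 4 * μ + μ ^ 2 + (μ + 1) * a + (μ ^ 2 + μ) * a + (μ ^ 3 + μ ^ 2) * (a + 2) +
      (μ ^ 4 + μ ^ 3) * (a + 2)) * h2
  have hμ0 : μ ≠ 0 := by
    rintro rfl
    norm_num at hμ
  have hne : y * proj ρ χ ≠ 0 := by
    intro h
    rw [h, map_zero] at htr
    exact pow_ne_zero 2 hμ0 htr.symm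
  obtain ⟨v, hv⟩ : ∃ v, (y * proj ρ χ) v ≠ 0 := by
    by_contra h
    push Not at h
    exact hne (LinearMap.ext h)
  refine ⟨(y * proj ρ χ) v, hv, ?_, ?_⟩
  · rw [← Module.End.mul_apply, ← mul_assoc, hZy, smul_mul_assoc, LinearMap.smul_apply]
  · have hc : Commute (ρ (u 1)) Z := by
      rw [hZ]
      exact Commute.add_right (c_comm ρ 9 (u 1)) (c_comm ρ 4 (u 1))
    have hup : ρ (u 1) * proj ρ χ = χ 1 • proj ρ χ := u_mul_proj χ 1
    generalize ρ (u 1) = U at hc hup ⊢
    generalize proj ρ χ = P at hup ⊢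
    have hcy : Commute U y := by
      rw [hy]
      have hcp : ∀ n : ℕ, Commute U (Z ^ n) := fun n => hc.pow_right n
      exact ((((((hcp 7).add_right (hcp 6)).add_right (((hcp 6).add_right (hcp 5)).smul_right _)).add_right
        (((hcp 5).add_right (hcp 4)).smul_right _)).add_right (((hcp 4).add_right (hcp 3)).smul_right _)).add_right
        (((hcp 3).add_right (hcp 2)).smul_right _))
    rw [← Module.End.mul_apply, ← mul_assoc, hcy.eq, mul_assoc, hup, mul_smul_comm, LinearMap.smul_apply]

open Polynomial in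
/-- five roots -/
theorem card_roots (k : Type*) [Field k] [CharP k 2] [IsAlgClosed k] :
    ∃ R : Finset k, R.card = 5 ∧ ∀ μ ∈ R, μ ^ 5 + μ ^ 4 + 1 = 0 := by
  classical
  have h2 : (2 : k[X]) = 0 := by
    have : (2 : k[X]) = C (2 : k) := rfl
    rw [this, CharTwo.two_eq_zero, C_0]
  have hdeg : natDegree (X ^ 5 + X ^ 4 + 1 : k[X]) = 5 := by compute_degree!
  have hne : (X ^ 5 + X ^ 4 + 1 : k[X]) ≠ 0 := by
    intro h
    rw [h, natDegree_zero] at hdeg
    norm_num at hdeg
  have hder : derivative (X ^ 5 + X ^ 4 + 1 : k[X]) = X ^ 4 := by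
    simp only [derivative_add, derivative_X_pow, derivative_one, add_zero]
    norm_num only []
    rw [show (C (5 : k) : k[X]) = 5 from map_ofNat C 5, show (C (4 : k) : k[X]) = 4 from map_ofNat C 4]
    linear_combination (2 * X ^ 4 + 2 * X ^ 3) * h2
  have hsep : (X ^ 5 + X ^ 4 + 1 : k[X]).Separable := by
    refine ⟨1, -(X + 1), ?_⟩
    rw [hder]
    ring
  refine ⟨(X ^ 5 + X ^ 4 + 1 : k[X]).roots.toFinset, ?_, ?_⟩
  · rw [Multiset.toFinset_card_of_nodup (nodup_roots hsep), ← (IsAlgClosed.splits _).natDegree_eq_card_roots, hdeg]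
  · intro μ hμ
    rw [Multiset.mem_toFinset, mem_roots hne, IsRoot.def] at hμ
    simpa only [_root_.Polynomial.eval_add, _root_.Polynomial.eval_pow, _root_.Polynomial.eval_X, _root_.Polynomial.eval_one] using hμ

omit [CharP k 2] in
/-- eigenvectors of one operator in an eigenspace of another one -/
theorem card_le_of_eigenvectors (Z U : Module.End k V) {ζ : k} (R : Finset k)
    (hex : ∀ μ : R, ∃ x : V, x ≠ 0 ∧ Z x = (μ : k) • x ∧ U x = ζ • x) :
    R.card ≤ Module.finrank k ↥(Module.End.eigenspace U ζ) := by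
  choose x hx0 hx1 hx2 using hex
  have hlin : LinearIndependent k x := by
    refine Module.End.eigenvectors_linearIndependent' Z (fun μ : R => (μ : k)) Subtype.coe_injective x ?_
    intro μ
    exact ⟨Module.End.mem_eigenspace_iff.mpr (hx1 μ), hx0 μ⟩
  have hmem : ∀ μ, x μ ∈ Module.End.eigenspace U ζ := by
    intro μ
    rw [Module.End.mem_eigenspace_iff, hx2]
  have hlin' : LinearIndependent k (fun μ : R => (⟨x μ, hmem μ⟩ : ↥(Module.End.eigenspace U ζ))) := by
    apply LinearIndependent.of_comp (Module.End.eigenspace U ζ).subtype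
    exact hlin
  have := hlin'.fintype_card_le_finrank
  rwa [Fintype.card_coe] at this

/-- **`SL₂(19)` in characteristic 2.** -/
theorem five_le [IsAlgClosed k] (ρ : Matrix.SpecialLinearGroup (Fin 2) (ZMod 19) →* Module.End k V) (hρ : ρ (-1) = 1)
    (hV : Even (Module.finrank k V))
    (h19 : ∀ g, g ^ 19 = 1 → g ≠ 1 → LinearMap.trace k V (ρ g) = 0)
    (h9 : ∀ g, g ^ 9 = 1 → g ^ 3 ≠ 1 →
      LinearMap.trace k V (ρ g) ^ 2 = LinearMap.trace k V (ρ g) ∧ LinearMap.trace k V (ρ (g ^ 3)) = 1)
    (h5 : ∀ g, g ^ 5 = 1 → g ≠ 1 → LinearMap.trace k V (ρ g) = 1)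
    {ζ : k} (hζ : ζ ^ 19 = 1) (hζ1 : ζ ≠ 1) :
    5 ≤ Module.finrank k ↥(Module.End.eigenspace (ρ (u 1)) ζ) := by
  classical
  have hu : ∀ g : Matrix.SpecialLinearGroup (Fin 2) (ZMod 19), t g = 2 → g ≠ 1 → LinearMap.trace k V (ρ g) = 0 := by
    intro g hg hg1
    apply h19 g _ hg1
    obtain ⟨h, b, rfl⟩ := exists_conj_u hg
    have hub : ∀ n : ℕ, (u b) ^ n = u (n * b) := by
      intro n
      induction n with
      | zero => rw [pow_zero, Nat.cast_zero, zero_mul, u_zero]
      | succ n ih => rw [pow_succ, ih, u_add, Nat.cast_succ, add_mul, one_mul]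
    rw [conj_pow, hub]
    have : ((19 : ℕ) : ZMod 19) = 0 := by decide
    rw [this, zero_mul, u_zero, mul_one, mul_inv_cancel]
  obtain ⟨T, hT, hT2, -, hT0, hTneg⟩ := exists_T two_ne ρ hρ hV hu
  have hcomp : ∀ r, LinearMap.trace k V (ρ (comp r)) = T r := fun r => by rw [hT, t_comp]
  have hsq : ∀ g, LinearMap.trace k V (ρ (g ^ 2)) = (LinearMap.trace k V (ρ g)) ^ 2 := by
    intro g
    rw [pow_two, map_mul, trace_sq]
  have ht2 : ∀ g : Matrix.SpecialLinearGroup (Fin 2) (ZMod 19), t (g ^ 2) = (t g) ^ 2 - 2 := by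
    intro g
    rw [pow_two, t_mul]
    simp only [t]
    linear_combination -2 * det_eq g
  have c9 : (comp (9 : ZMod 19)) ^ 9 = 1 := by decide +kernel
  have c9' : (comp (9 : ZMod 19)) ^ 3 ≠ 1 := by decide
  have c9'' : t ((comp (9 : ZMod 19)) ^ 3) = 18 := by decide
  have c4 : (comp (4 : ZMod 19)) ^ 5 = 1 := by decide
  have c4' : (comp (4 : ZMod 19)) ≠ 1 := by decide
  have c14 : (comp (14 : ZMod 19)) ^ 5 = 1 := by decide
  have c14' : (comp (14 : ZMod 19)) ≠ 1 := by decide
  have T9 : T 9 ^ 2 = T 9 := by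
    have := (h9 _ c9 c9').1
    rwa [hcomp] at this
  have T18 : T 18 = 1 := by
    have := (h9 _ c9 c9').2
    rwa [hT, c9''] at this
  have T4 : T 4 = 1 := by
    rw [← hcomp]; exact h5 _ c4 c4'
  have T14 : T 14 = 1 := by
    rw [← hcomp]; exact h5 _ c14 c14'
  have T3 : T 3 = T 9 := by
    have h1 := hsq (comp 9)
    rw [hT, ht2, t_comp, hcomp, T9] at h1
    rw [← h1]
    congr 1
  have T7 : T 7 = T 9 := by
    have h1 := hsq (comp 3)
    rw [hT, ht2, t_comp, hcomp, T3, T9] at h1
    rw [← h1]
    congr 1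
  -- the character
  let χ : AddChar (ZMod 19) k := AddChar.zmodChar 19 hζ
  have hχ1 : χ 1 = ζ := by
    show ζ ^ (1 : ZMod 19).val = ζ
    rw [show (1 : ZMod 19).val = 1 from rfl, pow_one]
  have hχ : χ ≠ 0 := by
    intro h
    apply hζ1
    rw [← hχ1, h]
    rfl
  obtain ⟨R, hR, hR'⟩ := card_roots k
  have hex : ∀ μ : R, ∃ x : V, x ≠ 0 ∧ (c ρ 9 + c ρ 4) x = (μ : k) • x ∧ ρ (u 1) x = χ 1 • x := fun μ =>
    exists_eigenvector ρ hρ hT hT2 hT0 hTneg rfl T3 T7 T18 T4 T14 hχ (hR' μ μ.2)
  rw [hχ1] at hex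
  have := card_le_of_eigenvectors _ _ R hex
  rwa [hR] at this

end main

end Cfsg.Agent.H646.LTN
end

-- part: H943/L19
section
/-!
# `PSL(2, 19)` is not a subgroup of `²E₆(2)` (S5741 N7, helper943): the assembly
-/

set_option autoImplicit false
set_option linter.unusedSectionVars false

namespace Cfsg.Agent.H943.L19

open Cfsg Cfsg.Lie Polynomial Module Cfsg.Agent.H943.PowSum
open Matrix (SpecialLinearGroup)

abbrev G : Type := _root_.Matrix.SpecialLinearGroup (Fin 2) (ZMod 19)

instance fact19 : Fact (Nat.Prime 19) := ⟨by norm_num⟩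

/-! ### power sums -/

section

variable {k : Type*} [Field k] [IsAlgClosed k] [CharP k 2]

theorem natCast_ne {n : ℕ} (hn : n % 2 = 1) : (n : k) ≠ 0 := by
  rw [Ne, CharP.cast_eq_zero_iff k 2]
  omega

theorem exists_prim {n : ℕ} (hn : n % 2 = 1) : ∃ z : k, IsPrimitiveRoot z n := by
  have : NeZero ((n : ℕ) : k) := ⟨natCast_ne hn⟩
  exact HasEnoughRootsOfUnity.exists_primitiveRoot k n

theorem two0 : (2 : k) = 0 := by
  have := CharP.cast_eq_zero k 2
  exact_mod_cast this

theorem S_five {P : k[X]} (hP : P ≠ 0) (h : P * (X - 1) ^ 15 = (X - 1) ^ 18 * (X ^ 5 - 1) ^ 15) : S 1 P = 1 := by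
  obtain ⟨z, hz⟩ := exists_prim (k := k) (n := 5) (by norm_num)
  have h1 := congrArg (S 1) h
  rw [S_mul 1 hP (pow_ne_zero _ X_sub_one_ne_zero),
    S_mul 1 (pow_ne_zero _ X_sub_one_ne_zero) (pow_ne_zero _ (X_pow_sub_one_ne_zero (by norm_num))),
    S_pow, S_pow, S_pow, S_X_sub_one, S_X_pow_sub_one 1 hz (by norm_num), if_neg (by norm_num)] at h1
  push_cast at h1
  linear_combination h1 + two0 (k := k)

theorem S_nine {P : k[X]} (hP : P ≠ 0) {a b : ℕ}
    (h : P * (X - 1) ^ b * (X ^ 3 - 1) ^ 9 = (X - 1) ^ a * (X ^ 3 - 1) ^ b * (X ^ 9 - 1) ^ 9) :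
    S 1 P = a - b ∧ S 3 P = a + 2 * b - 27 := by
  obtain ⟨z, hz⟩ := exists_prim (k := k) (n := 3) (by norm_num)
  obtain ⟨y, hy⟩ := exists_prim (k := k) (n := 9) (by norm_num)
  have e3 : (X ^ 3 - 1 : k[X]) ≠ 0 := X_pow_sub_one_ne_zero (by norm_num)
  have e9 : (X ^ 9 - 1 : k[X]) ≠ 0 := X_pow_sub_one_ne_zero (by norm_num)
  have e1 : (X - 1 : k[X]) ≠ 0 := X_sub_one_ne_zero
  constructor
  · have h1 := congrArg (S 1) h
    rw [S_mul 1 (mul_ne_zero hP (pow_ne_zero _ e1)) (pow_ne_zero _ e3), S_mul 1 hP (pow_ne_zero _ e1),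
      S_mul 1 (mul_ne_zero (pow_ne_zero _ e1) (pow_ne_zero _ e3)) (pow_ne_zero _ e9),
      S_mul 1 (pow_ne_zero _ e1) (pow_ne_zero _ e3), S_pow, S_pow, S_pow, S_pow, S_pow, S_X_sub_one,
      S_X_pow_sub_one 1 hz (by norm_num), S_X_pow_sub_one 1 hy (by norm_num), if_neg (by norm_num),
      if_neg (by norm_num)] at h1
    push_cast at h1
    linear_combination h1
  · have h1 := congrArg (S 3) h
    rw [S_mul 3 (mul_ne_zero hP (pow_ne_zero _ e1)) (pow_ne_zero _ e3), S_mul 3 hP (pow_ne_zero _ e1),
      S_mul 3 (mul_ne_zero (pow_ne_zero _ e1) (pow_ne_zero _ e3)) (pow_ne_zero _ e9),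
      S_mul 3 (pow_ne_zero _ e1) (pow_ne_zero _ e3), S_pow, S_pow, S_pow, S_pow, S_pow, S_X_sub_one,
      S_X_pow_sub_one 3 hz (by norm_num), S_X_pow_sub_one 3 hy (by norm_num), if_pos (by norm_num),
      if_neg (by norm_num)] at h1
    push_cast at h1
    linear_combination h1

theorem S_nineteen {P : k[X]} (hP : P ≠ 0) (h : P * (X - 1) ^ 4 = (X - 1) ^ 6 * (X ^ 19 - 1) ^ 4) : S 1 P = 0 := by
  obtain ⟨z, hz⟩ := exists_prim (k := k) (n := 19) (by norm_num)
  have h1 := congrArg (S 1) h
  rw [S_mul 1 hP (pow_ne_zero _ X_sub_one_ne_zero),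
    S_mul 1 (pow_ne_zero _ X_sub_one_ne_zero) (pow_ne_zero _ (X_pow_sub_one_ne_zero (by norm_num))),
    S_pow, S_pow, S_pow, S_X_sub_one, S_X_pow_sub_one 1 hz (by norm_num), if_neg (by norm_num)] at h1
  push_cast at h1
  linear_combination h1 + two0 (k := k)

theorem mult_nineteen {P : k[X]} (hP : P ≠ 0) (h : P * (X - 1) ^ 4 = (X - 1) ^ 6 * (X ^ 19 - 1) ^ 4)
    {z : k} (hz : z ^ 19 = 1) (hz1 : z ≠ 1) : rootMultiplicity z P = 4 := by
  have e19 : (X ^ 19 - 1 : k[X]) ≠ 0 := X_pow_sub_one_ne_zero (by norm_num)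
  have e1 : (X - 1 : k[X]) ≠ 0 := X_sub_one_ne_zero
  have h1 := congrArg (rootMultiplicity z) h
  rw [rootMultiplicity_mul (mul_ne_zero hP (pow_ne_zero _ e1)),
    rootMultiplicity_mul (mul_ne_zero (pow_ne_zero _ e1) (pow_ne_zero _ e19)),
    rootMultiplicity_pow' z e1, rootMultiplicity_pow' z e1, rootMultiplicity_pow' z e19,
    rootMultiplicity_X_sub_one hz1, rootMultiplicity_X_pow_sub_one (natCast_ne (by norm_num)) hz] at h1
  omega

end

/-! ### the representation -/

/-- the eigenvalues of the elements of order 5, 9 and 19 -/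
structure Spec {ι : Type*} [Fintype ι] [DecidableEq ι] {K : Type*} [Field K] (φ : G →* GL ι K) : Prop where
  card : Fintype.card ι = 78
  ker : ∀ g, φ g = 1 ↔ g = 1 ∨ g = -1
  five : ∀ g, orderOf (φ g) = 5 →
    ((φ g : GL ι K) : Matrix ι ι K).charpoly * (X - 1) ^ 15 = (X - 1) ^ 18 * (X ^ 5 - 1) ^ 15
  nine : ∀ g, orderOf (φ g) = 9 → ∃ a b : ℕ,
    (a = 14 ∧ b = 5 ∨ a = 10 ∧ b = 7 ∨ a = 8 ∧ b = 8) ∧
    ((φ g : GL ι K) : Matrix ι ι K).charpoly * (X - 1) ^ b * (X ^ 3 - 1) ^ 9 =
      (X - 1) ^ a * (X ^ 3 - 1) ^ b * (X ^ 9 - 1) ^ 9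
  nineteen : ∀ g, orderOf (φ g) = 19 →
    ((φ g : GL ι K) : Matrix ι ι K).charpoly * (X - 1) ^ 4 = (X - 1) ^ 6 * (X ^ 19 - 1) ^ 4

section

variable {ι : Type*} [Fintype ι] [DecidableEq ι] {K : Type*} [Field K] {k : Type*} [Field k] (f : K →+* k)
  (φ : G →* GL ι K)

/-- the representation on the vectors over an extension field -/
noncomputable def rep : Representation k G (ι → k) where
  toFun g := Matrix.toLin' (((φ g : GL ι K) : Matrix ι ι K).map f)
  map_one' := by
    rw [map_one, Units.val_one, Matrix.map_one f (map_zero f) (map_one f), Matrix.toLin'_one]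
    rfl
  map_mul' a b := by
    rw [map_mul, Units.val_mul, Matrix.map_mul, Matrix.toLin'_mul]
    rfl

theorem charpoly_rep (g : G) : LinearMap.charpoly (rep f φ g) =
    ((φ g : GL ι K) : Matrix ι ι K).charpoly.map f := by
  have h : rep f φ g = Matrix.toLin' (((φ g : GL ι K) : Matrix ι ι K).map f) := rfl
  have h2 : LinearMap.charpoly (Matrix.toLin' (((φ g : GL ι K) : Matrix ι ι K).map f)) =
      (((φ g : GL ι K) : Matrix ι ι K).map f).charpoly := Matrix.charpoly_toLin' _
  rw [h, h2]
  exact Matrix.charpoly_map _ f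

theorem rep_eq_one {g : G} (h : φ g = 1) : rep f φ g = 1 := by
  show Matrix.toLin' (((φ g : GL ι K) : Matrix ι ι K).map f) = 1
  rw [h, Units.val_one, Matrix.map_one f (map_zero f) (map_one f), Matrix.toLin'_one]
  rfl

variable {φ} (hS : Spec φ)

include hS in
theorem orderOf_eq {g : G} {n : ℕ} (hn : n % 2 = 1) (hg : orderOf g = n) : orderOf (φ g) = n := by
  apply Nat.dvd_antisymm
  · rw [← hg]; exact orderOf_map_dvd φ g
  · rw [← hg]
    apply orderOf_dvd_of_pow_eq_one
    have h1 : φ (g ^ orderOf (φ g)) = 1 := by rw [map_pow, pow_orderOf_eq_one]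
    rcases (hS.ker _).1 h1 with h2 | h2
    · exact h2
    · exfalso
      have h3 : (g ^ orderOf (φ g)) ^ n = 1 := by rw [← pow_mul, mul_comm, pow_mul, ← hg, pow_orderOf_eq_one, one_pow]
      rw [h2] at h3
      have h4 : (-1 : G) ^ n = -1 := by
        obtain ⟨m, rfl⟩ : ∃ m, n = 2 * m + 1 := ⟨n / 2, by omega⟩
        rw [pow_succ, pow_mul, neg_one_sq, one_pow, one_mul]
      rw [h4] at h3
      exact absurd h3 (by decide +kernel)

variable [IsAlgClosed k] [CharP k 2]

theorem trace_S (g : G) (j : ℕ) : LinearMap.trace k _ (rep f φ (g ^ j)) = S j (LinearMap.charpoly (rep f φ g)) := by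
  rw [map_pow, TracePow.trace_pow, S]

include hS in
theorem trace_five {g : G} (h5 : g ^ 5 = 1) (h1 : g ≠ 1) : LinearMap.trace k _ (rep f φ g) = 1 := by
  have hp5 : Fact (Nat.Prime 5) := ⟨by norm_num⟩
  have ho' : orderOf g = 5 := orderOf_eq_prime h5 h1
  have ho : orderOf (φ g) = 5 := orderOf_eq hS (by norm_num) ho'
  have h2 := congrArg (Polynomial.map f) (hS.five g ho)
  simp only [Polynomial.map_mul, Polynomial.map_pow, Polynomial.map_sub, Polynomial.map_X, Polynomial.map_one] at h2
  rw [← charpoly_rep] at h2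
  have h3 := S_five (LinearMap.charpoly_monic _).ne_zero h2
  rw [← trace_S, pow_one] at h3
  exact h3

include hS in
theorem trace_nine {g : G} (ho : orderOf g = 9) :
    (LinearMap.trace k _ (rep f φ g) = 0 ∨ LinearMap.trace k _ (rep f φ g) = 1) ∧
      LinearMap.trace k _ (rep f φ (g ^ 3)) = 1 := by
  obtain ⟨a, b, hab, h2⟩ := hS.nine g (orderOf_eq hS (by norm_num) ho)
  have h2 := congrArg (Polynomial.map f) h2
  simp only [Polynomial.map_mul, Polynomial.map_pow, Polynomial.map_sub, Polynomial.map_X, Polynomial.map_one] at h2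
  rw [← charpoly_rep] at h2
  obtain ⟨h3, h4⟩ := S_nine (LinearMap.charpoly_monic _).ne_zero h2
  rw [← trace_S, pow_one] at h3
  rw [← trace_S] at h4
  have h20 := two0 (k := k)
  rw [h3, h4]
  rcases hab with ⟨rfl, rfl⟩ | ⟨rfl, rfl⟩ | ⟨rfl, rfl⟩
  · refine ⟨Or.inr ?_, ?_⟩ <;> push_cast
    · linear_combination 4 * h20
    · linear_combination -2 * h20
  · refine ⟨Or.inr ?_, ?_⟩ <;> push_cast
    · linear_combination h20
    · linear_combination -2 * h20
  · refine ⟨Or.inl ?_, ?_⟩ <;> push_cast
    · ring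
    · linear_combination -2 * h20

include hS in
theorem trace_nineteen {g : G} (h19 : g ^ 19 = 1) (h1 : g ≠ 1) : LinearMap.trace k _ (rep f φ g) = 0 := by
  have ho' : orderOf g = 19 := orderOf_eq_prime h19 h1
  have ho : orderOf (φ g) = 19 := orderOf_eq hS (by norm_num) ho'
  have h2 := congrArg (Polynomial.map f) (hS.nineteen g ho)
  simp only [Polynomial.map_mul, Polynomial.map_pow, Polynomial.map_sub, Polynomial.map_X, Polynomial.map_one] at h2
  rw [← charpoly_rep] at h2
  have h3 := S_nineteen (LinearMap.charpoly_monic _).ne_zero h2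
  rw [← trace_S, pow_one] at h3
  exact h3

include hS in
theorem finrank_le {g : G} (h19 : g ^ 19 = 1) (h1 : g ≠ 1) {z : k} (hz : z ^ 19 = 1) (hz1 : z ≠ 1) :
    finrank k (Module.End.eigenspace (rep f φ g) z) ≤ 4 := by
  have ho : orderOf (φ g) = 19 := orderOf_eq hS (by norm_num) (orderOf_eq_prime h19 h1)
  have h2 := congrArg (Polynomial.map f) (hS.nineteen g ho)
  simp only [Polynomial.map_mul, Polynomial.map_pow, Polynomial.map_sub, Polynomial.map_X, Polynomial.map_one] at h2
  rw [← charpoly_rep] at h2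
  have h3 := mult_nineteen (LinearMap.charpoly_monic _).ne_zero h2 hz hz1
  have h4 := LinearMap.finrank_eigenspace_le (rep f φ g) z
  rwa [h3] at h4

end

/-- **There is no such representation.** -/
theorem false_of_spec {ι : Type*} [Fintype ι] [DecidableEq ι] {K : Type*} [Field K] [CharP K 2] {φ : G →* GL ι K}
    (hS : Spec φ) : False := by
  have hch : CharP (AlgebraicClosure K) 2 := charP_of_injective_algebraMap (algebraMap K (AlgebraicClosure K)).injective 2
  set f : K →+* AlgebraicClosure K := algebraMap K (AlgebraicClosure K) with hf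
  obtain ⟨z, hz⟩ := exists_prim (k := AlgebraicClosure K) (n := 19) (by norm_num)
  have hz1 : z ≠ 1 := hz.ne_one (by norm_num)
  have h1 := Cfsg.Agent.H646.LTN.five_le (k := AlgebraicClosure K) (V := ι → AlgebraicClosure K) (rep f φ)
    (rep_eq_one f φ ((hS.ker _).2 (Or.inr rfl)))
    (by rw [Module.finrank_fintype_fun_eq_card, hS.card]; decide)
    (fun g h19 hg => trace_nineteen f hS h19 hg)
    (fun g h9 h3 => by
      have hp3 : Fact (Nat.Prime 3) := ⟨by norm_num⟩
      have ho : orderOf g = 9 := by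
        have := orderOf_eq_prime_pow (x := g) (p := 3) (n := 1) (by rwa [pow_one]) (by rw [← h9]; norm_num)
        norm_num at this
        exact this
      obtain ⟨e1, e2⟩ := trace_nine f hS ho
      refine ⟨?_, e2⟩
      rcases e1 with h | h <;> rw [h] <;> ring)
    (fun g h5 hg => trace_five f hS h5 hg) hz.pow_eq_one hz1
  have h2 := finrank_le f hS (g := Cfsg.Agent.H646.SLT.u 1) (by decide +kernel) (by decide +kernel) hz.pow_eq_one hz1
  omega

/-! ### from subgroups to representations -/

theorem map_mem_center {F : Type*} [Field F] (i : ZMod 19 →+* F) (g : G) :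
    SpecialLinearGroup.map (n := Fin 2) i g ∈ Subgroup.center (_root_.Matrix.SpecialLinearGroup (Fin 2) F) ↔ g = 1 ∨ g = -1 := by
  rw [Matrix.SpecialLinearGroup.mem_center_iff]
  constructor
  · rintro ⟨r, hr, h⟩
    have hr2 : (r - 1) * (r + 1) = 0 := by
      rw [Fintype.card_fin] at hr
      linear_combination hr
    have hij : ∀ a b : Fin 2, i ((g : Matrix (Fin 2) (Fin 2) (ZMod 19)) a b) = if a = b then r else 0 := by
      intro a b
      have := congrFun (congrFun h a) b
      rw [Matrix.scalar_apply, Matrix.diagonal_apply] at this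
      exact this.symm
    rcases mul_eq_zero.1 hr2 with h1 | h1
    · left
      apply Subtype.ext
      ext a b
      apply i.injective
      rw [hij]
      show _ = i ((1 : Matrix (Fin 2) (Fin 2) (ZMod 19)) a b)
      rw [Matrix.one_apply, sub_eq_zero.1 h1]
      split_ifs <;> simp
    · right
      apply Subtype.ext
      ext a b
      apply i.injective
      rw [hij]
      show _ = i ((-(1 : G) : G) a b)
      rw [Matrix.SpecialLinearGroup.coe_neg, Matrix.SpecialLinearGroup.coe_one, Matrix.neg_apply, Matrix.one_apply,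
        eq_neg_of_add_eq_zero_left h1]
      split_ifs <;> simp only [_root_.map_neg, _root_.map_one, _root_.neg_zero, _root_.map_zero]
  · rintro (rfl | rfl)
    · exact ⟨1, by simp, by simp⟩
    · refine ⟨-1, by simp only [_root_.Fintype.card_fin, _root_.even_two, _root_.Even.neg_pow, _root_.one_pow], ?_⟩
      ext a b
      (revert a b; simp only [Matrix.scalar_apply, _root_.Fin.forall_fin_succ, _root_.Matrix.SpecialLinearGroup.map_apply_coe, _root_.Matrix.SpecialLinearGroup.coe_neg, _root_.Matrix.SpecialLinearGroup.coe_one, _root_.RingHom.mapMatrix_apply, _root_.Matrix.map_apply, _root_.Matrix.neg_apply, _root_.map_neg, Fin.isValue, _root_.Fin.succ_zero_eq_one, _root_.IsEmpty.forall_iff, _root_.and_true, _root_.Matrix.diagonal_apply_eq, _root_.Matrix.one_apply_eq, _root_.map_one, _root_.ne_eq, _root_.zero_ne_one, _root_.not_false_eq_true, _root_.Matrix.diagonal_apply_ne, Nat.reduceAdd, _root_.Matrix.one_apply_ne, _root_.map_zero, _root_.neg_zero, _root_.and_self, _root_.Fin.succ_ne_zero,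 _root_.true_and])

/-- a subgroup `PSL(2, 19)` gives a homomorphism from `SL(2, 19)` with kernel `{1, -1}` -/
theorem exists_hom {X : Type*} [Group X] (H : Subgroup X) {F : Type*} [Field F] [Fintype F] (hF : Fintype.card F = 19)
    (e : ↥H ≃* Matrix.ProjectiveSpecialLinearGroup (Fin 2) F) :
    ∃ φ : G →* X, ∀ g, φ g = 1 ↔ g = 1 ∨ g = -1 := by
  obtain ⟨φ, hφ⟩ := PSLHom.exists_hom H e
  have hch : CharP F 19 := by
    obtain ⟨p, hp⟩ := CharP.exists F
    have hpp : p.Prime := CharP.char_is_prime F p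
    obtain ⟨n, -, hn⟩ := FiniteField.card F p
    rw [hF] at hn
    have h1 : p ∣ 19 := by rw [hn]; exact dvd_pow_self p n.ne_zero
    have h2 : p = 19 := (Nat.prime_dvd_prime_iff_eq hpp (by norm_num)).1 h1
    rwa [← h2]
  refine ⟨φ.comp (SpecialLinearGroup.map (ZMod.castHom (dvd_refl 19) F)), fun g => ?_⟩
  rw [MonoidHom.comp_apply, hφ, map_mem_center]

end Cfsg.Agent.H943.L19
end

-- part: H943/L19Main
section
/-!
# `PSL(2, 19)` is not a subgroup of `²E₆(2)` (S5741 N7, helper943)
-/

set_option autoImplicit false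

namespace Cfsg.Agent.H943.L19

open Cfsg Cfsg.Lie Polynomial Cfsg.Agent.H944.TS

universe u

theorem char_two_of_card {K : Type*} [Field K] [Fintype K] (hK : Fintype.card K = 4) : CharP K 2 := by
  obtain ⟨q, hq⟩ := CharP.exists K
  have hqp : q.Prime := CharP.char_is_prime K q
  obtain ⟨n, -, hn⟩ := FiniteField.card K q
  rw [hK] at hn
  have h1 : q ∣ 2 ^ 2 := by
    have : q ∣ q ^ (n : ℕ) := dvd_pow_self q n.ne_zero
    rw [← hn] at this
    exact this
  have h2 : q = 2 := (Nat.prime_dvd_prime_iff_eq hqp Nat.prime_two).1 (hqp.dvd_of_dvd_pow h1)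
  rwa [← h2]

section gen

variable {K : Type u} [Field K] {ι : Type} [Fintype ι] [DecidableEq ι]

/-- order 5 -/
def P5 (A : Matrix ι ι K) : Prop := A.charpoly * (X - 1) ^ 15 = (X - 1) ^ 18 * (X ^ 5 - 1) ^ 15

/-- order 9 -/
def P9 (A : Matrix ι ι K) : Prop := ∃ a b : ℕ, (a = 14 ∧ b = 5 ∨ a = 10 ∧ b = 7 ∨ a = 8 ∧ b = 8) ∧
  A.charpoly * (X - 1) ^ b * (X ^ 3 - 1) ^ 9 = (X - 1) ^ a * (X ^ 3 - 1) ^ b * (X ^ 9 - 1) ^ 9

/-- order 19 -/
def P19 (A : Matrix ι ι K) : Prop := A.charpoly * (X - 1) ^ 4 = (X - 1) ^ 6 * (X ^ 19 - 1) ^ 4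

theorem p5_of {A : Matrix ι ι K} (h : Eig.CP A 5 18 15) : P5 A := h

theorem p19_of {A : Matrix ι ι K} (h : Eig.CP A 19 6 4) : P19 A := h

theorem cpNine_eq {A : Matrix ι ι K} {a b c : ℕ} (h : Eig.CPNine A a b c) :
    A.charpoly * (X - 1) ^ b * (X ^ 3 - 1) ^ c = (X - 1) ^ a * (X ^ 3 - 1) ^ b * (X ^ 9 - 1) ^ c := h

theorem p9_of {A : Matrix ι ι K}
    (h : ∃ ab ∈ ([(8, 8), (10, 7), (14, 5)] : List (ℕ × ℕ)), Eig.CPNine A ab.1 ab.2 9) : P9 A := by
  obtain ⟨ab, hab, hc⟩ := h
  refine ⟨ab.1, ab.2, ?_, cpNine_eq hc⟩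
  simp only [List.mem_cons, List.not_mem_nil, or_false] at hab
  rcases hab with rfl | rfl | rfl <;> simp

/-- a subgroup with such elements has no subgroup isomorphic to `PSL(2, 19)` -/
theorem false_of [CharP K 2] (T : Subgroup (GL ι K)) (hι : Fintype.card ι = 78)
    (h5 : ∀ x ∈ T, orderOf x = 5 → P5 (x : Matrix ι ι K)) (h9 : ∀ x ∈ T, orderOf x = 9 → P9 (x : Matrix ι ι K))
    (h19 : ∀ x ∈ T, orderOf x = 19 → P19 (x : Matrix ι ι K)) (L : Subgroup ↥T) {F : Type*} [Field F] [Fintype F]
    (hF : Fintype.card F = 19) (e : ↥L ≃* Matrix.ProjectiveSpecialLinearGroup (Fin 2) F) : False := by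
  obtain ⟨φ, hφ⟩ := exists_hom L hF e
  have hinj : Function.Injective T.subtype := T.subtype_injective
  exact false_of_spec (φ := T.subtype.comp φ)
    { card := hι
      ker := fun g => by rw [MonoidHom.comp_apply, map_eq_one_iff _ hinj, hφ]
      five := fun g h => h5 _ (φ g).2 h
      nine := fun g h => h9 _ (φ g).2 h
      nineteen := fun g h => h19 _ (φ g).2 h }

end gen

/-- **N7: `PSL(2, 19)` is not a subgroup of `²E₆(2)`.** -/
theorem notE_psl19 {K : Type u} [Field K] [Fintype K] (hK : Fintype.card K = 4) : NotE K (.psl 2 19) := by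
  intro L hL
  obtain ⟨F, iF, iFt, hF, ⟨e⟩⟩ := hL
  have hch : CharP K 2 := char_two_of_card hK
  exact false_of (twistedE6 K 2) rfl (fun x hx h => p5_of (Eig.cp5 hK hx h)) (fun x hx h => p9_of (Eig.cp9 hK hx h))
    (fun x hx h => p19_of (Eig.cp19 hK hx h)) L hF e

end Cfsg.Agent.H943.L19
end

private theorem dce_1ef57f8bc69d : _root_.True := by
  try have : _root_.True := by simp only [_root_.Cfsg.Agent.H646.SLT.t.eq_1]
  try have : _root_.True := by simp only [_root_.Cfsg.Agent.H646.SLT.mk.congr_simp]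
  try have : _root_.True := by simp only [_root_.Cfsg.Agent.H646.SLT.c.congr_simp]
  try have : _root_.True := by simp only [_root_.Cfsg.Agent.H646.SLT.K.congr_simp]
  try have : _root_.True := by simp only [_root_.Cfsg.Agent.H943.PowSum.S.eq_1]
  exact _root_.True.intro
end

-- part: H860/TS/SpEight_mg
section
prune_inst 0x41402644016202000000058021201c06860005b0000800008001024c06808c0a00820960a1201105402aa2050034002010000000420000000a00000001180180000802048048a008800098000080000000000000000000000000000000000004000000000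
set_option linter.all false
open scoped Cfsg.Agent.FastGrp

-- part: H860/TS/SpEight
section
/-!
# `PSL₂(17)` is a subgroup of `PSp₈(2)` (helper860)

The matrices come from the extended quadratic residue code of length 18 modulo the all-one word.
-/

set_option autoImplicit false
set_option maxRecDepth 100000

namespace Cfsg.Agent.H860.TS.SpEight

open Matrix Cfsg Cfsg.Agent.OrdDiv Cfsg.Agent.H944.TS

universe u

/-- coordinates -/
def idx8 : Fin 4 ⊕ Fin 4 → ℕ := Sum.elim (fun i => i.val) (fun i => 4 + i.val)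

/-- a packed matrix -/
def mk (T : ℕ) : Matrix (Fin 4 ⊕ Fin 4) (Fin 4 ⊕ Fin 4) (ZMod 2) :=
  Matrix.of fun i j => if Nat.testBit T (8 * idx8 i + idx8 j) then 1 else 0

/-- powers of the element of order 17 -/
def uL : List ℕ := [9241421688590303745, 585485942241766768, 14416124639791801964, 16167072195260799926, 4105736364922956071, 9548045331950043139, 5077989270265923677, 4874115389967157386, 9031440770008146157, 11105743759130507470, 12792223817559344259, 3754816334703969877, 200850349609861954, 3283216705939406093, 16596945920490117878, 6571421737714168071, 16816792991922467859, 9241421688590303745]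
/-- powers of the element of order 8 -/
def hL : List ℕ := [9241421688590303745, 606903333935676746, 16183452882885312753, 4854593581923305556, 6597994575773229069, 16597399093892760470, 164317157270248212, 9036211121034749537, 9241421688590303745]
/-- the involution -/
def wC : ℕ := 12844542263568034634

def uC (n : Fin 18) : ℕ := uL.getD n.val 0
def hC (n : Fin 9) : ℕ := hL.getD n.val 0

theorem memU : ∀ n : Fin 18, mk (uC n) * Matrix.J (Fin 4) (ZMod 2) * (mk (uC n))ᵀ = Matrix.J (Fin 4) (ZMod 2) := by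
  (open scoped Cfsg.Agent.ChevFast.Lin in decide +kernel)

theorem memH : ∀ n : Fin 9, mk (hC n) * Matrix.J (Fin 4) (ZMod 2) * (mk (hC n))ᵀ = Matrix.J (Fin 4) (ZMod 2) := by
  decide +kernel

theorem memW : mk wC * Matrix.J (Fin 4) (ZMod 2) * (mk wC)ᵀ = Matrix.J (Fin 4) (ZMod 2) := by
  decide +kernel

abbrev Sp := Matrix.symplecticGroup (Fin 4) (ZMod 2)

def gU (n : Fin 18) : Sp := ⟨mk (uC n), memU n⟩
def gH (n : Fin 9) : Sp := ⟨mk (hC n), memH n⟩
def gW : Sp := ⟨mk wC, memW⟩

theorem u_zero : mk (uC 0) = 1 := by decide +kernel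
theorem u_last : mk (uC 17) = 1 := by decide +kernel
theorem h_zero : mk (hC 0) = 1 := by decide +kernel
theorem h_last : mk (hC 8) = 1 := by decide +kernel
theorem u_succ : ∀ n : Fin 17, mk (uC n.castSucc) * mk (uC 1) = mk (uC n.succ) := by (first | (set_option backward.isDefEq.respectTransparency.types false in set_option synthInstance.maxSize 99999 in (delta _root_.Cfsg.Agent.H860.TS.SpEight.uC _root_.Cfsg.Agent.H860.TS.SpEight.mk _root_.Cfsg.Agent.H860.TS.SpEight.idx8; exact _root_.Cfsg.Agent.FastDec.of (by decide +kernel))) | decide +kernel)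
theorem h_succ : ∀ n : Fin 8, mk (hC n.castSucc) * mk (hC 1) = mk (hC n.succ) := by (first | (set_option backward.isDefEq.respectTransparency.types false in set_option synthInstance.maxSize 99999 in (delta _root_.Cfsg.Agent.H860.TS.SpEight.hC _root_.Cfsg.Agent.H860.TS.SpEight.mk _root_.Cfsg.Agent.H860.TS.SpEight.idx8; exact _root_.Cfsg.Agent.FastDec.of (by decide +kernel))) | decide +kernel)
theorem u_ne : mk (uC 1) ≠ 1 := by decide +kernel
theorem w_w : mk wC * mk wC = 1 := by decide +kernel
theorem h_u : mk (hC 1) * mk (uC 1) = mk (uC 9) * mk (hC 1) := by decide +kernel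
theorem wh : mk wC * mk (hC 1) * (mk wC * mk (hC 1)) = 1 := by decide +kernel
theorem wu : mk wC * mk (uC 1) * (mk wC * mk (uC 1)) * (mk wC * mk (uC 1)) = 1 := by decide +kernel
theorem wuk : mk wC * mk (uC 3) * mk wC = mk (uC 11) * mk wC * mk (hC 1) * mk (uC 11) := by decide +kernel

theorem gU_pow : ∀ n : ℕ, (hn : n < 18) → gU 1 ^ n = gU ⟨n, hn⟩ := by
  intro n
  induction n with
  | zero => intro _; rw [pow_zero]; exact Subtype.ext u_zero.symm
  | succ n ih =>
    intro hn
    rw [pow_succ, ih (by omega)]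
    exact Subtype.ext (u_succ ⟨n, by omega⟩)

theorem gH_pow : ∀ n : ℕ, (hn : n < 9) → gH 1 ^ n = gH ⟨n, hn⟩ := by
  intro n
  induction n with
  | zero => intro _; rw [pow_zero]; exact Subtype.ext h_zero.symm
  | succ n ih =>
    intro hn
    rw [pow_succ, ih (by omega)]
    exact Subtype.ext (h_succ ⟨n, by omega⟩)

instance fact17 : Fact (Nat.Prime 17) := ⟨by norm_num⟩

theorem exists_hom : ∃ f : ProjectiveSpecialLinearGroup (Fin 2) (ZMod 17) →* Sp, Function.Injective f := by
  refine TS.Base.exists_hom (p := 17) (gU 1) (gH 1) gW 3 11 ?_ (by decide) (by norm_num) (by decide) ?_ ?_ ?_ ?_ ?_ ?_ ?_ ?_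
  · have h : ∀ a : ZMod 17, a ≠ 0 → ∃ n : Fin 16, a = ((3 : ℕ) : ZMod 17) ^ n.val := by decide +kernel
    intro a ha
    obtain ⟨n, hn⟩ := h a ha
    exact ⟨n.val, hn⟩
  · rw [gU_pow 17 (by norm_num)]
    exact Subtype.ext u_last
  · rw [gH_pow ((17 - 1) / 2) (by norm_num)]
    exact Subtype.ext h_last
  · rw [gU_pow (3 * 3) (by norm_num)]
    exact Subtype.ext h_u
  · exact Subtype.ext w_w
  · exact Subtype.ext wh
  · exact Subtype.ext wu
  · rw [gU_pow 3 (by norm_num), gU_pow 11 (by norm_num)]
    exact Subtype.ext wuk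
  · intro h
    exact u_ne (congrArg Subtype.val h)

theorem exists_hom' : ∃ f : ProjectiveSpecialLinearGroup (Fin 2) (ZMod 17) →* PSp 4 (ZMod 2), Function.Injective f := by
  obtain ⟨f, hf⟩ := exists_hom
  have hs : IsSimpleGroup (ProjectiveSpecialLinearGroup (Fin 2) (ZMod 17)) :=
    TwoFusion.SLTwoFacts.isSimpleGroup_psl (by rw [ZMod.card]; norm_num)
  obtain ⟨a, b, hab⟩ := TS.Base.psl_nc (F := ZMod 17) (by rw [ZMod.card]; norm_num)
  exact ⟨_, TS.Base.mk_injective hab f hf⟩

/-- **A6**: `L₂(17) ≤ Sp₈(2)` -/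
theorem sub : Sub.{u} (.psp 4 2) (.psl 2 17) := by
  rintro X _ ⟨F, _, _, hF, ⟨e⟩⟩
  obtain ⟨f, hf⟩ := exists_hom'
  let σ : ZMod 2 ≃+* F := ZMod.ringEquivOfPrime F Nat.prime_two hF
  let g : ProjectiveSpecialLinearGroup (Fin 2) (ZMod 17) →* X :=
    (e.symm.toMonoidHom.comp (LieClassical.FieldTransfer.pspCongr 4 σ).toMonoidHom).comp f
  have hg : Function.Injective g := (e.symm.injective.comp (LieClassical.FieldTransfer.pspCongr 4 σ).injective).comp hf
  exact ⟨g.range, ZMod 17, inferInstance, inferInstance, ZMod.card 17, ⟨(MonoidHom.ofInjective hg).symm⟩⟩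

end Cfsg.Agent.H860.TS.SpEight
end

-- part: H846/UThreeE
section
/-!
# `U₃(8)` is a subgroup of `²E₆(2)`

The three commuting subsystems of type `A₂` of the extended Dynkin diagram of `E₆` are permuted by an endomorphism
`n σ` of `E₆(k)`, whose cube is the Frobenius map of the field with eight elements composed with the graph automorphism
on each of them. The diagonal copy of `SU₃(8)` is fixed by it, and Lang's theorem conjugates it into `²E₆(2)`.
-/

set_option autoImplicit false

namespace Cfsg.Agent.H846.UThreeE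

open Cfsg Cfsg.Lie Cfsg.Agent.ChevalleyStructure Cfsg.Agent.ChevalleyStructure.Elts
  Cfsg.Agent.ChevalleyStructure.SignedSymm Cfsg.Agent.AGraded
open Cfsg.Agent.ChevalleyStructure.GraphSymm (symmE6)
open Cfsg.Agent.H897.Sg (sg)
open Cfsg.Agent.BpExc.FamTw.Gr (gr coe_gr P_xG)
open Cfsg.Agent.CpAut.RgdUntw (fld fld_coe)
open scoped commutatorElement

universe u v w

theorem hE6 : InList chevE6 := by simp

section
variable {k : Type u} [Field k]

/-- root elements in the Chevalley group -/
def X (r : ℕ) (t : k) : ↥(chevE6.group k) := ⟨xG hE6 r t, xG_mem_group hE6 r t⟩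

theorem X_add (r : ℕ) (t u : k) : X r t * X r u = X r (t + u) := Subtype.ext (xG_add hE6 r t u)

theorem X_comm_word {r s : ℕ} (hr : r < 72) (hs : s < 72) (h1 : s ≠ r) (h2 : s ≠ chevE6.neg r) (t u : k) :
    xG hE6 s u * xG hE6 r t = xG hE6 r t * xG hE6 s u * wordG hE6 (chevE6.commWord k r s t u) :=
  Units.ext (by
    rw [Units.val_mul, Units.val_mul, Units.val_mul, coe_wordG]
    exact Cfsg.Agent.S1025.result chevE6 hE6 r s hr hs h1 h2 t u)

/-- the table condition for commuting root elements -/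
def Cm (r s : ℕ) : Bool := (s == r) || (s != chevE6.neg r && chevE6.commTerms r s == [])

theorem X_commute {r s : ℕ} (hr : r < 72) (hs : s < 72) (h : Cm r s = true) (t u : k) :
    X s u * X r t = X r t * X s u := by
  apply Subtype.ext
  show xG hE6 s u * xG hE6 r t = xG hE6 r t * xG hE6 s u
  by_cases h1 : s = r
  · subst h1
    rw [xG_add, xG_add, add_comm]
  · have h' : s ≠ chevE6.neg r ∧ chevE6.commTerms r s = [] := by simpa [Cm, h1] using h
    rw [X_comm_word hr hs h1 h'.1]
    have h4 : wordG hE6 (chevE6.commWord k r s t u) = 1 := by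
      show (List.map _ (List.map _ (chevE6.commTerms r s))).prod = 1
      rw [h'.2]
      rfl
    rw [h4, mul_one]

/-- the table condition for a commutator -/
def Br (r s q : ℕ) : Bool :=
  s != r && s != chevE6.neg r && (chevE6.commTerms r s).map (fun c => (c.1, c.2.1 % 2, c.2.2)) == [(q, 1, 1, 1)] &&
    Cm q s && Cm q r

theorem br_group {G : Type*} [Group G] {g h W : G} (h1 : g * h = h * g * W) (h2 : g * W = W * g) (h3 : h * W = W * h) :
    ⁅g, h⁆ = W := by
  rw [commutatorElement_def, h1, mul_assoc (h * g) W, mul_assoc h g, ← mul_assoc g W, h2]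
  rw [show h * (W * g * g⁻¹) * h⁻¹ = h * W * h⁻¹ by group, h3]
  group

theorem X_br [CharP k 2] {r s q : ℕ} (hr : r < 72) (hs : s < 72) (hq : q < 72) (h : Br r s q = true) (t u : k) :
    ⁅X s u, X r t⁆ = X q (u * t) := by
  have h' : ((((s ≠ r ∧ s ≠ chevE6.neg r) ∧
      (chevE6.commTerms r s).map (fun c => (c.1, c.2.1 % 2, c.2.2)) = [(q, 1, 1, 1)]) ∧ Cm q s = true) ∧
      Cm q r = true) := by simpa only [Br, _root_.ne_eq, _root_.List.map_eq_singleton_iff, _root_.Prod.mk.injEq, _root_.Prod.exists, ↓ _root_.ExistsAndEq.existsAndEq, _root_.and_true, _root_.true_and, _root_.Bool.and_eq_true, _root_.bne_iff_ne, _root_.beq_iff_eq] using h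
  obtain ⟨⟨⟨⟨h1, h2⟩, h3⟩, h4⟩, h5⟩ := h'
  apply br_group
  · apply Subtype.ext
    show xG hE6 s u * xG hE6 r t = xG hE6 r t * xG hE6 s u * xG hE6 q (u * t)
    rw [X_comm_word hr hs h1 h2]
    (with_reducible congr 1)
    obtain ⟨c, hc⟩ : ∃ c, chevE6.commTerms r s = [c] := by
      have h6 := congrArg List.length h3
      rw [List.length_map] at h6
      exact List.length_eq_one_iff.1 h6
    rw [hc] at h3
    obtain ⟨c1, c2, c3, c4⟩ := c
    have h7 : c1 = q ∧ c2 % 2 = 1 ∧ c3 = 1 ∧ c4 = 1 := by simpa using h3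
    obtain ⟨rfl, h8, rfl, rfl⟩ := h7
    show (List.map _ (List.map _ (chevE6.commTerms r s))).prod = _
    rw [hc]
    show xG hE6 c1 ((c2 : k) * (-t) ^ 1 * u ^ 1) * 1 = _
    have h9 : (c2 : k) = 1 := by
      have h2 : (2 : k) = 0 := CharTwo.two_eq_zero
      rw [← Int.emod_add_mul_ediv c2 2, h8]
      push_cast
      rw [h2]
      ring
    rw [h9, mul_one, pow_one, pow_one, one_mul, CharTwo.neg_eq, mul_comm]
  · exact (X_commute hq hs h4 _ _)
  · exact (X_commute hq hr h5 _ _)

end

/-! ### The three subsystems -/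

/-- the roots of the three commuting subsystems of type `A₂` -/
def rt (m : Fin 3) (i j : Fin 3) : ℕ :=
  (((#[#[#[0, 56, 57], #[15, 0, 42], #[14, 29, 0]],
    #[#[0, 35, 33], #[36, 0, 34], #[38, 37, 0]],
    #[#[0, 0, 1], #[71, 0, 46], #[70, 25, 0]]] : Array (Array (Array ℕ))).getD m.val #[]).getD i.val #[]).getD j.val 0

theorem rt_lt : ∀ m i j : Fin 3, rt m i j < 72 := by decide +kernel

theorem rt_comm : ∀ m i j k l : Fin 3, i ≠ j → k ≠ l → j ≠ k → i ≠ l → Cm (rt m k l) (rt m i j) = true := by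
  decide +kernel

theorem rt_br : ∀ m i j k : Fin 3, i ≠ j → j ≠ k → i ≠ k → Br (rt m j k) (rt m i j) (rt m i k) = true := by
  (delta Cfsg.Agent.H846.UThreeE.Br Cfsg.Agent.H846.UThreeE.Cm; rewrite [Cfsg.Agent.ChevFast.E6.commTerms, Cfsg.Agent.ChevFast.E6.neg]; decide +kernel)

theorem rt_cross : ∀ m m' i j k l : Fin 3, m ≠ m' → i ≠ j → k ≠ l → Cm (rt m i j) (rt m' k l) = true := by
  (delta Cfsg.Agent.H846.UThreeE.Cm; rewrite [Cfsg.Agent.ChevFast.E6.commTerms, Cfsg.Agent.ChevFast.E6.neg]; decide +kernel)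

/-- the Weyl word -/
def wl : List ℕ := [5, 4, 3, 2, 1, 3, 4, 5, 4, 3, 2, 1, 3, 4, 3, 2, 1, 3, 2, 1]

/-- the permutation of the roots -/
def tau (r : Fin 72) : ℕ := wl.foldr chevE6.reflectRoot (symmE6.σ r).val

theorem tau_rt : ∀ m i j : Fin 3, i ≠ j → tau ⟨rt m i j, rt_lt m i j⟩ = if m = 2 then rt 0 j i else rt (m + 1) i j := by
  (delta Cfsg.Agent.ChevalleyStructure.GraphSymm.symmE6 Cfsg.Agent.ChevalleyStructure.SignedSymm.Tables.check Cfsg.Agent.ChevalleyStructure.SignedSymm.Tables.sigma Cfsg.Agent.ChevalleyStructure.SignedSymm.Tables.sigma0 Cfsg.Agent.ChevalleyStructure.SignedSymm.Tables.toSymm Cfsg.Agent.ChevalleyStructure.SignedSymm.chainL Cfsg.Agent.H846.UThreeE.tau Cfsg.Lie.ChevalleyDatum.chainRoot Cfsg.Lie.ChevalleyDatum.reflectRoot; rewrite [Cfsg.Agent.ChevFast.E6.cartan, Cfsg.Agent.ChevFast.E6.chainEntry, Cfsg.Agent.ChevFast.E6.neg]; decide +kernel)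

theorem refl_lt : ∀ i < 6, ∀ s < 72, chevE6.reflectRoot i s < 72 := by (delta Cfsg.Lie.ChevalleyDatum.chainRoot Cfsg.Lie.ChevalleyDatum.reflectRoot; rewrite [Cfsg.Agent.ChevFast.E6.cartan, Cfsg.Agent.ChevFast.E6.chainEntry, Cfsg.Agent.ChevFast.E6.neg]; decide +kernel)

section
variable {k : Type u} [Field k]

/-- the product of fundamental reflections -/
noncomputable def nW (k : Type u) [Field k] (l : List ℕ) : ↥(chevE6.group k) :=
  (l.map fun i => (⟨nG hE6 (chevE6.simple i) 1, nG_mem_group hE6 _ _⟩ : ↥(chevE6.group k))).prod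

variable [CharP k 2]

theorem nG_X {i s : ℕ} (hi : i < 6) (hs : s < 72) (t : k) :
    (⟨nG hE6 (chevE6.simple i) 1, nG_mem_group hE6 _ _⟩ : ↥(chevE6.group k)) * X s t *
      (⟨nG hE6 (chevE6.simple i) 1, nG_mem_group hE6 _ _⟩ : ↥(chevE6.group k))⁻¹ = X (chevE6.reflectRoot i s) t := by
  apply Subtype.ext
  show nG hE6 (chevE6.simple i) 1 * xG hE6 s t * (nG hE6 (chevE6.simple i) 1)⁻¹ = xG hE6 (chevE6.reflectRoot i s) t
  obtain ⟨η, hη, h⟩ := Cfsg.Agent.ChevalleyStructure.Irreducible.nG_conj (F := k) hE6 i s hi hs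
  have h1 : (η : k) = 1 := by
    rcases hη with rfl | rfl
    · simp
    · rw [Int.cast_neg, Int.cast_one, CharTwo.neg_eq]
  rw [h t, h1, one_mul, mul_inv_cancel_right]

theorem nW_X (l : List ℕ) (hl : ∀ i ∈ l, i < 6) {s : ℕ} (hs : s < 72) (t : k) :
    l.foldr chevE6.reflectRoot s < 72 ∧ nW k l * X s t * (nW k l)⁻¹ = X (l.foldr chevE6.reflectRoot s) t := by
  induction l with
  | nil =>
    refine ⟨hs, ?_⟩
    show (1 : ↥(chevE6.group k)) * X s t * 1⁻¹ = X s t
    group
  | cons i l ih =>
    obtain ⟨h1, h2⟩ := ih (fun j hj => hl j (List.mem_cons_of_mem _ hj))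
    have hi := hl i List.mem_cons_self
    refine ⟨refl_lt i hi _ h1, ?_⟩
    rw [List.foldr_cons, ← nG_X hi h1, ← h2]
    show (_ * nW k l) * X s t * (_ * nW k l)⁻¹ = _
    group

variable [PerfectRing k 2]

theorem sg_X (r : Fin 72) (t : k) : sg k (X r.val t) = X (symmE6.σ r).val (t ^ 2) := by
  apply Subtype.ext
  show ((gr hE6 symmE6 (fld chevE6 (frobeniusEquiv k 2) (X r.val t)) : ↥(chevE6.group k)) : GL chevE6.Idx k) = _
  rw [coe_gr]
  have h1 : ((fld chevE6 (frobeniusEquiv k 2) (X r.val t) : ↥(chevE6.group k)) : GL chevE6.Idx k) =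
      xG hE6 r.val (t ^ 2) := by
    apply Units.ext
    rw [fld_coe]
    show (chevE6.x k r.val t).map _ = chevE6.x k r.val (t ^ 2)
    have := Cfsg.Agent.ChevStructure.FieldMap.x_map (D := chevE6) (frobenius k 2) r.val t
    rw [frobenius_def] at this
    exact this
  rw [h1, P_xG hE6 symmE6 r]
  have h2 : ((symmE6.ε r : ℤ) : k) = 1 := by
    have h3 := symmE6.ε_sq' k r
    have h4 : (((symmE6.ε r : ℤ) : k) - 1) * (((symmE6.ε r : ℤ) : k) - 1) = 0 := by
      have h5 : (2 : k) = 0 := CharTwo.two_eq_zero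
      linear_combination h3 + (1 - ((symmE6.ε r : ℤ) : k)) * h5
    exact sub_eq_zero.1 (mul_self_eq_zero.1 h4)
  rw [h2, one_mul]
  rfl

variable (k) in
/-- the endomorphism permuting the three subsystems -/
noncomputable def ta : MulAut ↥(chevE6.group k) := MulAut.conj (nW k wl) * sg k

theorem wl_lt : ∀ i ∈ wl, i < 6 := by decide

theorem ta_X (r : Fin 72) (t : k) : ta k (X r.val t) = X (tau r) (t ^ 2) := by
  show nW k wl * sg k (X r.val t) * (nW k wl)⁻¹ = _
  rw [sg_X, (nW_X wl wl_lt (symmE6.σ r).2 _).2]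
  rfl

theorem ta_rt {m i j : Fin 3} (hij : i ≠ j) (t : k) :
    ta k (X (rt m i j) t) = X (if m = 2 then rt 0 j i else rt (m + 1) i j) (t ^ 2) := by
  have h := ta_X (k := k) ⟨rt m i j, rt_lt m i j⟩ t
  rw [tau_rt m i j hij] at h
  exact h

end

/-! ### The homomorphisms from `SL₃` -/

section
variable {k : Type u} [Field k] [CharP k 2] {E : Type v} [Field E] [Finite E] [CharP E 2] (f : E →+* k)

/-- the root elements of the first subsystem -/
def x1 (i j : Fin 3) (a : E) : ↥(chevE6.group k) := X (rt 0 i j) (f a)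

omit [Finite E] [CharP E 2] in
theorem steinRel : SteinRel (x1 f) where
  add i j _ a b := by
    show X _ (f (a + b)) = X _ (f a) * X _ (f b)
    rw [X_add, map_add]
  comm i j l m hij hlm hjl him a b :=
    X_commute (rt_lt 0 l m) (rt_lt 0 i j) (rt_comm 0 i j l m hij hlm hjl him) _ _
  br i j l hij hjl hil a b := by
    show ⁅X _ (f a), X _ (f b)⁆ = X _ (f (a * b))
    rw [map_mul]
    exact X_br (rt_lt 0 j l) (rt_lt 0 i j) (rt_lt 0 i l) (rt_br 0 i j l hij hjl hil) _ _

theorem exists_pi : ∃ π : Matrix.SpecialLinearGroup (Fin 3) E →* ↥(chevE6.group k),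
    (∀ i j (hij : i ≠ j) a, π (Matrix.SpecialLinearGroup.transvection hij a) = X (rt 0 i j) (f a)) ∧
    π.range = Subgroup.closure (gens (x1 f)) ∧
      π.ker ≤ Subgroup.center (Matrix.SpecialLinearGroup (Fin 3) E) := by
  obtain ⟨π, h1, h2, h3⟩ := exists_hom_finite (steinRel f) (by simp)
  refine ⟨π, h1, h2, h3 ⟨0, 1, by decide, 1, fun h => ?_⟩⟩
  have h4 : xG hE6 (rt 0 0 1) (f 1) = 1 := congrArg Subtype.val h
  rw [xG_eq_one_iff hE6 (rt_lt 0 0 1), map_one] at h4
  exact one_ne_zero h4

end

/-! ### The twisted Frobenius of `SL₃` -/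

section
open Matrix Matrix.SpecialLinearGroup
variable {E : Type v} [Field E]

/-- the Frobenius map composed with the inverse transpose -/
def star (σ : E →+* E) : _root_.Matrix.SpecialLinearGroup (Fin 3) E →* _root_.Matrix.SpecialLinearGroup (Fin 3) E where
  toFun A := (SpecialLinearGroup.map σ A)⁻¹.transpose
  map_one' := by
    rw [map_one, inv_one]
    exact Subtype.ext Matrix.transpose_one
  map_mul' A B := by
    rw [map_mul, _root_.mul_inv_rev]
    exact Subtype.ext (by
      rw [coe_transpose, coe_mul, coe_mul, Matrix.transpose_mul, coe_transpose, coe_transpose])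

theorem star_transvection (σ : E →+* E) {i j : Fin 3} (hij : i ≠ j) (a : E) :
    star σ (_root_.Matrix.SpecialLinearGroup.transvection hij a) = transvection hij.symm (-σ a) := by
  have h1 : SpecialLinearGroup.map σ (_root_.Matrix.SpecialLinearGroup.transvection hij a) = transvection hij (σ a) := by
    apply Subtype.ext
    show (σ.mapMatrix (1 + single i j a)) = 1 + single i j (σ a)
    rw [map_add, map_one, RingHom.mapMatrix_apply, Matrix.map_single]
  show (SpecialLinearGroup.map σ (transvection hij a))⁻¹.transpose = _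
  rw [h1, transvection_inv]
  apply Subtype.ext
  show Matrix.transpose (1 + single i j (-σ a)) = 1 + single j i (-σ a)
  rw [Matrix.transpose_add, Matrix.transpose_one, Matrix.transpose_single]

theorem star_eq [Fintype E] {q : ℕ} (hE : Fintype.card E = q ^ 2) {σ : E →+* E} (hσ : ∀ x, σ x = x ^ q)
    {A : _root_.Matrix.SpecialLinearGroup (Fin 3) E} (hA : A ∈ SU 3 E q) : star σ A = A := by
  rw [Cfsg.Agent.BpLin.mem_SU_iff_cst hE hσ] at hA
  have h1 : A * (SpecialLinearGroup.map σ A).transpose = 1 := Subtype.ext hA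
  have h2 : (SpecialLinearGroup.map σ A).transpose = A⁻¹ := (eq_inv_of_mul_eq_one_right h1)
  have h3 : (SpecialLinearGroup.map σ A) = (A⁻¹).transpose := by
    rw [← h2]
    exact Subtype.ext (Matrix.transpose_transpose _).symm
  show (SpecialLinearGroup.map σ A)⁻¹.transpose = A
  rw [h3]
  have h4 : ((A⁻¹).transpose)⁻¹ = A.transpose := by
    apply inv_eq_of_mul_eq_one_right
    apply Subtype.ext
    have h5 : (A : Matrix (Fin 3) (Fin 3) E) * (A⁻¹ : _root_.Matrix.SpecialLinearGroup (Fin 3) E) = 1 := by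
      rw [← coe_mul, mul_inv_cancel, coe_one]
    rw [coe_mul, coe_transpose, coe_transpose, ← Matrix.transpose_mul, h5, Matrix.transpose_one]
    rfl
  rw [h4]
  exact Subtype.ext (Matrix.transpose_transpose _)

end

/-! ### The diagonal homomorphism -/

section
open Subgroup
variable {k : Type u} [Field k]

variable (k) in
/-- the three commuting subgroups -/
def L (m : Fin 3) : Subgroup ↥(chevE6.group k) := _root_.Subgroup.closure {g | ∃ i j, i ≠ j ∧ ∃ t, g = X (rt m i j) t}

theorem X_mem_L {m i j : Fin 3} (h : i ≠ j) (t : k) : X (rt m i j) t ∈ L k m :=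
  subset_closure ⟨i, j, h, t, rfl⟩

theorem L_comm {m m' : Fin 3} (h : m ≠ m') {x y : ↥(chevE6.group k)} (hx : x ∈ L k m) (hy : y ∈ L k m') :
    x * y = y * x := by
  have h1 : L k m ≤ centralizer (L k m' : Set ↥(chevE6.group k)) := by
    refine (closure_le _).2 ?_
    rintro _ ⟨i, j, hij, t, rfl⟩
    have h2 : L k m' ≤ centralizer {X (rt m i j) t} := by
      refine (closure_le _).2 ?_
      rintro _ ⟨i', j', hij', t', rfl⟩
      rw [SetLike.mem_coe, mem_centralizer_singleton_iff]
      exact X_commute (rt_lt _ _ _) (rt_lt _ _ _) (rt_cross m m' i j i' j' h hij hij') _ _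
    rw [SetLike.mem_coe, mem_centralizer_iff]
    intro y hy
    exact mem_centralizer_singleton_iff.1 (h2 hy)
  exact ((mem_centralizer_iff.1 (h1 hx)) y hy).symm

variable [CharP k 2] [PerfectRing k 2]

theorem ta_mem {m : Fin 3} {x : ↥(chevE6.group k)} (hx : x ∈ L k m) : ta k x ∈ L k (m + 1) := by
  have h1 : L k m ≤ (L k (m + 1)).comap (ta k).toMonoidHom := by
    refine (closure_le _).2 ?_
    rintro _ ⟨i, j, hij, t, rfl⟩
    show ta k (X (rt m i j) t) ∈ L k (m + 1)
    rw [ta_rt hij]
    split_ifs with h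
    · subst h
      exact X_mem_L hij.symm _
    · exact X_mem_L hij _
  exact h1 hx

theorem rearr {G : Type*} [Group G] {a b a' b' a'' b'' : G} (h1 : b * a' = a' * b) (h2 : b * a'' = a'' * b)
    (h3 : b' * a'' = a'' * b') : (a * b) * ((a' * b') * (a'' * b'')) = (a * (a' * a'')) * (b * (b' * b'')) := by
  calc (a * b) * ((a' * b') * (a'' * b'')) = a * (b * a') * (b' * a'') * b'' := by group
    _ = a * (a' * b) * (a'' * b') * b'' := by rw [h1, h3]
    _ = a * a' * (b * a'') * b' * b'' := by group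
    _ = a * a' * (a'' * b) * b' * b'' := by rw [h2]
    _ = _ := by group

variable {E : Type v} [Field E] {π : Matrix.SpecialLinearGroup (Fin 3) E →* ↥(chevE6.group k)}

/-- the diagonal homomorphism -/
noncomputable def phi (hπ : ∀ A, π A ∈ L k 0) : Matrix.SpecialLinearGroup (Fin 3) E →* ↥(chevE6.group k) where
  toFun A := π A * (ta k (π A) * ta k (ta k (π A)))
  map_one' := by simp only [_root_.map_one, _root_.mul_one]
  map_mul' A B := by
    simp only [map_mul]
    exact rearr (L_comm (by decide) (hπ B) (ta_mem (hπ A))) (L_comm (by decide) (hπ B) (ta_mem (ta_mem (hπ A))))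
      (L_comm (by decide) (ta_mem (hπ B)) (ta_mem (ta_mem (hπ A))))

theorem phi_apply (hπ : ∀ A, π A ∈ L k 0) (A : Matrix.SpecialLinearGroup (Fin 3) E) :
    phi hπ A = π A * (ta k (π A) * ta k (ta k (π A))) := rfl

theorem ta_phi (hπ : ∀ A, π A ∈ L k 0) {A : Matrix.SpecialLinearGroup (Fin 3) E}
    (h : ta k (ta k (ta k (π A))) = π A) : ta k (phi hπ A) = phi hπ A := by
  have h1 : π A * ta k (π A) = ta k (π A) * π A :=
    L_comm (m := 0) (m' := 0 + 1) (by decide) (hπ A) (ta_mem (hπ A))
  have h2 : π A * ta k (ta k (π A)) = ta k (ta k (π A)) * π A :=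
    L_comm (m := 0) (m' := 0 + 1 + 1) (by decide) (hπ A) (ta_mem (ta_mem (hπ A)))
  rw [phi_apply, map_mul, map_mul, h, ← h2, ← mul_assoc, ← h1, mul_assoc]

theorem ta_cube (f : E →+* k) (h1 : ∀ i j (hij : i ≠ j) a,
    π (Matrix.SpecialLinearGroup.transvection hij a) = X (rt 0 i j) (f a)) {σ : E →+* E} (hσ : ∀ x, σ x = x ^ 8)
    (A : Matrix.SpecialLinearGroup (Fin 3) E) :
    ta k (ta k (ta k (π A))) = π (star σ A) := by
  have key : ((ta k).toMonoidHom.comp ((ta k).toMonoidHom.comp ((ta k).toMonoidHom.comp π))) = π.comp (star σ) := by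
    apply MonoidHom.eq_of_eqOn_dense (Cfsg.Agent.LieClassical.SLGen.closure_transvections (ι := Fin 3) (F := E))
    rintro _ ⟨i, j, hij, c, rfl⟩
    show ta k (ta k (ta k (π _))) = π (star σ _)
    have h8 : (f c ^ 2) ^ 2 = f c ^ 4 := by ring
    have h9 : (f c ^ 4) ^ 2 = f (σ c) := by rw [hσ, map_pow]; ring
    rw [h1, star_transvection, h1, ta_rt hij, if_neg (by decide), ta_rt hij, if_neg (by decide), ta_rt hij,
      if_pos (by decide), h8, h9, map_neg, CharTwo.neg_eq]
  exact DFunLike.congr_fun key A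

end

/-! ### The centre of `SU₃` -/

theorem rt_neg : ∀ m i j : Fin 3, i ≠ j → chevE6.neg (rt m i j) = rt m j i := by decide +kernel

theorem rt_cartan : ∀ s : Fin 72, (Strings.cartanR chevE6 (rt 0 0 1) s + 2 * Strings.cartanR chevE6 (rt 0 1 2) s +
    (2 * Strings.cartanR chevE6 (rt 1 0 1) s + 4 * Strings.cartanR chevE6 (rt 1 1 2) s) +
    (4 * Strings.cartanR chevE6 (rt 2 0 1) s + 8 * Strings.cartanR chevE6 (rt 2 1 2) s)) % 3 = 0 := by (delta Cfsg.Agent.ChevalleyStructure.Strings.cartanR Cfsg.Agent.ChevalleyStructure.Strings.co; rewrite [Cfsg.Agent.ChevFast.E6.cartan, Cfsg.Agent.ChevFast.E6.coroot]; open scoped Cfsg.Agent.ChevFast.Lin in (first | (set_option backward.isDefEq.respectTransparency.types false in set_option synthInstance.maxSize 99999 in (exact _root_.Cfsg.Agent.FastDec.of (by decide +kernel))) | decide +kernel))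

section
variable {k : Type u} [Field k]

/-- the torus elements of the subsystems -/
def HH (m i j : Fin 3) (t : k) : ↥(chevE6.group k) :=
  X (rt m i j) t * X (rt m j i) (-t⁻¹) * X (rt m i j) t * X (rt m i j) (-1) * X (rt m j i) 1 * X (rt m i j) (-1)

theorem coe_HH {m i j : Fin 3} (hij : i ≠ j) (t : k) : (HH m i j t : GL chevE6.Idx k) = hG hE6 (rt m i j) t := by
  show xG hE6 (rt m i j) t * xG hE6 (rt m j i) (-t⁻¹) * xG hE6 (rt m i j) t * xG hE6 (rt m i j) (-1) *
    xG hE6 (rt m j i) 1 * xG hE6 (rt m i j) (-1) = _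
  rw [hG_def, nG_def, nG_def, rt_neg m i j hij]
  have : -(-1 : k)⁻¹ = 1 := by norm_num
  rw [this]
  group

theorem mat_HH {m i j : Fin 3} (hij : i ≠ j) {t : k} (ht : t ≠ 0) :
    ((HH m i j t : GL chevE6.Idx k) : Matrix chevE6.Idx chevE6.Idx k) =
      Matrix.diagonal (Sum.elim (fun _ => (1 : k)) (fun s : Fin chevE6.nroots => t ^ Strings.cartanR chevE6 (rt m i j) s)) := by
  rw [coe_HH hij, coe_hG]
  exact StringMem.hMat_eq hE6 (rt_lt m i j) ht

theorem ta_HH [CharP k 2] [PerfectRing k 2] {m i j : Fin 3} (hm : m ≠ 2) (hij : i ≠ j) (t : k) :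
    ta k (HH m i j t) = HH (m + 1) i j (t ^ 2) := by
  rw [HH, HH, map_mul, map_mul, map_mul, map_mul, map_mul, ta_rt hij, ta_rt hij.symm, ta_rt hij, ta_rt hij.symm,
    if_neg hm, if_neg hm]
  have h1 : (-t⁻¹) ^ 2 = -(t ^ 2)⁻¹ := by rw [CharTwo.neg_eq, CharTwo.neg_eq, inv_pow]
  have h2 : (-1 : k) ^ 2 = -1 := by rw [CharTwo.neg_eq, one_pow]
  rw [h1, h2, one_pow]

theorem pi_diag {E : Type v} [Field E] {π : Matrix.SpecialLinearGroup (Fin 3) E →* ↥(chevE6.group k)} (f : E →+* k)
    (h1 : ∀ i j (hij : i ≠ j) a, π (Matrix.SpecialLinearGroup.transvection hij a) = X (rt 0 i j) (f a))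
    {i j : Fin 3} (hij : i ≠ j) {a : E} (ha : a ≠ 0) :
    π (Matrix.SpecialLinearGroup.diag2n hij a ha) = HH 0 i j (f a) := by
  rw [Cfsg.Agent.LieClassical.SLGen.diag2n_decompose, map_mul, map_mul, map_mul, map_mul, map_mul, h1, h1, h1, h1,
    HH, map_neg, map_neg, map_inv₀, map_one]

theorem phi_scalar [CharP k 2] [PerfectRing k 2] {E : Type v} [Field E]
    {π : Matrix.SpecialLinearGroup (Fin 3) E →* ↥(chevE6.group k)} (f : E →+* k)
    (h1 : ∀ i j (hij : i ≠ j) a, π (Matrix.SpecialLinearGroup.transvection hij a) = X (rt 0 i j) (f a))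
    (hπ : ∀ A, π A ∈ L k 0) {A : Matrix.SpecialLinearGroup (Fin 3) E} {c : E} (hA : A.1 = c • 1) :
    phi hπ A = 1 := by
  have hdet : c ^ 3 = 1 := by
    have := A.2
    rw [hA, Matrix.det_smul, Matrix.det_one, mul_one, Fintype.card_fin] at this
    exact this
  have hc : c ≠ 0 := by
    rintro rfl
    simp at hdet
  have hc2 : c ^ 2 ≠ 0 := pow_ne_zero 2 hc
  have e1 : A = Matrix.SpecialLinearGroup.diag2n (show (0 : Fin 3) ≠ 1 by decide) c hc *
      Matrix.SpecialLinearGroup.diag2n (show (1 : Fin 3) ≠ 2 by decide) (c ^ 2) hc2 := by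
    apply Subtype.ext
    have h4 : c⁻¹ = c ^ 2 := inv_eq_of_mul_eq_one_right (by rw [← hdet]; ring)
    have h5 : (c ^ 2)⁻¹ = c := inv_eq_of_mul_eq_one_right (by rw [← hdet]; ring)
    rw [hA, Matrix.SpecialLinearGroup.coe_mul]
    rw [Matrix.SpecialLinearGroup.diag2n_coe, Matrix.SpecialLinearGroup.diag2n_coe, Matrix.diagonal_mul_diagonal,
      ← Matrix.diagonal_one, ← Matrix.diagonal_smul]
    congr 1
    funext x
    fin_cases x
    · simp
    · simp [h4]
      linear_combination (-c) * hdet
    · simp [h5]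
  have hfc : (f c) ^ 3 = 1 := by rw [← map_pow, hdet, map_one]
  have ht : f c ≠ 0 := fun h => by rw [h] at hfc; simp at hfc
  have e2 : π A = HH 0 0 1 (f c) * HH 0 1 2 ((f c) ^ 2) := by
    rw [e1, map_mul, pi_diag f h1, pi_diag f h1, map_pow]
  have e3 : ta k (π A) = HH 1 0 1 ((f c) ^ 2) * HH 1 1 2 ((f c) ^ 4) := by
    rw [e2, map_mul, ta_HH (by decide) (by decide), ta_HH (by decide) (by decide), ← pow_mul]
    rfl
  have e4 : ta k (ta k (π A)) = HH 2 0 1 ((f c) ^ 4) * HH 2 1 2 ((f c) ^ 8) := by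
    rw [e3, map_mul, ta_HH (by decide) (by decide), ta_HH (by decide) (by decide), ← pow_mul, ← pow_mul]
    rfl
  rw [phi_apply, e4, e3, e2]
  generalize f c = t at hfc ht
  apply Subtype.ext
  apply Units.ext
  show (((HH 0 0 1 t : GL chevE6.Idx k) : Matrix chevE6.Idx chevE6.Idx k) *
      ((HH 0 1 2 (t ^ 2) : GL chevE6.Idx k) : Matrix chevE6.Idx chevE6.Idx k)) *
    ((((HH 1 0 1 (t ^ 2) : GL chevE6.Idx k) : Matrix chevE6.Idx chevE6.Idx k) *
      ((HH 1 1 2 (t ^ 4) : GL chevE6.Idx k) : Matrix chevE6.Idx chevE6.Idx k)) *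
    (((HH 2 0 1 (t ^ 4) : GL chevE6.Idx k) : Matrix chevE6.Idx chevE6.Idx k) *
      ((HH 2 1 2 (t ^ 8) : GL chevE6.Idx k) : Matrix chevE6.Idx chevE6.Idx k))) = 1
  rw [mat_HH (by decide) ht, mat_HH (by decide) (pow_ne_zero _ ht), mat_HH (by decide) (pow_ne_zero _ ht),
    mat_HH (by decide) (pow_ne_zero _ ht), mat_HH (by decide) (pow_ne_zero _ ht),
    mat_HH (by decide) (pow_ne_zero _ ht), Matrix.diagonal_mul_diagonal, Matrix.diagonal_mul_diagonal,
    Matrix.diagonal_mul_diagonal, Matrix.diagonal_mul_diagonal, Matrix.diagonal_mul_diagonal, ← Matrix.diagonal_one]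
  congr 1
  funext x
  rcases x with x | s
  · simp
  · simp only [Sum.elim_inr]
    obtain ⟨m, hm⟩ := Int.dvd_of_emod_eq_zero (rt_cartan s)
    have h6 : ∀ (n : ℕ) (z : ℤ), (t ^ n) ^ z = t ^ ((n : ℤ) * z) := fun n z => by
      rw [zpow_mul, zpow_natCast]
    rw [h6, h6, h6, h6, h6, ← zpow_add₀ ht, ← zpow_add₀ ht, ← zpow_add₀ ht, ← zpow_add₀ ht, ← zpow_add₀ ht]
    have h7 : Strings.cartanR chevE6 (rt 0 0 1) s + ((2 : ℕ) : ℤ) * Strings.cartanR chevE6 (rt 0 1 2) s +
      (((2 : ℕ) : ℤ) * Strings.cartanR chevE6 (rt 1 0 1) s + ((4 : ℕ) : ℤ) * Strings.cartanR chevE6 (rt 1 1 2) s +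
      (((4 : ℕ) : ℤ) * Strings.cartanR chevE6 (rt 2 0 1) s + ((8 : ℕ) : ℤ) * Strings.cartanR chevE6 (rt 2 1 2) s)) =
        3 * m := by
      rw [← hm]
      push_cast
      ring
    rw [h7, zpow_mul]
    have h8 : t ^ (3 : ℤ) = 1 := by exact_mod_cast hfc
    rw [h8, one_zpow]

end

/-! ### Assembly -/

section
open Subgroup Cfsg.Agent.H897.Emb Cfsg.Agent.H897.Sg Cfsg.Agent.H897.Lat Cfsg.Agent.H897.Tor Cfsg.Agent.H897.Cen Cfsg.Agent.H897.Orb Cfsg.Agent.BpExc.LangFr
  Cfsg.Agent.KFacts.RgdChevCoord Cfsg.Agent.BpExc.Fr Cfsg.Agent.BpExc.TowChev Cfsg.Agent.Nodes.RGDChev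
open Cfsg.Agent.BpExc.FamTw.Six (em coe_em em_injective)

variable {k : Type v} [Field k] [CharP k 2] [IsAlgClosed k] (hk : LocFin k)

include hk in
theorem exists_z (n : ↥(chevE6.group k)) : ∃ z : ↥(chevE6.group k), n = z⁻¹ * sg k z := by
  have hfr : Fr cs0 hp.isCartan (TT chevE6 k) (XX chevE6 6 k) (sg k)
      (Cfsg.Agent.H897.Frame.permE Cfsg.Agent.H897.Frame.rho6) := by
    have := (sg_sfr (k := k) cs0 hk).fr
    rwa [TL_eq hp hk, XL_eq hp hk] at this
  obtain ⟨z, hz⟩ := lang_all hp cs0 one_pos (sg_sfr (k := k) cs0 hk).frob hfr 1 n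
  exact ⟨z, by rw [hz, map_one, one_mul]⟩

theorem sg_conj {z g : ↥(chevE6.group k)} (hz : nW k wl = z⁻¹ * sg k z) (hg : ta k g = g) :
    sg k (z * g * z⁻¹) = z * g * z⁻¹ := by
  have h1 : sg k z = z * nW k wl := by rw [hz]; group
  have h2 : nW k wl * sg k g * (nW k wl)⁻¹ = g := hg
  rw [map_mul, map_mul, map_inv, h1]
  calc z * nW k wl * sg k g * (z * nW k wl)⁻¹ = z * (nW k wl * sg k g * (nW k wl)⁻¹) * z⁻¹ := by group
    _ = _ := by rw [h2]

/-- the permutation matrix of the first two coordinates -/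
def sw (E : Type v) [Field E] [CharP E 2] : Matrix.SpecialLinearGroup (Fin 3) E :=
  ⟨!![0, 1, 0; 1, 0, 0; 0, 0, 1], by
    rw [Matrix.det_fin_three]
    simp [CharTwo.neg_eq]⟩

theorem sw_mem {E : Type v} [Field E] [Fintype E] [CharP E 2] (q : ℕ) (hE : Fintype.card E = q ^ 2) {σ : E →+* E}
    (hσ : ∀ x, σ x = x ^ q) : sw E ∈ SU 3 E q := by
  rw [Cfsg.Agent.BpLin.mem_SU_iff_cst hE hσ]
  ext i j
  (revert i j; simp only [sw, Cfsg.Agent.BpLin.cst, Matrix.mul_apply, Fin.sum_univ_three, _root_.Fin.forall_fin_succ, _root_.Matrix.of_apply, _root_.Matrix.cons_val', _root_.Matrix.cons_val_fin_one, _root_.Matrix.transpose_apply, _root_.Matrix.map_apply, Fin.isValue, _root_.Matrix.cons_val_zero, _root_.Matrix.cons_val_one, _root_.Matrix.cons_val, _root_.map_zero, _root_.MulZeroClass.mul_zero, _root_.map_one, _root_.mul_one, _root_.zero_add, _root_.add_zero, _root_.Matrix.cons_val_succ, _root_.IsEmpty.forall_iff, _root_.and_true, _root_.Matrix.one_apply_eq, Nat.reduceAdd, _root_.Fin.succ_zero_eq_one, _root_.ne_eq,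 _root_.zero_ne_one, _root_.not_false_eq_true, _root_.Matrix.one_apply_ne, _root_.Fin.succ_one_eq_two, Fin.reduceEq, _root_.and_self, _root_.Fin.succ_ne_zero, _root_.true_and])

theorem sw_sq {E : Type v} [Field E] [CharP E 2] : sw E * sw E = 1 := by
  apply Subtype.ext
  rw [Matrix.SpecialLinearGroup.coe_mul]
  ext i j
  (revert i j; simp only [sw, Matrix.mul_apply, Fin.sum_univ_three, _root_.Fin.forall_fin_succ, _root_.Matrix.of_apply, _root_.Matrix.cons_val', _root_.Matrix.cons_val_fin_one, Fin.isValue, _root_.Matrix.cons_val_zero, _root_.Matrix.cons_val_one, _root_.Matrix.cons_val, _root_.Matrix.SpecialLinearGroup.coe_one, _root_.MulZeroClass.mul_zero, _root_.mul_one, _root_.zero_add, _root_.add_zero, _root_.Matrix.cons_val_succ, _root_.IsEmpty.forall_iff, _root_.and_true, _root_.Matrix.one_apply_eq, Nat.reduceAdd, _root_.Fin.succ_zero_eq_one, _root_.ne_eq, _root_.zero_ne_one, _root_.not_false_eq_true, _root_.Matrix.one_apply_ne, _root_.Fin.succ_one_eq_two, Fin.reduceEq, _root_.and_self, _root_.Fin.succ_ne_zero,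 _root_.true_and])

/-- the commutator of the permutation matrix with a transvection is not scalar -/
theorem sw_comm {E : Type v} [Field E] [CharP E 2] {B : Matrix.SpecialLinearGroup (Fin 3) E}
    (hB : B = Matrix.SpecialLinearGroup.transvection (show (0 : Fin 3) ≠ 2 by decide) 1) {c : E}
    (h : (sw E * B * (sw E)⁻¹ * B⁻¹).1 = c • 1) : False := by
  have h1 : (sw E * B).1 = c • (B * sw E).1 := by
    have h2 : sw E * B = (sw E * B * (sw E)⁻¹ * B⁻¹) * (B * sw E) := by group
    conv_lhs => rw [h2, Matrix.SpecialLinearGroup.coe_mul, h]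
    rw [smul_mul_assoc, one_mul]
  have h3 := congrFun (congrFun h1 1) 2
  have h4 := congrFun (congrFun h1 0) 2
  subst hB
  rw [Matrix.SpecialLinearGroup.coe_mul, Matrix.SpecialLinearGroup.coe_mul] at h3 h4
  simp [sw, Matrix.mul_apply, Fin.sum_univ_three, Matrix.transvection, Matrix.SpecialLinearGroup.transvection,
    Matrix.single_apply] at h3 h4

variable {E : Type v} [Field E]

/-- an element in the kernel of the diagonal map is central modulo the kernel -/
theorem phi_ne {π : Matrix.SpecialLinearGroup (Fin 3) E →* ↥(chevE6.group k)} (hπ : ∀ A, π A ∈ L k 0)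
    (hker : π.ker ≤ center (Matrix.SpecialLinearGroup (Fin 3) E)) {A : Matrix.SpecialLinearGroup (Fin 3) E}
    (h : phi hπ A = 1) (B : Matrix.SpecialLinearGroup (Fin 3) E) :
    A * B * A⁻¹ * B⁻¹ ∈ center (Matrix.SpecialLinearGroup (Fin 3) E) := by
  apply hker
  rw [MonoidHom.mem_ker, map_mul, map_mul, map_mul, map_inv, map_inv]
  rw [phi_apply] at h
  have h1 : π A = (ta k (π A) * ta k (ta k (π A)))⁻¹ := eq_inv_of_mul_eq_one_left h
  have h2 : π B * ta k (π A) = ta k (π A) * π B :=
    L_comm (m := 0) (m' := 0 + 1) (by decide) (hπ B) (ta_mem (hπ A))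
  have h3 : π B * ta k (ta k (π A)) = ta k (ta k (π A)) * π B :=
    L_comm (m := 0) (m' := 0 + 1 + 1) (by decide) (hπ B) (ta_mem (ta_mem (hπ A)))
  have h4 : Commute (π B) (π A) := by
    rw [h1]
    exact (Commute.mul_right (h2 : Commute _ _) (h3 : Commute _ _)).inv_right
  rw [← h4.eq]
  group

end

section
open Subgroup Cfsg.Agent.H897.Emb Cfsg.Agent.H897.Sg Cfsg.Agent.H897.Lat Cfsg.Agent.KFacts.RgdChevCoord
open Cfsg.Agent.BpExc.FamTw.Six (em coe_em em_injective)

/-- **`SU₃(8) → ²E₆(2)` with kernel the centre** -/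
theorem exists_hom {K : Type u} [Field K] [Fintype K] (hK : Fintype.card K = 4) (E : Type) [Field E] [Fintype E]
    (hE : Fintype.card E = 8 ^ 2) :
    ∃ χ : SU 3 E 8 →* ↥(twistedE6 K 2), χ.ker = center (SU 3 E 8) := by
  classical
  have : CharP E 2 := charP_of_card_eq_prime_pow (p := 2) (f := 6) (by rw [hE]; norm_num)
  have : CharP K 2 := charP_of_card_eq_prime_pow (p := 2) (f := 2) (by rw [hK]; norm_num)
  let : Algebra (ZMod 2) E := ZMod.algebra E 2
  let : Algebra (ZMod 2) K := ZMod.algebra K 2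
  let k := AlgebraicClosure (ZMod 2)
  have : CharP k 2 := inferInstance
  have hk : Cfsg.Agent.BpExc.TowChev.LocFin k := Cfsg.Agent.BpExc.TowChev.locFin_of_isAlgebraic 2 k
  let f : E →+* k := (IsAlgClosed.lift : E →ₐ[ZMod 2] k)
  let fK : K →+* k := (IsAlgClosed.lift : K →ₐ[ZMod 2] k)
  let σ : E →+* E := iterateFrobenius E 2 3
  have hσ : ∀ x, σ x = x ^ 8 := fun x => iterateFrobenius_def 2 3 x
  obtain ⟨π, h1, h2, h3⟩ := exists_pi (k := k) f
  have hπ : ∀ A, π A ∈ L k 0 := by
    intro A
    have h4 : π A ∈ Subgroup.closure (gens (x1 f)) := by rw [← h2]; exact ⟨A, rfl⟩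
    have h5 : Subgroup.closure (gens (x1 f)) ≤ L k 0 := by
      refine (closure_le _).2 ?_
      rintro _ ⟨i, j, hij, a, rfl⟩
      exact X_mem_L hij _
    exact h5 h4
  obtain ⟨z, hz⟩ := exists_z hk (nW k wl)
  let ψ : SU 3 E 8 →* ↥(chevE6.group k) := (MulAut.conj z).toMonoidHom.comp ((phi hπ).comp (SU 3 E 8).subtype)
  have hψσ : ∀ A, sg k (ψ A) = ψ A := by
    intro A
    refine sg_conj hz (ta_phi hπ ?_)
    rw [ta_cube f h1 hσ]
    exact congrArg π (star_eq hE hσ A.2)
  have hψ1 : ∀ A, ψ A = 1 → phi hπ A.1 = 1 := by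
    intro A hA
    have : z * phi hπ A.1 * z⁻¹ = 1 := hA
    rw [mul_inv_eq_one] at this
    exact mul_eq_left.mp this
  have hcen : ∀ A ∈ center (SU 3 E 8), ψ A = 1 := by
    intro A hA
    obtain ⟨c, hc⟩ := Cfsg.Agent.Cit.LongInst.su_cen hE le_rfl A hA
    show z * phi hπ A.1 * z⁻¹ = 1
    rw [phi_scalar f h1 hπ hc, mul_one, mul_inv_cancel]
  let S : SU 3 E 8 := ⟨sw E, sw_mem 8 hE hσ⟩
  have hSS : S * S = 1 := Subtype.ext sw_sq
  have hSnc : S ∉ center (SU 3 E 8) := by
    intro h
    obtain ⟨c, hc⟩ := Cfsg.Agent.Cit.LongInst.su_cen hE le_rfl S h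
    have h4 := congrFun (congrFun hc 0) 1
    simp [S, sw] at h4
  have hperf : commutator (SU 3 E 8) = ⊤ :=
    Cfsg.Agent.LieClassical.HermPerfect.commutator_SU_eq_top hE le_rfl (by norm_num)
  -- the image lies in `²E₆(2)`
  let R : Subgroup ↥(chevE6.group k) := (em (K := K) 2 fK).range
  have hNn : (R.comap ψ).Normal := by
    refine ⟨fun a ha g => ?_⟩
    rw [mem_comap, map_mul, map_mul, map_inv]
    exact (mem_normalizer_iff.1 (mem_normalizer hK fK (hψσ g)) _).1 ha
  have htop : R.comap ψ = ⊤ := by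
    apply Cfsg.Agent.LieClassical.HermSimple.normal_eq_top_of_perfect hE le_rfl hperf
    intro hle
    apply hSnc
    apply hle
    rw [mem_comap]
    have h6 := cube_mem hK hk fK (hψσ S)
    have h7 : (ψ S) ^ 3 = ψ S := by
      rw [← map_pow, pow_succ, pow_two, hSS, one_mul]
    rwa [h7] at h6
  have hR : ∀ A, ψ A ∈ (em (K := K) 2 fK).range := fun A => by
    have : A ∈ R.comap ψ := by rw [htop]; exact mem_top A
    exact this
  let χ : SU 3 E 8 →* ↥(twistedE6 K 2) :=
    (MonoidHom.ofInjective (em_injective (q := 2) fK)).symm.toMonoidHom.comp (ψ.codRestrict _ hR)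
  have hχ : ∀ A, χ A = 1 ↔ ψ A = 1 := by
    intro A
    show (MonoidHom.ofInjective (em_injective (q := 2) fK)).symm (ψ.codRestrict _ hR A) = 1 ↔ _
    rw [MulEquiv.map_eq_one_iff]
    exact ⟨fun h => congrArg Subtype.val h, fun h => Subtype.ext h⟩
  refine ⟨χ, le_antisymm ?_ ?_⟩
  · by_contra hnot
    have htop' : χ.ker = ⊤ := Cfsg.Agent.LieClassical.HermSimple.normal_eq_top_of_perfect hE le_rfl hperf hnot
    have hS : S ∈ χ.ker := by rw [htop']; exact mem_top _
    have h8 := hψ1 S ((hχ S).1 hS)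
    have h9 := phi_ne hπ h3 h8 (Matrix.SpecialLinearGroup.transvection (show (0 : Fin 3) ≠ 2 by decide) 1)
    rw [Matrix.SpecialLinearGroup.mem_center_iff] at h9
    obtain ⟨r, -, hr⟩ := h9
    refine sw_comm rfl (c := r) ?_
    rw [← hr, Matrix.scalar_apply, ← Matrix.smul_one_eq_diagonal]
  · intro A hA
    exact (hχ A).2 (hcen A hA)

/-- **B4 of S5741**: `U₃(8)` is a subgroup of `²E₆(2)`. -/
theorem inE {K : Type u} [Field K] [Fintype K] (hK : Fintype.card K = 4) :
    Cfsg.Agent.H944.TS.InE K (.psu 3 8) := by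
  have : Fact (Nat.Prime 2) := ⟨Nat.prime_two⟩
  let : Fintype (GaloisField 2 6) := Fintype.ofFinite _
  have hE : Fintype.card (GaloisField 2 6) = 8 ^ 2 := by
    rw [← Nat.card_eq_fintype_card, GaloisField.card 2 6 (by norm_num)]
    norm_num
  obtain ⟨χ, hχ⟩ := exists_hom hK (GaloisField 2 6) hE
  refine ⟨χ.range, GaloisField 2 6, inferInstance, inferInstance, hE, ⟨?_⟩⟩
  exact ((QuotientGroup.quotientKerEquivRange χ).symm.trans (QuotientGroup.quotientMulEquivOfEq hχ))

end

end Cfsg.Agent.H846.UThreeE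
end

-- part: H964/J1E6/Cent
section
/-!
# The centralizer of an element of order 19 in `²E₆(2)` has exponent dividing `513` (helper964)
-/

set_option autoImplicit false
set_option linter.unusedSectionVars false

namespace Cfsg.Agent.H964.J1E6

open CoxeterSystem Cfsg Cfsg.Lie Cfsg.Agent.ChevalleyStructure Cfsg.Agent.ChevalleyStructure.Elts
  Cfsg.Agent.ChevalleyStructure.CoxeterGeom Cfsg.Agent.ChevalleyStructure.CoxeterGeomTypes
  Cfsg.Agent.Tits.Roots
  Cfsg.Agent.Tits.Core Cfsg.Agent.Nodes.Reps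
  Cfsg.Agent.Nodes.BNOf Cfsg.Agent.Nodes.RGDChev Cfsg.Agent.KFacts.RgdField Cfsg.Agent.KFacts.RgdChevCoord
  Cfsg.Agent.BpExc.Tow Cfsg.Agent.BpExc.TowChev Cfsg.Agent.BpExc.LangFr Cfsg.Agent.BpExc.Fr
  Cfsg.Agent.BpExc.TorCent Cfsg.Agent.H897.Lat Cfsg.Agent.H897.Sg Cfsg.Agent.H897.Tor Cfsg.Agent.H897.Cen
  Cfsg.Agent.H897.Orb Cfsg.Agent.H897.Emb Cfsg.Agent.H897.Frm Cfsg.Agent.H897.Cas Cfsg.Agent.H897.Syl
  Cfsg.Agent.H897.Data
open Cfsg.Agent.BpExc.FamTw.Six (em coe_em em_injective sig_em)

universe u v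

/-- the action of the frame for 19 on the roots -/
def st (a : V) : V := actR ws19 (pm a)

theorem st_mem : ∀ a ∈ rootList, st a ∈ rootList := by decide +kernel

theorem st_nine : ∀ a ∈ rootList, st (st (st (st (st (st (st (st (st a)))))))) = -a := by (first | (set_option backward.isDefEq.respectTransparency.types false in set_option synthInstance.maxSize 99999 in (apply _root_.Cfsg.Agent.FastDec.fin; apply _root_.Cfsg.Agent.FastDec.tv (@_root_.Cfsg.Agent.H897.Lat.pm) (by delta _root_.Cfsg.Agent.H897.Lat.pm; exact _root_.Cfsg.Agent.FastDec.twin); intro _ _; apply _root_.Cfsg.Agent.FastDec.tv (@_root_.Cfsg.Agent.H897.Lat.bil) (by delta _root_.Cfsg.Agent.H897.Lat.bil; exact _root_.Cfsg.Agent.FastDec.twin); intro _ _; apply _root_.Cfsg.Agent.FastDec.tv (@_root_.Cfsg.Agent.H897.Lat.rf) (by delta _root_.Cfsg.Agent.H897.Lat.rf; exact _root_.Cfsg.Agent.FastDec.twin); intro _ _; apply _root_.Cfsg.Agent.FastDec.tv (@_root_.Cfsg.Agent.H897.Lat.actR) (by delta _root_.Cfsg.Agent.H897.Lat.actR _root_.Cfsg.Agent.H897.Lat.actR._f;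 exact _root_.Cfsg.Agent.FastDec.twin); intro _ _; apply _root_.Cfsg.Agent.FastDec.tv (@_root_.Cfsg.Agent.H964.J1E6.st) (by delta _root_.Cfsg.Agent.H964.J1E6.st; exact _root_.Cfsg.Agent.FastDec.twin); intro _ _; exact _root_.Cfsg.Agent.FastDec.ok; decide +kernel)) | decide +kernel)

variable {K : Type u} [Field K] [Fintype K] (hK : Fintype.card K = 4) {k : Type v} [Field k] [CharP k 2]
  [IsAlgClosed k] (hk : LocFin k) (f : K →+* k)

include hK hk f in
theorem cent_exp' {x u : ↥(twistedE6 K 2)} (hx : orderOf x = 19) (hu : u * x = x * u) : u ^ 513 = 1 := by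
  have hpp : Nat.Prime 19 := by norm_num
  have hpf : Fact (Nat.Prime 19) := ⟨hpp⟩
  obtain ⟨ζ, hζ⟩ := exists_prim (k := k) (l := 19) (by norm_num)
  have hζ0 : ζ ≠ 0 := hζ.ne_zero hpp.ne_zero
  have hx1 : x ≠ 1 := by
    rintro rfl
    rw [orderOf_one] at hx
    norm_num at hx
  obtain ⟨z, hz, hPm⟩ := exists_frame_one hK hk f ws19_mem hpp (by norm_num) (by norm_num) hζ c19_fix c19_ne
    (P := Subgroup.zpowers x) (IsPGroup.of_card (n := 1) (by rw [Nat.card_zpowers, hx, pow_one]))
    (by rwa [Ne, Subgroup.zpowers_eq_bot])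
  obtain ⟨hcT, -⟩ := tz_spec (ζ := ζ) hζ0 c19
  have hcp := tz_pow_eq_one hk hpp.pos hζ c19
  obtain ⟨x0, hx0, ex0⟩ : ∃ x0 ∈ Subgroup.zpowers x, em 2 f x0 = z * tz ζ c19 * z⁻¹ := by
    have h2 : z * tz ζ c19 * z⁻¹ ∈ (Subgroup.zpowers (tz ζ c19)).map (MulAut.conj z).toMonoidHom :=
      ⟨tz ζ c19, Subgroup.mem_zpowers _, rfl⟩
    rw [← hPm] at h2
    obtain ⟨x, hx, e⟩ := h2
    exact ⟨x, hx, e⟩
  have hu0 : u * x0 = x0 * u := by
    obtain ⟨m, rfl⟩ := hx0
    exact (Commute.zpow_right (show Commute u x from hu) m).eq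
  have hem := congrArg (em 2 f) hu0
  rw [map_mul, map_mul, ex0] at hem
  -- the element of the torus
  have hv : (z⁻¹ * em 2 f u * z) * tz ζ c19 = tz ζ c19 * (z⁻¹ * em 2 f u * z) := by
    calc (z⁻¹ * em 2 f u * z) * tz ζ c19 = z⁻¹ * (em 2 f u * (z * tz ζ c19 * z⁻¹)) * z := by group
      _ = z⁻¹ * ((z * tz ζ c19 * z⁻¹) * em 2 f u) * z := by rw [hem]
      _ = _ := by group
  have hvT : z⁻¹ * em 2 f u * z ∈ TT chevE6 k := by
    refine cent_reg hk hpp (by norm_num) (S := {tz ζ c19}) (Set.finite_singleton _) ?_ ?_ ?_ ?_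
    · rintro s rfl
      exact hcT
    · rintro s rfl
      exact hcp
    · intro a ha
      refine ⟨tz ζ c19, rfl, ?_⟩
      rw [ch_tz hk hζ0 _ ha, Ne, hζ.zpow_eq_one_iff_dvd]
      exact c19_reg a ha
    · rintro s rfl
      exact hv
  obtain ⟨τ, g, F, hg, hτ⟩ := hz.spec
  generalize hvd : z⁻¹ * em 2 f u * z = v at hvT
  have huv : em 2 f u = z * v * z⁻¹ := by rw [← hvd]; group
  have hτv : τ v = v := by
    have h1 := sg_em hK f u
    rw [huv, hτ] at h1
    exact conj_inj h1
  have hstep : ∀ a ∈ rootList, ch hp (st a) v = ch hp a v ^ 2 := by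
    intro a ha
    have h1 := ch_tau hk F hvT ha
    rw [hτv, hg] at h1
    exact h1
  have h9 : ∀ a ∈ rootList, ch hp (-a) v = ch hp a v ^ 512 := by
    intro a ha
    have m1 := st_mem a ha
    have m2 := st_mem _ m1
    have m3 := st_mem _ m2
    have m4 := st_mem _ m3
    have m5 := st_mem _ m4
    have m6 := st_mem _ m5
    have m7 := st_mem _ m6
    have m8 := st_mem _ m7
    rw [← st_nine a ha, hstep _ m8, hstep _ m7, hstep _ m6, hstep _ m5, hstep _ m4, hstep _ m3, hstep _ m2,
      hstep _ m1, hstep _ ha, ← pow_mul, ← pow_mul, ← pow_mul, ← pow_mul, ← pow_mul, ← pow_mul, ← pow_mul, ← pow_mul]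
  have hv1 : v ^ 513 = 1 := by
    refine eq_of_ch (pow_mem hvT 513) (one_mem _) fun i => ?_
    have hi := isRoot_sr' i
    rw [ch_pow hk hvT hi, ch_one hk hi]
    obtain ⟨φ, h3, h4, h5⟩ := chAddL hp CoxeterMatrix.E₆.toCoxeterSystem hk 2 v hvT
    have hr : ∀ a ∈ rootList, IsRoot CoxeterMatrix.E₆.toCoxeterSystem hp.isCartan a := fun a ha => (isRoot_iff' _ a).2 ha
    have h6 := h9 _ hi
    rw [h5 _ (hr _ (_root_.Cfsg.Agent.H897.Frm.neg_mem hi)), h5 _ (hr _ hi)] at h6
    rw [h5 _ (hr _ hi)]
    have h7 := h4 (sr i) (-sr i)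
    rw [add_neg_cancel, h3, h6] at h7
    rw [pow_succ', ← h7]
  apply em_injective (K := K) (q := 2) f
  rw [map_pow, huv, conj_pow, hv1, map_one]
  group

include hK in
/-- **The centralizer of an element of order 19 has exponent dividing 513.** -/
theorem cent_exp {x u : ↥(twistedE6 K 2)} (hx : orderOf x = 19) (hu : u * x = x * u) : u ^ 513 = 1 := by
  have hchar : CharP K 2 := by
    obtain ⟨q, hq⟩ := CharP.exists K
    have hqp : q.Prime := CharP.char_is_prime K q
    obtain ⟨n, -, hn⟩ := FiniteField.card K q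
    rw [hK] at hn
    have h1 : q ∣ 2 ^ 2 := by
      have : q ∣ q ^ (n : ℕ) := dvd_pow_self q n.ne_zero
      rw [← hn] at this
      exact this
    have h2 : q = 2 := (Nat.prime_dvd_prime_iff_eq hqp Nat.prime_two).1 (hqp.dvd_of_dvd_pow h1)
    rwa [← h2]
  let _ : Algebra (ZMod 2) K := ZMod.algebra K 2
  have hfin : Module.Finite (ZMod 2) K := Module.Finite.of_finite
  have halg : Algebra.IsAlgebraic (ZMod 2) K := Algebra.IsAlgebraic.of_finite (ZMod 2) K
  let f : K →ₐ[ZMod 2] AlgebraicClosure (ZMod 2) := IsAlgClosed.lift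
  have hk : Cfsg.Agent.BpExc.TowChev.LocFin (AlgebraicClosure (ZMod 2)) :=
    Cfsg.Agent.BpExc.TowChev.locFin_of_isAlgebraic 2 _
  exact cent_exp' hK hk (f : K →+* AlgebraicClosure (ZMod 2)) hx hu

end Cfsg.Agent.H964.J1E6
end

-- part: H964/J1E6/Main
section
/-!
# `J₁` is not a subgroup of `²E₆(2)` (helper964; task 986, S5741)
-/

set_option autoImplicit false

namespace Cfsg.Agent.H964.J1E6

open Subgroup

/-- No element of order 19 is conjugate to its inverse: Sylow counting. -/
theorem not_real {G : Type*} [Group G] (hcard : Nat.card G = 76532479683774853939200)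
    (hexp : ∀ x u : G, orderOf x = 19 → u * x = x * u → u ^ 513 = 1) {x h : G} (hx : orderOf x = 19)
    (hh : h * x * h⁻¹ = x⁻¹) : False := by
  have hp : Nat.Prime 19 := by norm_num
  have hpf : Fact (Nat.Prime 19) := ⟨hp⟩
  have hfin : Finite G := Nat.finite_of_card_ne_zero (by rw [hcard]; norm_num)
  have hZ : Nat.card (zpowers x) = 19 := by rw [Nat.card_zpowers, hx]
  -- the normaliser
  let N := normalizer ((zpowers x : Subgroup G) : Set G)
  let φ : N →* MulAut (zpowers x) := (zpowers x).normalizerMonoidHom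
  have hker : φ.ker = (centralizer ((zpowers x : Subgroup G) : Set G)).subgroupOf N := (zpowers x).normalizerMonoidHom_ker
  have hCle : centralizer ((zpowers x : Subgroup G) : Set G) ≤ N := centralizer_le_normalizer _
  have hcomm : ∀ u ∈ centralizer ((zpowers x : Subgroup G) : Set G), u * x = x * u := fun u hu =>
    (mem_centralizer_iff.1 hu x (mem_zpowers x)).symm
  -- the order of the centralizer
  obtain ⟨a, ha9, hC⟩ : ∃ a ≤ 9, Nat.card (centralizer ((zpowers x : Subgroup G) : Set G)) = 3 ^ a * 19 := by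
    generalize hm : Nat.card (centralizer ((zpowers x : Subgroup G) : Set G)) = m
    have h1 : ∀ p : ℕ, p.Prime → ¬ p ∣ 513 → p.Coprime m := by
      intro p hpp hd
      rw [hpp.coprime_iff_not_dvd]
      intro hpm
      have : Fact p.Prime := ⟨hpp⟩
      obtain ⟨y, hy⟩ := exists_prime_orderOf_dvd_card' p (hm ▸ hpm)
      apply hd
      have h2 := hexp x y hx (hcomm y y.2)
      rw [← hy, ← Subgroup.orderOf_coe]
      exact orderOf_dvd_of_pow_eq_one h2
    have h19 : 19 ∣ m := by
      rw [← hm, ← hx]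
      have h3 : x ∈ centralizer ((zpowers x : Subgroup G) : Set G) := by
        rw [mem_centralizer_iff]
        rintro _ ⟨i, rfl⟩
        exact ((Commute.refl x).zpow_left i).eq
      have h4 : orderOf (⟨x, h3⟩ : centralizer ((zpowers x : Subgroup G) : Set G)) = orderOf x := by
        rw [← Subgroup.orderOf_coe]
      rw [← h4]
      exact _root_.orderOf_dvd_natCard _
    have h5 : m ∣ 19 * 3 ^ 9 := by
      have h6 : m ∣ (2 ^ 36 * 5 ^ 2 * 7 ^ 2 * 11 * 13 * 17) * (19 * 3 ^ 9) := by
        have : m ∣ Nat.card G := hm ▸ Subgroup.card_subgroup_dvd_card _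
        rw [hcard] at this
        norm_num
        exact this
      refine Nat.Coprime.dvd_of_dvd_mul_left ?_ h6
      have c2 := h1 2 (by norm_num) (by norm_num)
      have c5 := h1 5 (by norm_num) (by norm_num)
      have c7 := h1 7 (by norm_num) (by norm_num)
      have c11 := h1 11 (by norm_num) (by norm_num)
      have c13 := h1 13 (by norm_num) (by norm_num)
      have c17 := h1 17 (by norm_num) (by norm_num)
      exact ((((((c2.pow_left 36).mul_left (c5.pow_left 2)).mul_left (c7.pow_left 2)).mul_left c11).mul_left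
        c13).mul_left c17).symm
    obtain ⟨m', rfl⟩ := h19
    have h7 : m' ∣ 3 ^ 9 := Nat.dvd_of_mul_dvd_mul_left (by norm_num) h5
    obtain ⟨a, ha, rfl⟩ := (Nat.dvd_prime_pow Nat.prime_three).1 h7
    exact ⟨a, ha, by ring⟩
  -- the index of the centralizer
  have hrange : Nat.card φ.range ∣ 18 := by
    have h1 : Nat.card (MulAut (zpowers x)) = 18 := by
      rw [IsCyclic.card_mulAut, hZ, Nat.totient_prime hp]
    rw [← h1]
    exact Subgroup.card_subgroup_dvd_card _
  have hN : Nat.card N = 3 ^ a * 19 * Nat.card φ.range := by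
    have h1 := φ.ker.card_mul_index
    rw [Subgroup.index_ker, hker, Nat.card_congr (subgroupOfEquivOfLe hCle).toEquiv, hC] at h1
    exact h1.symm
  -- the inverting element
  have hhN : h ∈ N := by
    have key : ∀ g : G, g * x * g⁻¹ = x⁻¹ → ∀ y ∈ zpowers x, g * y * g⁻¹ ∈ zpowers x := by
      rintro g hg _ ⟨i, rfl⟩
      change g * x ^ i * g⁻¹ ∈ _
      rw [← conj_zpow, hg]
      exact zpow_mem (inv_mem (mem_zpowers x)) _
    have hh' : h⁻¹ * x * h⁻¹⁻¹ = x⁻¹ := by
      have h1 : h * x⁻¹ * h⁻¹ = x := by rw [← conj_inv, hh, inv_inv]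
      calc h⁻¹ * x * h⁻¹⁻¹ = h⁻¹ * (h * x⁻¹ * h⁻¹) * h⁻¹⁻¹ := by rw [h1]
        _ = x⁻¹ := by group
    refine mem_normalizer_iff.2 fun y => ⟨key h hh y, fun hy => ?_⟩
    have h1 := key h⁻¹ hh' _ hy
    have h2 : h⁻¹ * (h * y * h⁻¹) * h⁻¹⁻¹ = y := by group
    rwa [h2] at h1
  have h2d : 2 ∣ Nat.card φ.range := by
    have hf2 : Fact (Nat.Prime 2) := ⟨Nat.prime_two⟩
    have h1 : orderOf (φ ⟨h, hhN⟩) = 2 := by
      apply orderOf_eq_prime
      · rw [← map_pow, ← MonoidHom.mem_ker, hker, mem_subgroupOf, mem_centralizer_iff]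
        rintro _ ⟨i, rfl⟩
        change x ^ i * h ^ 2 = h ^ 2 * x ^ i
        have h2 : h ^ 2 * x * (h ^ 2)⁻¹ = x := by
          calc h ^ 2 * x * (h ^ 2)⁻¹ = h * (h * x * h⁻¹) * h⁻¹ := by rw [pow_two]; group
            _ = (h * x * h⁻¹)⁻¹ := by rw [conj_inv, hh]
            _ = x := by rw [hh, inv_inv]
        exact (Commute.zpow_left (show Commute x (h ^ 2) from (mul_inv_eq_iff_eq_mul.1 h2).symm) i).eq
      · rw [Ne, ← MonoidHom.mem_ker, hker, mem_subgroupOf]
        intro h2
        have h3 : h * x = x * h := hcomm h h2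
        have h4 : x⁻¹ = x := by rw [← hh, h3, mul_inv_cancel_right]
        have h5 : x ^ 2 = 1 := by rw [pow_two]; nth_rewrite 1 [← h4]; exact inv_mul_cancel x
        have h6 := orderOf_dvd_of_pow_eq_one h5
        rw [hx] at h6
        norm_num at h6
    have h2 : orderOf (⟨φ ⟨h, hhN⟩, ⟨h, hhN⟩, rfl⟩ : φ.range) = 2 := by
      rw [← h1, ← Subgroup.orderOf_coe]
    rw [← h2]
    exact _root_.orderOf_dvd_natCard _
  -- Sylow
  obtain ⟨S, hS⟩ := (IsPGroup.of_card (n := 1) (by rw [hZ, pow_one]) : IsPGroup 19 (zpowers x)).exists_le_sylow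
  have hSc : Nat.card (S : Subgroup G) = 19 := by
    obtain ⟨n, hn⟩ := S.2.exists_card_eq
    have h1 : 19 ^ n ∣ 76532479683774853939200 := by rw [← hn, ← hcard]; exact Subgroup.card_subgroup_dvd_card _
    have h2 : n < 2 := by
      by_contra h2
      exact absurd (dvd_trans (pow_dvd_pow 19 (show 2 ≤ n by omega)) h1) (by norm_num)
    have h3 : 19 ∣ Nat.card (S : Subgroup G) := hZ.symm.dvd.trans (Subgroup.card_dvd_of_le hS)
    have h4 : n ≠ 0 := by
      rintro rfl
      rw [hn, pow_zero] at h3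
      norm_num at h3
    have h5 : n = 1 := by omega
    rw [hn, h5, pow_one]
  have hSeq : (S : Subgroup G) = zpowers x := (Subgroup.eq_of_le_of_card_ge hS (by rw [hSc, hZ])).symm
  have hidx : N.index ≡ 1 [MOD 19] := by
    have h1 := card_sylow_modEq_one 19 G
    have h2 : (S : Set G) = ((zpowers x : Subgroup G) : Set G) := congrArg (fun H : Subgroup G => (H : Set G)) hSeq
    rw [S.card_eq_index_normalizer, h2] at h1
    exact h1
  have htot := N.card_mul_index
  rw [hN, hcard] at htot
  generalize Nat.card φ.range = d at hrange h2d htot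
  generalize N.index = n at hidx htot
  have hd : d = 2 ∨ d = 6 ∨ d = 18 := by
    have h1 := Nat.le_of_dvd (by norm_num) hrange
    interval_cases d <;> (clear * - hrange h2d; omega)
  unfold Nat.ModEq at hidx
  rcases hd with rfl | rfl | rfl <;> interval_cases a <;> (clear * - hidx htot; omega)

section

open Cfsg.Spor Cfsg.Agent.SporadicB.J1.Mat Cfsg.Agent.SporadicB.J1.Data Cfsg.Agent.SporadicB.J1.Main

/-- an element of order 19 of `J₁` inverted by an involution -/
theorem j1_real : ∃ x h : J1, orderOf x = 19 ∧ h * x * h⁻¹ = x⁻¹ := by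
  have : Fact (Nat.Prime 19) := ⟨by norm_num⟩
  have h1 : ev [1, 2, 1, 0] ^ 19 = 1 := ((rep_ev _).pow 19).eq Rep.one (by decide +kernel)
  refine ⟨ev [1, 2, 1, 0], ev [3, 0, 0, 0, 1, 0, 1, 0], ?_, ?_⟩
  · exact orderOf_eq_prime h1 ((rep_ev _).ne Rep.one (by decide +kernel))
  · have h2 : ev [3, 0, 0, 0, 1, 0, 1, 0] * ev [1, 2, 1, 0] = ev [1, 2, 1, 0] ^ 18 * ev [3, 0, 0, 0, 1, 0, 1, 0] :=
      ((rep_ev _).mul (rep_ev _)).eq (((rep_ev _).pow 18).mul (rep_ev _)) (by decide +kernel)
    rw [h2, mul_inv_cancel_right]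
    exact eq_inv_of_mul_eq_one_left (by rw [← pow_succ, h1])

end

open Cfsg Cfsg.Agent.OrdDiv Cfsg.Agent.H944.TS

universe u

/-- **`J₁` is not a subgroup of `²E₆(2)`.** -/
theorem notE_j1 {K : Type u} [Field K] [Fintype K] (hK : Fintype.card K = 4) : NotE K .j1 := by
  rintro L ⟨e⟩
  obtain ⟨x, h, hx, hh⟩ := j1_real
  refine not_real (Cfsg.Agent.BabyU.CentT1.card_E K hK) (fun x u hx hu => cent_exp hK hx hu)
    (x := (e.symm x : ↥L)) (h := (e.symm h : ↥L)) ?_ ?_
  · rw [Subgroup.orderOf_coe, MulEquiv.orderOf_eq, hx]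
  · rw [← Subgroup.coe_inv, ← Subgroup.coe_mul, ← Subgroup.coe_mul, ← map_inv, ← map_mul, ← map_mul, hh, map_inv,
      Subgroup.coe_inv]

end Cfsg.Agent.H964.J1E6
end

private theorem dce_0161030c5f35 : _root_.True := by
  try have : _root_.True := by simp only [_root_.Cfsg.Agent.H846.UThreeE.ta.congr_simp]
  try have : _root_.True := by simp only [_root_.Cfsg.Agent.H846.UThreeE.Cm.eq_1]
  try have : _root_.True := by simp only [_root_.Cfsg.Agent.H846.UThreeE.Br.eq_1]
  try have : _root_.True := by simp only [_root_.Cfsg.Agent.H846.UThreeE.sw.congr_simp]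
  try have : _root_.True := by simp only [_root_.Matrix.SpecialLinearGroup.transvection.eq_1]
  try have : _root_.True := by simp only [_root_.Cfsg.Agent.H846.UThreeE.HH.eq_1]
  try have : _root_.True := by simp only [_root_.Cfsg.Agent.H846.UThreeE.sw.eq_1]
  exact _root_.True.intro
end

-- part: H898/TSL27
section
prune_inst 0x21404040794000000000009001000020400001200000000008a0070e03090002004200400ea00506100a880008040000101000000000000000000400000101000080020410400000420080000000000000000000000000000000000000000004000000000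
set_option linter.all false
open scoped Cfsg.Agent.FastGrp

-- part: H898/TSRank
section
/-!
# Ranks of idempotents and fixed spaces in characteristic 2 (helper898)

* `rk_add` : ranks of orthogonal idempotents.
* `four_subgroups` : for a group `3²` acting in characteristic 2 the dimensions of the fixed spaces of the four
  subgroups of order 3 (relative to a commuting idempotent).
* `two_rk_le` : `N² = 0`, range in `W`: `2 rk ≤ dim W`.
-/

set_option autoImplicit false

namespace Cfsg.Agent.H898.TSRank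

open Module

variable {k V : Type*} [Field k] [AddCommGroup V] [Module k V]

/-- the rank -/
noncomputable def rk (f : End k V) : ℕ := finrank k f.range

/-- the dimension of the fixed space -/
noncomputable def fx (f : End k V) : ℕ := finrank k (f - 1).ker

theorem mem_fx {f : End k V} {v : V} : v ∈ (f - 1).ker ↔ f v = v := by
  rw [LinearMap.mem_ker, LinearMap.sub_apply, Module.End.one_apply, sub_eq_zero]

theorem rk_sub_one [FiniteDimensional k V] (f : End k V) : rk (f - 1) + fx f = finrank k V :=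
  LinearMap.finrank_range_add_finrank_ker _

theorem eq_zero_of_rk [FiniteDimensional k V] {f : End k V} (h : rk f = 0) : f = 0 := by
  unfold rk at h
  rw [Submodule.finrank_eq_zero] at h
  exact LinearMap.range_eq_bot.1 h

theorem rk_add [FiniteDimensional k V] {p q : End k V} (hp : p * p = p) (hq : q * q = q) (hpq : p * q = 0)
    (hqp : q * p = 0) : rk (p + q) = rk p + rk q := by
  have ap : ∀ v, p (p v) = p v := fun v => LinearMap.congr_fun hp v
  have aq : ∀ v, q (q v) = q v := fun v => LinearMap.congr_fun hq v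
  have apq : ∀ v, p (q v) = 0 := fun v => LinearMap.congr_fun hpq v
  have aqp : ∀ v, q (p v) = 0 := fun v => LinearMap.congr_fun hqp v
  have h1 : (p + q).range = p.range ⊔ q.range := by
    apply le_antisymm
    · rintro _ ⟨v, rfl⟩
      rw [LinearMap.add_apply]
      exact Submodule.add_mem_sup ⟨v, rfl⟩ ⟨v, rfl⟩
    · apply sup_le
      · rintro _ ⟨v, rfl⟩
        refine ⟨p v, ?_⟩
        rw [LinearMap.add_apply, ap, aqp, add_zero]
      · rintro _ ⟨v, rfl⟩
        refine ⟨q v, ?_⟩
        rw [LinearMap.add_apply, apq, aq, zero_add]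
  have h2 : p.range ⊓ q.range = ⊥ := by
    rw [eq_bot_iff]
    rintro x ⟨⟨v, rfl⟩, ⟨w, hw⟩⟩
    rw [Submodule.mem_bot, ← ap v, ← hw, apq]
  unfold rk
  have h3 := Submodule.finrank_sup_add_finrank_inf_eq p.range q.range
  rw [h2, finrank_bot, add_zero] at h3
  rw [h1, h3]

/-- the rank of the "norm" of an element of order 3, in characteristic 2 -/
theorem rk_three [FiniteDimensional k V] (h2 : (2 : k) = 0) {a : End k V} (ha : a ^ 3 = 1) :
    rk (1 + a + a ^ 2) = fx a := by
  have hh : (2 : End k V) = 0 := by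
    have := map_ofNat (algebraMap k (End k V)) 2
    rw [h2, map_zero] at this
    exact this.symm
  have e1 : a * (1 + a + a ^ 2) = 1 + a + a ^ 2 := by
    have : a * a ^ 2 = 1 := by rw [← pow_succ', ha]
    rw [mul_add, mul_add, mul_one, this, ← pow_two]
    abel
  have : (1 + a + a ^ 2).range = (a - 1).ker := by
    ext v
    rw [mem_fx]
    constructor
    · rintro ⟨w, rfl⟩
      exact LinearMap.congr_fun e1 w
    · intro hv
      refine ⟨v, ?_⟩
      have h4 : (a ^ 2) v = v := by rw [pow_two, Module.End.mul_apply, hv, hv]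
      rw [LinearMap.add_apply, LinearMap.add_apply, Module.End.one_apply, hv, h4]
      have h5 : (2 : End k V) v = v + v := by
        have : (2 : End k V) = 1 + 1 := by norm_num
        rw [this, LinearMap.add_apply, Module.End.one_apply]
      have h6 : v + v = 0 := by rw [← h5, hh, LinearMap.zero_apply]
      rw [h6, zero_add]
  unfold rk fx
  rw [this]

section four

variable {R : Type*} [CommRing R]

/-- the norm element -/
def nm (a : R) : R := 1 + a + a ^ 2

theorem nm_sq (h2 : (2 : R) = 0) {a : R} (ha : a ^ 3 = 1) : nm a * nm a = nm a := by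
  unfold nm
  linear_combination (a + 2) * ha + (1 + a + a ^ 2) * h2

/-- **the four subgroups of `3²`**: a commutative ring of characteristic 2 acting, `π` an idempotent, `u³ = v³ = 1` -/
theorem four_subgroups [FiniteDimensional k V] (h2 : (2 : R) = 0) (θ : R →+* End k V) {π u v : R} (hπ : π * π = π)
    (hu : u ^ 3 = 1) (hv : v ^ 3 = 1) :
    rk (θ π) + 3 * rk (θ (π * (nm u * nm v))) =
      rk (θ (π * nm u)) + rk (θ (π * nm v)) + rk (θ (π * nm (u * v))) + rk (θ (π * nm (u * v ^ 2))) := by
  set E : R := π * (nm u * nm v) with hE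
  have huv : (u * v) ^ 3 = 1 := by rw [mul_pow, hu, hv, one_mul]
  have huv2 : (u * v ^ 2) ^ 3 = 1 := by
    rw [mul_pow, hu, ← pow_mul, mul_comm 2 3, pow_mul, hv, one_pow, one_mul]
  have eE : E * E = E := by
    have h1 := nm_sq h2 hu
    have h3 := nm_sq h2 hv
    calc E * E = (π * π) * ((nm u * nm u) * (nm v * nm v)) := by rw [hE]; ring
      _ = E := by rw [hπ, h1, h3]
  -- products
  have m1 : nm u * nm (u * v) = nm u * nm v := by
    unfold nm
    linear_combination (v + v ^ 2 * u + v ^ 2) * hu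
  have m2 : nm u * nm (u * v ^ 2) = nm u * nm v := by
    unfold nm
    linear_combination (v ^ 2 + v ^ 4 * u + v ^ 4) * hu + (v + v * u + v * u ^ 2) * hv
  have m3 : nm v * nm (u * v) = nm u * nm v := by
    unfold nm
    linear_combination (u + u ^ 2 * v + u ^ 2) * hv
  have m4 : nm v * nm (u * v ^ 2) = nm u * nm v := by
    unfold nm
    linear_combination (u + u * v + u ^ 2 * (v + v ^ 2 + v ^ 3) + u ^ 2) * hv
  have m5 : nm (u * v) * nm (u * v ^ 2) = nm u * nm v := by
    unfold nm
    linear_combination (v ^ 5 + v ^ 4 + u * v ^ 6) * hu + (u ^ 2 * v + u ^ 2 + v ^ 2 + v + u * (v ^ 3 + 1)) * hv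
  -- idempotents
  have q1 : (π * nm u) * (π * nm u) = π * nm u := by
    calc _ = (π * π) * (nm u * nm u) := by ring
      _ = _ := by rw [hπ, nm_sq h2 hu]
  have q2 : (π * nm v) * (π * nm v) = π * nm v := by
    calc _ = (π * π) * (nm v * nm v) := by ring
      _ = _ := by rw [hπ, nm_sq h2 hv]
  have q3 : (π * nm (u * v)) * (π * nm (u * v)) = π * nm (u * v) := by
    calc _ = (π * π) * (nm (u * v) * nm (u * v)) := by ring
      _ = _ := by rw [hπ, nm_sq h2 huv]
  have q4 : (π * nm (u * v ^ 2)) * (π * nm (u * v ^ 2)) = π * nm (u * v ^ 2) := by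
    calc _ = (π * π) * (nm (u * v ^ 2) * nm (u * v ^ 2)) := by ring
      _ = _ := by rw [hπ, nm_sq h2 huv2]
  have q12 : (π * nm u) * (π * nm v) = E := by
    calc _ = (π * π) * (nm u * nm v) := by ring
      _ = _ := by rw [hπ]
  have q13 : (π * nm u) * (π * nm (u * v)) = E := by
    calc _ = (π * π) * (nm u * nm (u * v)) := by ring
      _ = _ := by rw [hπ, m1]
  have q14 : (π * nm u) * (π * nm (u * v ^ 2)) = E := by
    calc _ = (π * π) * (nm u * nm (u * v ^ 2)) := by ring
      _ = _ := by rw [hπ, m2]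
  have q23 : (π * nm v) * (π * nm (u * v)) = E := by
    calc _ = (π * π) * (nm v * nm (u * v)) := by ring
      _ = _ := by rw [hπ, m3]
  have q24 : (π * nm v) * (π * nm (u * v ^ 2)) = E := by
    calc _ = (π * π) * (nm v * nm (u * v ^ 2)) := by ring
      _ = _ := by rw [hπ, m4]
  have q34 : (π * nm (u * v)) * (π * nm (u * v ^ 2)) = E := by
    calc _ = (π * π) * (nm (u * v) * nm (u * v ^ 2)) := by ring
      _ = _ := by rw [hπ, m5]
  have E1 : (π * nm u) * E = E := by
    calc _ = (π * π) * ((nm u * nm u) * nm v) := by rw [hE]; ring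
      _ = _ := by rw [hπ, nm_sq h2 hu]
  have E2 : (π * nm v) * E = E := by
    calc _ = (π * π) * (nm u * (nm v * nm v)) := by rw [hE]; ring
      _ = _ := by rw [hπ, nm_sq h2 hv]
  have E3 : (π * nm (u * v)) * E = E := by
    calc _ = (π * π) * ((nm u * nm (u * v)) * nm v) := by rw [hE]; ring
      _ = (π * π) * (nm u * (nm v * nm v)) := by rw [m1]; ring
      _ = _ := by rw [hπ, nm_sq h2 hv]
  have E4 : (π * nm (u * v ^ 2)) * E = E := by
    calc _ = (π * π) * ((nm u * nm (u * v ^ 2)) * nm v) := by rw [hE]; ring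
      _ = (π * π) * (nm u * (nm v * nm v)) := by rw [m2]; ring
      _ = _ := by rw [hπ, nm_sq h2 hv]
  have hsum : π = E + ((π * nm u - E) + ((π * nm v - E) + ((π * nm (u * v) - E) + (π * nm (u * v ^ 2) - E)))) := by
    rw [hE]
    unfold nm
    linear_combination (-π * u ^ 2 * v) * hv + (-π + π * ((1 + u + u ^ 2) * (1 + v + v ^ 2))) * h2
  have split : ∀ q : R, q * q = q → q * E = E → rk (θ q) = rk (θ (q - E)) + rk (θ E) := by
    intro q hq hqE
    have : θ q = θ (q - E) + θ E := by rw [← map_add, sub_add_cancel]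
    rw [this]
    apply rk_add
    · rw [← map_mul]; congr 1; linear_combination hq - 2 * hqE + eE
    · rw [← map_mul, eE]
    · rw [← map_mul]
      rw [show (q - E) * E = 0 by linear_combination hqE - eE, map_zero]
    · rw [← map_mul]
      rw [show E * (q - E) = 0 by linear_combination hqE - eE, map_zero]
  rw [split _ q1 E1, split _ q2 E2, split _ q3 E3, split _ q4 E4]
  have tot : rk (θ π) = rk (θ E) + (rk (θ (π * nm u - E)) + (rk (θ (π * nm v - E)) +
      (rk (θ (π * nm (u * v) - E)) + rk (θ (π * nm (u * v ^ 2) - E))))) := by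
    conv_lhs => rw [hsum]
    generalize π * nm u = a at *
    generalize π * nm v = b at *
    generalize π * nm (u * v) = c at *
    generalize π * nm (u * v ^ 2) = d at *
    rw [map_add, map_add, map_add, map_add]
    have z : ∀ x y : R, x * y = 0 → θ x * θ y = 0 := fun x y h => by rw [← map_mul, h, map_zero]
    have ia : (a - E) * (a - E) = a - E := by linear_combination q1 - 2 * E1 + eE
    have ib : (b - E) * (b - E) = b - E := by linear_combination q2 - 2 * E2 + eE
    have ic : (c - E) * (c - E) = c - E := by linear_combination q3 - 2 * E3 + eE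
    have id' : (d - E) * (d - E) = d - E := by linear_combination q4 - 2 * E4 + eE
    have iab : (a - E) * (b - E) = 0 := by linear_combination q12 - E1 - E2 + eE
    have iac : (a - E) * (c - E) = 0 := by linear_combination q13 - E1 - E3 + eE
    have iad : (a - E) * (d - E) = 0 := by linear_combination q14 - E1 - E4 + eE
    have ibc : (b - E) * (c - E) = 0 := by linear_combination q23 - E2 - E3 + eE
    have ibd : (b - E) * (d - E) = 0 := by linear_combination q24 - E2 - E4 + eE
    have icd : (c - E) * (d - E) = 0 := by linear_combination q34 - E3 - E4 + eE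
    have iEa : E * (a - E) = 0 := by linear_combination E1 - eE
    have iEb : E * (b - E) = 0 := by linear_combination E2 - eE
    have iEc : E * (c - E) = 0 := by linear_combination E3 - eE
    have iEd : E * (d - E) = 0 := by linear_combination E4 - eE
    rw [← map_add θ (c - E) (d - E), ← map_add θ (b - E), ← map_add θ (a - E)]
    rw [rk_add, map_add, rk_add, map_add, rk_add, map_add, rk_add]
    all_goals rw [← map_mul]
    all_goals first
      | (refine congrArg θ ?_; linear_combination id')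
      | (refine congrArg θ ?_; linear_combination ic)
      | (refine congrArg θ ?_; linear_combination ib)
      | (refine congrArg θ ?_; linear_combination ia)
      | (refine congrArg θ ?_; linear_combination eE)
      | (refine congrArg θ ?_; linear_combination ic + id' + 2 * icd)
      | (refine congrArg θ ?_; linear_combination ib + ic + id' + 2 * icd + 2 * ibc + 2 * ibd)
      | (refine congrArg θ ?_; linear_combination ia + ib + ic + id' + 2 * icd + 2 * ibc + 2 * ibd +
          2 * iab + 2 * iac + 2 * iad)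
      | (rw [← map_zero θ]; refine congrArg θ ?_; linear_combination icd)
      | (rw [← map_zero θ]; refine congrArg θ ?_; linear_combination ibc + ibd)
      | (rw [← map_zero θ]; refine congrArg θ ?_; linear_combination iab + iac + iad)
      | (rw [← map_zero θ]; refine congrArg θ ?_; linear_combination iEa + iEb + iEc + iEd)
  rw [tot]
  ring

end four

theorem finrank_sup_le [FiniteDimensional k V] {ι : Type*} (s : Finset ι) (f : ι → Submodule k V) :
    finrank k (s.sup f : Submodule k V) ≤ ∑ i ∈ s, finrank k (f i) := by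
  classical
  induction s using Finset.induction_on with
  | empty => simp only [_root_.Finset.sum_empty, _root_.nonpos_iff_eq_zero, _root_.Submodule.finrank_eq_zero, _root_.Finset.sup_empty]
  | insert a s ha ih =>
    rw [Finset.sup_insert, Finset.sum_insert ha]
    exact (Submodule.finrank_add_le_finrank_add_finrank _ _).trans (Nat.add_le_add_left ih _)

/-- an involution (in characteristic 2) preserving `W` -/
theorem two_finrank_map_le [FiniteDimensional k V] (h2 : (2 : k) = 0) {z : End k V} (hz : z * z = 1)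
    (W : Submodule k V) (hW : ∀ v ∈ W, z v ∈ W) : 2 * finrank k (W.map (z - 1)) ≤ finrank k W := by
  have hzz : ∀ v, z (z v) = v := fun v => LinearMap.congr_fun hz v
  have hvv : ∀ v : V, v + v = 0 := fun v => by
    have : v + v = (2 : k) • v := by rw [two_smul]
    rw [this, h2, zero_smul]
  have h1 : W.map (z - 1) ≤ W ⊓ (z - 1).ker := by
    rintro _ ⟨v, hv, rfl⟩
    refine ⟨?_, ?_⟩
    · rw [LinearMap.sub_apply, Module.End.one_apply]
      exact W.sub_mem (hW v hv) hv
    · refine (mem_fx (f := z)).2 ?_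
      rw [LinearMap.sub_apply, Module.End.one_apply, map_sub, hzz]
      have := hvv (z v - v)
      rw [add_eq_zero_iff_eq_neg] at this
      rw [this, neg_sub]
  have h3 := LinearMap.finrank_range_add_finrank_ker ((z - 1).domRestrict W)
  rw [LinearMap.range_domRestrict] at h3
  have h4 : finrank k (W ⊓ (z - 1).ker : Submodule k V) ≤ finrank k ((z - 1).domRestrict W).ker := by
    let f : (W ⊓ (z - 1).ker : Submodule k V) →ₗ[k] ((z - 1).domRestrict W).ker :=
      LinearMap.codRestrict _ (Submodule.inclusion inf_le_left) (fun x => by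
        rw [LinearMap.mem_ker, LinearMap.domRestrict_apply]
        exact LinearMap.mem_ker.1 x.2.2)
    refine LinearMap.finrank_le_finrank_of_injective (f := f) ?_
    intro x y hxy
    apply Subtype.ext
    exact congrArg (fun t : ((z - 1).domRestrict W).ker => ((t : W) : V)) hxy
  have h5 := (Submodule.finrank_mono h1).trans h4
  omega

/-- **an involution commuting with an element of order 7** -/
theorem rk_le_sum_seven [FiniteDimensional k V] (h2 : (2 : k) = 0) {z c : End k V} (hz : z * z = 1)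
    (hc : c ^ 7 = 1) (hzc : z * c = c * z) {ζ : k} (hζ : IsPrimitiveRoot ζ 7) :
    rk (z - 1) ≤ ∑ i ∈ Finset.range 7, finrank k (c.eigenspace (ζ ^ i)) / 2 := by
  -- the projections
  let π : ℕ → End k V := fun i => ∑ j ∈ Finset.range 7, (ζ ^ (6 * i * j)) • c ^ j
  have hζ7 : ζ ^ 7 = 1 := hζ.pow_eq_one
  have cπ : ∀ i v, c (π i v) = ζ ^ i • π i v := by
    intro i v
    have e : c * π i = ζ ^ i • π i := by
      simp only [π, Finset.sum_range_succ, Finset.sum_range_zero, zero_add, mul_add, mul_smul_comm, smul_add,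
        ← pow_succ', smul_smul]
      rw [show c ^ (6 + 1) = c ^ 0 by rw [pow_zero]; exact hc]
      have p : ∀ n, ζ ^ (i * (7 * n)) = 1 := fun n => by
        rw [mul_comm, mul_assoc, pow_mul, hζ7, one_pow]
      have q : ∀ m n r : ℕ, m = n + i * (7 * r) → ζ ^ m = ζ ^ n := fun m n r h => by
        rw [h, pow_add, p, mul_one]
      have e0 : ζ ^ i * ζ ^ (6 * i * 1) = ζ ^ (6 * i * 0) := by
        rw [← pow_add]; exact q _ _ 1 (by ring)
      have e1 : ζ ^ i * ζ ^ (6 * i * 2) = ζ ^ (6 * i * 1) := by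
        rw [← pow_add]; exact q _ _ 1 (by ring)
      have e2 : ζ ^ i * ζ ^ (6 * i * 3) = ζ ^ (6 * i * 2) := by
        rw [← pow_add]; exact q _ _ 1 (by ring)
      have e3 : ζ ^ i * ζ ^ (6 * i * 4) = ζ ^ (6 * i * 3) := by
        rw [← pow_add]; exact q _ _ 1 (by ring)
      have e4 : ζ ^ i * ζ ^ (6 * i * 5) = ζ ^ (6 * i * 4) := by
        rw [← pow_add]; exact q _ _ 1 (by ring)
      have e5 : ζ ^ i * ζ ^ (6 * i * 6) = ζ ^ (6 * i * 5) := by
        rw [← pow_add]; exact q _ _ 1 (by ring)
      have e6 : ζ ^ i * ζ ^ (6 * i * 0) = ζ ^ (6 * i * 6) := by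
        rw [← pow_add]; exact (q _ _ 5 (by ring)).symm
      rw [e0, e1, e2, e3, e4, e5, e6]
      abel
    exact LinearMap.congr_fun e v
  have sπ : ∑ i ∈ Finset.range 7, π i = 1 := by
    have hs : ∀ j, 0 < j → j < 7 → ∑ i ∈ Finset.range 7, ζ ^ (6 * i * j) = 0 := by
      intro j h0 h7
      have h3 : ζ ^ (6 * j) ≠ 1 := by
        intro h
        rw [hζ.pow_eq_one_iff_dvd] at h
        omega
      have h4 := geom_sum_mul (ζ ^ (6 * j)) 7
      have h5 : (ζ ^ (6 * j)) ^ 7 = 1 := by
        rw [← pow_mul, mul_comm, pow_mul, hζ7, one_pow]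
      rw [h5, sub_self, mul_eq_zero, sub_eq_zero] at h4
      rcases h4 with h4 | h4
      · rw [← h4]
        refine Finset.sum_congr rfl fun i _ => ?_
        rw [← pow_mul]; congr 1; ring
      · exact absurd h4 h3
    simp only [π]
    rw [Finset.sum_comm]
    rw [Finset.sum_eq_single 0]
    · simp only [mul_zero, pow_zero, one_smul, Finset.sum_const, Finset.card_range]
      have : (7 : ℕ) • (1 : End k V) = (7 : k) • 1 := by
        rw [← Nat.cast_smul_eq_nsmul k]; norm_num
      rw [this, show (7 : k) = 1 by linear_combination 3 * h2, one_smul]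
    · intro j hj h0
      rw [← Finset.sum_smul, hs j (Nat.pos_of_ne_zero h0) (Finset.mem_range.1 hj), zero_smul]
    · intro h; exact absurd (Finset.mem_range.2 (by norm_num)) h
  have hle : (z - 1).range ≤ (Finset.range 7).sup fun i => (c.eigenspace (ζ ^ i)).map (z - 1) := by
    rintro _ ⟨v, rfl⟩
    have hv : v = ∑ i ∈ Finset.range 7, π i v := by
      calc v = (1 : End k V) v := rfl
        _ = (∑ i ∈ Finset.range 7, π i) v := by rw [sπ]
        _ = _ := LinearMap.sum_apply _ _ _
    rw [hv, map_sum]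
    refine Submodule.sum_mem _ fun i hi => ?_
    have h8 := Finset.le_sup (f := fun i => (c.eigenspace (ζ ^ i)).map (z - 1)) hi
    exact h8 ⟨π i v, Module.End.mem_eigenspace_iff.2 (cπ i v), rfl⟩
  have h6 : rk (z - 1) ≤ _ := Submodule.finrank_mono hle
  refine h6.trans ((finrank_sup_le (k := k) (V := V) (Finset.range 7)
    fun i => (c.eigenspace (ζ ^ i)).map (z - 1)).trans ?_)
  refine Finset.sum_le_sum fun i _ => ?_
  have h9 := two_finrank_map_le h2 hz (c.eigenspace (ζ ^ i)) fun v hv => by
    rw [Module.End.mem_eigenspace_iff] at hv ⊢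
    have : c (z v) = z (c v) := (LinearMap.congr_fun hzc v).symm
    rw [this, hv, map_smul]
  omega

end Cfsg.Agent.H898.TSRank
end

-- part: H898/TSL27
section
/-!
# `L₂(27)` on a 78-dimensional module in characteristic 2 (helper898)

`false_of` : there is no 78-dimensional module in characteristic 2 for `SL₂(27)` with `-1` acting trivially such that the
elements of order 3 have a fixed space of dimension 46, 36, 30, 28 or 24, those of order 7 one of dimension ≥ 18, or 12 with
all other eigenspaces of dimension 11, and the involutions of `L₂(27)` one of dimension 56, 46 or 40.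
-/

set_option autoImplicit false
set_option linter.unusedVariables false
set_option linter.unusedSectionVars false

namespace Cfsg.Agent.H898.TSL27

open Module Matrix Cfsg.Agent.H898.TSRank
open scoped MatrixGroups

section field

variable {F : Type*} [Field F] [Fintype F] (hF : Fintype.card F = 27)

include hF in
theorem charThree : (3 : F) = 0 := by
  have h := FiniteField.cast_card_eq_zero F
  rw [hF] at h
  have : (3 : F) ^ 3 = 0 := by
    rw [← h]; norm_num
  exact pow_eq_zero_iff (three_ne_zero) |>.1 this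

open Polynomial in
include hF in
/-- a root of `X³ + X² + X + 2` -/
theorem exists_root : ∃ r : F, r ^ 3 + r ^ 2 + r + 2 = 0 := by
  by_contra hcon
  push Not at hcon
  have h3 : (3 : F[X]) = 0 := by
    have := congrArg (C (R := F)) (charThree hF)
    rwa [map_ofNat, map_zero] at this
  let q : F[X] := X ^ 24 - X ^ 23 - X ^ 21 + X ^ 19 + X ^ 18 + X ^ 17 - X ^ 16 + X ^ 15 + X ^ 14 + X ^ 11 - X ^ 10 - X ^ 8 + X ^ 6 + X ^ 5 + X ^ 4 - X ^ 3 + X ^ 2 + X
  have hq : (X ^ 27 - X : F[X]) = (X ^ 3 + X ^ 2 + X + 2) * q := by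
    linear_combination (X ^ 23 - X ^ 20 - X ^ 19 - X ^ 18 - X ^ 17 - X ^ 15 - X ^ 14 + X ^ 10 - X ^ 7 - X ^ 6 - X ^ 5 - X ^ 4 - X ^ 2 - X) * h3
  have hz : ∀ x : F, q.eval x = 0 := by
    intro x
    have h1 := congrArg (eval x) hq
    rw [eval_sub, eval_pow, eval_X, eval_mul] at h1
    have h2 : x ^ 27 = x := by rw [← hF]; exact FiniteField.pow_card x
    rw [h2, sub_self] at h1
    have h4 : (X ^ 3 + X ^ 2 + X + 2 : F[X]).eval x = x ^ 3 + x ^ 2 + x + 2 := by
      simp
    rw [h4] at h1
    exact (mul_eq_zero.1 h1.symm).resolve_left (hcon x)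
  have hd : q.natDegree = 24 := by
    show (X ^ 24 - X ^ 23 - X ^ 21 + X ^ 19 + X ^ 18 + X ^ 17 - X ^ 16 + X ^ 15 + X ^ 14 + X ^ 11 - X ^ 10 - X ^ 8 + X ^ 6 + X ^ 5 + X ^ 4 - X ^ 3 + X ^ 2 + X : F[X]).natDegree = 24
    compute_degree!
  have h0 : q = 0 := by
    apply eq_zero_of_natDegree_lt_card_of_eval_eq_zero q (f := (id : F → F)) Function.injective_id
    · intro i; exact hz i
    · rw [hd, hF]; norm_num
  rw [h0, natDegree_zero] at hd
  norm_num at hd

end field

theorem mk4 {F : Type*} {a b c d a' b' c' d' : F} (h1 : a = a') (h2 : b = b') (h3 : c = c') (h4 : d = d') :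
    (!![a, b; c, d] : Matrix (Fin 2) (Fin 2) F) = !![a', b'; c', d'] := by
  rw [h1, h2, h3, h4]

section mats

variable {F : Type*} [Field F] {r : F} (hr : r ^ 3 + r ^ 2 + r + 2 = 0) (h3 : (3 : F) = 0)

include hr h3

theorem mul_c : (!![0, r; -r ^ 2 - r - 1, 0] : Matrix (Fin 2) (Fin 2) F) * !![1, 0; 1, 1] = !![r, r; -r ^ 2 - r - 1, 0] := by
  rw [Matrix.mul_fin_two]
  refine mk4 ?_ ?_ ?_ ?_
  · linear_combination (0) * hr + (0) * h3
  · linear_combination (0) * hr + (0) * h3
  · linear_combination (0) * hr + (0) * h3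
  · linear_combination (0) * hr + (0) * h3

theorem mul_c2 : (!![r, r; -r ^ 2 - r - 1, 0] : Matrix (Fin 2) (Fin 2) F) * !![r, r; -r ^ 2 - r - 1, 0] = !![r ^ 2 - 1, r ^ 2; -1, -1] := by
  rw [Matrix.mul_fin_two]
  refine mk4 ?_ ?_ ?_ ?_
  · linear_combination (-1) * hr + (1) * h3
  · linear_combination (0) * hr + (0) * h3
  · linear_combination (-1) * hr + (1) * h3
  · linear_combination (-1) * hr + (1) * h3

theorem mul_c3 : (!![r ^ 2 - 1, r ^ 2; -1, -1] : Matrix (Fin 2) (Fin 2) F) * !![r, r; -r ^ 2 - r - 1, 0] = !![-r ^ 2 + 1, -r ^ 2 + r + 1; r ^ 2 + 1, -r] := by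
  rw [Matrix.mul_fin_two]
  refine mk4 ?_ ?_ ?_ ?_
  · linear_combination (-r + 1) * hr + (-1) * h3
  · linear_combination (1) * hr + (-r - 1) * h3
  · linear_combination (0) * hr + (0) * h3
  · linear_combination (0) * hr + (0) * h3

theorem mul_c4 : (!![r ^ 2 - 1, r ^ 2; -1, -1] : Matrix (Fin 2) (Fin 2) F) * !![r ^ 2 - 1, r ^ 2; -1, -1] = !![-r, r ^ 2 - r - 1; -r ^ 2 - 1, -r ^ 2 + 1] := by
  rw [Matrix.mul_fin_two]
  refine mk4 ?_ ?_ ?_ ?_
  · linear_combination (r - 1) * hr + (-r ^ 2 + 1) * h3
  · linear_combination (r - 1) * hr + (-r ^ 2 + 1) * h3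
  · linear_combination (0) * hr + (1) * h3
  · linear_combination (0) * hr + (0) * h3

theorem mul_c7 : (!![-r, r ^ 2 - r - 1; -r ^ 2 - 1, -r ^ 2 + 1] : Matrix (Fin 2) (Fin 2) F) * !![-r ^ 2 + 1, -r ^ 2 + r + 1; r ^ 2 + 1, -r] = !![1, 0; 0, 1] := by
  rw [Matrix.mul_fin_two]
  refine mk4 ?_ ?_ ?_ ?_
  · linear_combination (r - 1) * hr + (-r) * h3
  · linear_combination (0) * hr + (0) * h3
  · linear_combination (0) * hr + (0) * h3
  · linear_combination (r - 1) * hr + (-r) * h3

theorem mul_hc : (!![r ^ 2 + 1, -1; r, r ^ 2 - 1] : Matrix (Fin 2) (Fin 2) F) * !![r, r; -r ^ 2 - r - 1, 0] = !![r - 1, -r ^ 2 + 1; -r ^ 2 + 1, r ^ 2] := by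
  rw [Matrix.mul_fin_two]
  refine mk4 ?_ ?_ ?_ ?_
  · linear_combination (1) * hr + (0) * h3
  · linear_combination (1) * hr + (-1) * h3
  · linear_combination (-r) * hr + (r ^ 2 + r) * h3
  · linear_combination (0) * hr + (0) * h3

theorem mul_ch : (!![-r, -r + 1; -r - 1, -r] : Matrix (Fin 2) (Fin 2) F) * !![r ^ 2 + 1, -1; r, r ^ 2 - 1] = !![r - 1, -r ^ 2 + 1; -r ^ 2 + 1, r ^ 2] := by
  rw [Matrix.mul_fin_two]
  refine mk4 ?_ ?_ ?_ ?_
  · linear_combination (-1) * hr + (1) * h3
  · linear_combination (-1) * hr + (r ^ 2 + r) * h3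
  · linear_combination (-1) * hr + (0) * h3
  · linear_combination (-1) * hr + (r + 1) * h3

theorem mul_c0z : (!![-r, -r + 1; -r - 1, -r] : Matrix (Fin 2) (Fin 2) F) * !![0, r; -r ^ 2 - r - 1, 0] = !![-r ^ 2 - r, -r ^ 2; 1, -r ^ 2 - r] := by
  rw [Matrix.mul_fin_two]
  refine mk4 ?_ ?_ ?_ ?_
  · linear_combination (1) * hr + (-1) * h3
  · linear_combination (0) * hr + (0) * h3
  · linear_combination (1) * hr + (-1) * h3
  · linear_combination (0) * hr + (0) * h3

theorem mul_zc0 : (!![0, r; -r ^ 2 - r - 1, 0] : Matrix (Fin 2) (Fin 2) F) * !![-r, -r + 1; -r - 1, -r] = !![-r ^ 2 - r, -r ^ 2; 1, -r ^ 2 - r] := by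
  rw [Matrix.mul_fin_two]
  refine mk4 ?_ ?_ ?_ ?_
  · linear_combination (0) * hr + (0) * h3
  · linear_combination (0) * hr + (0) * h3
  · linear_combination (1) * hr + (-1) * h3
  · linear_combination (1) * hr + (-1) * h3

theorem mul_zz : (!![0, r; -r ^ 2 - r - 1, 0] : Matrix (Fin 2) (Fin 2) F) * !![0, r; -r ^ 2 - r - 1, 0] = !![-1, 0; 0, -1] := by
  rw [Matrix.mul_fin_two]
  refine mk4 ?_ ?_ ?_ ?_
  · linear_combination (-1) * hr + (1) * h3
  · linear_combination (0) * hr + (0) * h3
  · linear_combination (0) * hr + (0) * h3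
  · linear_combination (-1) * hr + (1) * h3

theorem mul_uz : (!![1, -r ^ 2; 0, 1] : Matrix (Fin 2) (Fin 2) F) * !![0, r; -r ^ 2 - r - 1, 0] = !![r, r; -r ^ 2 - r - 1, 0] := by
  rw [Matrix.mul_fin_two]
  refine mk4 ?_ ?_ ?_ ?_
  · linear_combination (r) * hr + (-r) * h3
  · linear_combination (0) * hr + (0) * h3
  · linear_combination (0) * hr + (0) * h3
  · linear_combination (0) * hr + (0) * h3

theorem det_z : (!![0, r; -r ^ 2 - r - 1, 0] : Matrix (Fin 2) (Fin 2) F).det = 1 := by
  rw [Matrix.det_fin_two_of]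
  linear_combination (1) * hr + (-1) * h3

theorem det_h : (!![r ^ 2 + 1, -1; r, r ^ 2 - 1] : Matrix (Fin 2) (Fin 2) F).det = 1 := by
  rw [Matrix.det_fin_two_of]
  linear_combination (r - 1) * hr + (0) * h3

theorem det_c0 : (!![-r, -r + 1; -r - 1, -r] : Matrix (Fin 2) (Fin 2) F).det = 1 := by
  rw [Matrix.det_fin_two_of]
  ring

theorem ne_of_inv {x y : F} (h : x * y = 1) : x ≠ 0 := by
  rintro rfl
  rw [zero_mul] at h
  exact zero_ne_one h

/-- the independence of `1, r, r²` -/
theorem indep : (r ≠ 0 ∧ 1 + r ≠ 0 ∧ 1 + 2 * r ≠ 0) ∧ (r ^ 2 ≠ 0 ∧ 1 + r ^ 2 ≠ 0 ∧ 1 + 2 * r ^ 2 ≠ 0) ∧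
    (r ^ 2 + r ≠ 0 ∧ 1 + (r ^ 2 + r) ≠ 0 ∧ 1 + 2 * (r ^ 2 + r) ≠ 0) ∧
    (2 * r ^ 2 + r ≠ 0 ∧ 1 + (2 * r ^ 2 + r) ≠ 0 ∧ 1 + 2 * (2 * r ^ 2 + r) ≠ 0) := by
  refine ⟨⟨?_, ?_, ?_⟩, ⟨?_, ?_, ?_⟩, ⟨?_, ?_, ?_⟩, ⟨?_, ?_, ?_⟩⟩
  · refine ne_of_inv hr h3 (y := r ^ 2 + r + 1) ?_
    linear_combination (1) * hr + (-1) * h3
  · refine ne_of_inv hr h3 (y := -r ^ 2 - 1) ?_
    linear_combination (-1) * hr + (0) * h3
  · refine ne_of_inv hr h3 (y := -r ^ 2 + r) ?_
    linear_combination (-2) * hr + (r ^ 2 + r + 1) * h3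
  · refine ne_of_inv hr h3 (y := r ^ 2 - r - 1) ?_
    linear_combination (r - 2) * hr + (1) * h3
  · refine ne_of_inv hr h3 (y := -r - 1) ?_
    linear_combination (-1) * hr + (0) * h3
  · refine ne_of_inv hr h3 (y := -r ^ 2 - r + 1) ?_
    linear_combination (-2 * r) * hr + (r ^ 2 + r) * h3
  · refine ne_of_inv hr h3 (y := -r ^ 2 + r - 1) ?_
    linear_combination (-r + 1) * hr + (-1) * h3
  · refine ne_of_inv hr h3 (y := r) ?_
    linear_combination (1) * hr + (-1) * h3
  · refine ne_of_inv hr h3 (y := -r ^ 2 + 1) ?_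
    linear_combination (-2 * r) * hr + (r ^ 2 + 2 * r) * h3
  · refine ne_of_inv hr h3 (y := -r + 1) ?_
    linear_combination (-2) * hr + (r ^ 2 + r + 1) * h3
  · refine ne_of_inv hr h3 (y := -r ^ 2) ?_
    linear_combination (-2 * r + 1) * hr + (r - 1) * h3
  · refine ne_of_inv hr h3 (y := -r ^ 2 - r) ?_
    linear_combination (-4 * r - 2) * hr + (r ^ 2 + 3 * r + 1) * h3

end mats

section gen

variable {F : Type*} [Field F] [Fintype F] (hF : Fintype.card F = 27) {r : F} (hr : r ^ 3 + r ^ 2 + r + 2 = 0)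

include hF hr

theorem closure_top : Subfield.closure ({-r ^ 2} : Set F) = ⊤ := by
  classical
  have h3 := charThree hF
  set K : Subfield F := Subfield.closure ({-r ^ 2} : Set F) with hK
  have hm : -r ^ 2 ∈ K := Subfield.subset_closure rfl
  let _ : Fintype K := Fintype.ofFinite K
  have h1 : Fintype.card F = Fintype.card K ^ Module.finrank K F := Module.card_eq_pow_finrank
  rw [hF] at h1
  have h2 : (⟨-r ^ 2, hm⟩ : K) ^ Fintype.card K = ⟨-r ^ 2, hm⟩ := FiniteField.pow_card _
  have h4 : (-r ^ 2) ^ Fintype.card K = -r ^ 2 := congrArg Subtype.val h2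
  have h5 : Fintype.card K = 3 ∨ Fintype.card K = 27 := by
    have hn : Module.finrank K F ≤ 4 := by
      by_contra hcon
      have : 2 ^ 5 ≤ Fintype.card K ^ Module.finrank K F :=
        (Nat.pow_le_pow_left Fintype.one_lt_card 5).trans
          (Nat.pow_le_pow_right Fintype.card_pos (by omega))
      omega
    have hc : Fintype.card K ≤ 27 := by
      rw [← hF]
      exact Fintype.card_le_of_injective (fun x : K => (x : F)) Subtype.val_injective
    generalize Fintype.card K = a at *
    generalize Module.finrank K F = n at *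
    interval_cases n
    · exfalso
      rw [pow_zero] at h1
      omega
    · right
      rw [pow_one] at h1
      exact h1.symm
    · exfalso
      have : a ≤ 5 ∨ 6 ≤ a := by omega
      rcases this with h | h <;> nlinarith only [h1, h]
    · left
      have : a ≤ 2 ∨ a = 3 ∨ 4 ≤ a := by omega
      rcases this with h | h | h
      · exfalso
        have := Nat.pow_le_pow_left h 3
        omega
      · exact h
      · exfalso
        have := Nat.pow_le_pow_left h 3
        omega
    · exfalso
      have : a ≤ 2 ∨ 3 ≤ a := by omega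
      rcases this with h | h
      · have := Nat.pow_le_pow_left h 4
        omega
      · have := Nat.pow_le_pow_left h 4
        omega
  rcases h5 with h5 | h5
  · exfalso
    rw [h5] at h4
    have : (1 : F) = 0 := by
      linear_combination (-r ^ 2 - r) * h4 - ((r ^ 5 - r ^ 3 - r ^ 2 + r + 1) * hr + (-r - 1) * h3)
    exact one_ne_zero this
  · rw [eq_top_iff]
    intro x _
    by_contra hx
    have h6 : Fintype.card K < Fintype.card F := by
      refine Fintype.card_lt_of_injective_of_notMem (fun x : K => (x : F)) Subtype.val_injective (b := x) ?_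
      rintro ⟨y, rfl⟩
      exact hx y.2
    omega

/-- the generation of `SL₂(27)` by a `(2,3,7)`-pair -/
theorem gen_top (H : Subgroup SL(2, F)) {z l : SL(2, F)}
    (hz : (z : Matrix (Fin 2) (Fin 2) F) = !![0, r; -r ^ 2 - r - 1, 0])
    (hl : (l : Matrix (Fin 2) (Fin 2) F) = !![1, 0; 1, 1]) (hzH : z ∈ H) (hlH : l ∈ H) : H = ⊤ := by
  have h3 := charThree hF
  have hind := (indep hr h3).2.1.1
  have h2 : (2 : F) ≠ 0 := by
    intro h
    have : (1 : F) = 0 := by linear_combination h3 - h
    exact one_ne_zero this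
  rcases Cfsg.Agent.S0801.result h2 (-r ^ 2) (neg_ne_zero.2 hind) (closure_top hF hr) with ⟨h, -⟩ | ⟨h, -⟩
  · rw [eq_top_iff, ← h, Subgroup.closure_le]
    rintro g (hg | hg)
    · have : g = l := Subtype.ext (hg.trans hl.symm)
      rw [this]; exact hlH
    · have : g = z * l * z⁻¹ := by
        rw [eq_mul_inv_iff_mul_eq]
        apply Subtype.ext
        rw [Matrix.SpecialLinearGroup.coe_mul, Matrix.SpecialLinearGroup.coe_mul, hg, hz, hl, mul_uz hr h3,
          mul_c hr h3]
      rw [this]
      exact H.mul_mem (H.mul_mem hzH hlH) (H.inv_mem hzH)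
  · rw [hF] at h
    norm_num at h

end gen


section rep

variable {G : Type*} [Group G] {k V : Type*} [Field k] [AddCommGroup V] [Module k V] (ρ : G →* End k V)

theorem rho_inv_apply (g : G) (v : V) : ρ g⁻¹ (ρ g v) = v := by
  have : ρ g⁻¹ * ρ g = 1 := by rw [← map_mul, inv_mul_cancel, map_one]
  exact LinearMap.congr_fun this v

theorem rho_apply_inv (g : G) (v : V) : ρ g (ρ g⁻¹ v) = v := by
  have : ρ g * ρ g⁻¹ = 1 := by rw [← map_mul, mul_inv_cancel, map_one]
  exact LinearMap.congr_fun this v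

theorem rho_mul_apply (g h : G) (v : V) : ρ (g * h) v = ρ g (ρ h v) := by
  rw [map_mul]; rfl

theorem fx_le [FiniteDimensional k V] (g h : G) : fx (ρ h) ≤ fx (ρ (g * h * g⁻¹)) := by
  let f : (ρ h - 1).ker →ₗ[k] (ρ (g * h * g⁻¹) - 1).ker :=
    LinearMap.codRestrict _ ((ρ g).domRestrict _) (fun x => by
      rw [mem_fx, LinearMap.domRestrict_apply, rho_mul_apply, rho_mul_apply, rho_inv_apply,
        mem_fx.1 x.2])
  refine LinearMap.finrank_le_finrank_of_injective (f := f) ?_
  intro x y hxy
  apply Subtype.ext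
  have h1 : ρ g x = ρ g y := congrArg Subtype.val hxy
  have h2 := congrArg (ρ g⁻¹) h1
  rwa [rho_inv_apply, rho_inv_apply] at h2

theorem fx_conj [FiniteDimensional k V] (g h : G) : fx (ρ (g * h * g⁻¹)) = fx (ρ h) := by
  refine le_antisymm ?_ (fx_le ρ g h)
  have := fx_le ρ g⁻¹ (g * h * g⁻¹)
  rwa [show g⁻¹ * (g * h * g⁻¹) * g⁻¹⁻¹ = h by group] at this

theorem fx_inv (g : G) : fx (ρ g⁻¹) = fx (ρ g) := by
  unfold fx
  have : (ρ g⁻¹ - 1).ker = (ρ g - 1).ker := by
    ext v
    rw [mem_fx, mem_fx]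
    constructor
    · intro h
      conv_lhs => rw [← h]
      rw [rho_apply_inv]
    · intro h
      conv_lhs => rw [← h]
      rw [rho_inv_apply]
  rw [this]

/-- Scott's lemma, for a pair without fixed vectors and cofixed vectors -/
theorem scott_bound [FiniteDimensional k V] {x y : G}
    (hF : ∀ v, ρ x v = v → ρ y v = v → v = 0)
    (hR : ∀ S : Submodule k V, (∀ v, ρ x v - v ∈ S) → (∀ v, ρ y v - v ∈ S) → S = ⊤) :
    fx (ρ x) + fx (ρ y) + fx (ρ (x * y)) ≤ finrank k V := by
  have h1 : ρ x * ρ y * ρ (x * y)⁻¹ = 1 := by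
    rw [← map_mul, ← map_mul, mul_inv_cancel, map_one]
  have h2 := Cfsg.Agent.H565.Scott.scott h1 (⊥ : Submodule k V) ⊤
    (fun v a b => by rw [Submodule.mem_bot]; exact hF v a b)
    (fun S a b => by rw [hR S a b])
  rw [finrank_top, finrank_bot, zero_add] at h2
  have h3 := rk_sub_one (ρ x)
  have h4 := rk_sub_one (ρ y)
  have h5 := rk_sub_one (ρ (x * y)⁻¹)
  rw [fx_inv] at h5
  unfold rk at h3 h4 h5
  omega

end rep

section low

variable {F : Type*} [Field F]

/-- lower unitriangular matrices -/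
def low (x : F) : SL(2, F) := ⟨!![1, 0; x, 1], by simp [Matrix.det_fin_two]⟩

theorem coe_low (x : F) : (low x : Matrix (Fin 2) (Fin 2) F) = !![1, 0; x, 1] := rfl

theorem low_add (x y : F) : low (x + y) = low x * low y := by
  apply Subtype.ext
  rw [Matrix.SpecialLinearGroup.coe_mul, coe_low, coe_low, coe_low, Matrix.mul_fin_two]
  refine mk4 ?_ ?_ ?_ ?_ <;> ring

theorem low_zero : low (0 : F) = 1 := by
  apply Subtype.ext
  rw [Matrix.SpecialLinearGroup.coe_one, coe_low, Matrix.one_fin_two]

theorem low_neg (x : F) : low (-x) = (low x)⁻¹ := by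
  rw [eq_inv_iff_mul_eq_one, ← low_add, neg_add_cancel, low_zero]

theorem low_cube (h3 : (3 : F) = 0) (x : F) : low x ^ 3 = 1 := by
  rw [pow_succ, pow_two, ← low_add, ← low_add, show x + x + x = 3 * x by ring, h3, zero_mul, low_zero]

theorem low_ne_one {x : F} (hx : x ≠ 0) : low x ≠ 1 := by
  intro h
  have h1 := congrArg (fun g : SL(2, F) => (g : Matrix (Fin 2) (Fin 2) F) 1 0) h
  simp only [coe_low, Matrix.SpecialLinearGroup.coe_one] at h1
  exact hx (by simpa using h1)

/-- diagonal matrices -/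
def dg (a : F) (ha : a ≠ 0) : SL(2, F) := ⟨!![a, 0; 0, a⁻¹], by simp [Matrix.det_fin_two, ha]⟩

theorem dg_conj {a : F} (ha : a ≠ 0) (x : F) : dg a ha * low (a ^ 2 * x) * (dg a ha)⁻¹ = low x := by
  rw [mul_inv_eq_iff_eq_mul]
  apply Subtype.ext
  rw [Matrix.SpecialLinearGroup.coe_mul, Matrix.SpecialLinearGroup.coe_mul, coe_low, coe_low]
  show (!![a, 0; 0, a⁻¹] : Matrix (Fin 2) (Fin 2) F) * _ = _ * !![a, 0; 0, a⁻¹]
  rw [Matrix.mul_fin_two, Matrix.mul_fin_two]
  refine mk4 ?_ ?_ ?_ ?_ <;> field_simp <;> ring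

end low

section main

variable {F : Type*} [Field F] [Fintype F] (hF : Fintype.card F = 27)
variable {k V : Type*} [Field k] [AddCommGroup V] [Module k V] [FiniteDimensional k V]
variable (h2 : (2 : k) = 0) (ρ : SL(2, F) →* End k V)

include hF in
theorem fx_low {x : F} (hx : x ≠ 0) : fx (ρ (low x)) = fx (ρ (low 1)) := by
  have key : ∀ a : F, a ≠ 0 → fx (ρ (low (a ^ 2))) = fx (ρ (low 1)) := by
    intro a ha
    rw [← dg_conj ha 1, mul_one, fx_conj]
  have h3 : IsSquare x ∨ IsSquare (-x) := by
    classical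
    by_cases h : IsSquare x
    · exact Or.inl h
    · right
      have h4 : ¬ IsSquare (-1 : F) := by
        rw [FiniteField.isSquare_neg_one_iff, hF]
        norm_num
      rw [← quadraticChar_one_iff_isSquare (neg_ne_zero.2 hx), neg_eq_neg_one_mul, map_mul,
        quadraticChar_neg_one_iff_not_isSquare.2 h4, quadraticChar_neg_one_iff_not_isSquare.2 h]
      norm_num
  rcases h3 with ⟨a, ha⟩ | ⟨a, ha⟩
  · have ha0 : a ≠ 0 := by
      rintro rfl; exact hx (by rw [ha, mul_zero])
    rw [ha, ← pow_two, key a ha0]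
  · have ha0 : a ≠ 0 := by
      rintro rfl; exact (neg_ne_zero.2 hx) (by rw [ha, mul_zero])
    rw [← fx_inv, ← low_neg, ha, ← pow_two, key a ha0]

/-- the action of the group algebra of the lower unitriangular group -/
noncomputable def th : MonoidAlgebra k (Multiplicative F) →ₐ[k] End k V :=
  MonoidAlgebra.lift k (End k V) (Multiplicative F)
    { toFun := fun x => ρ (low (Multiplicative.toAdd x))
      map_one' := by
        show ρ (low 0) = 1
        rw [low_zero, map_one]
      map_mul' := fun x y => by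
        show ρ (low (Multiplicative.toAdd x + Multiplicative.toAdd y)) = _
        rw [low_add, map_mul] }

/-- basis elements -/
noncomputable def tt (k : Type*) [Field k] (x : F) : MonoidAlgebra k (Multiplicative F) :=
  MonoidAlgebra.of k (Multiplicative F) (Multiplicative.ofAdd x)

theorem th_tt (x : F) : th ρ (tt k x) = ρ (low x) := by
  unfold th tt
  rw [MonoidAlgebra.lift_of]
  rfl

theorem tt_add (x y : F) : tt k (x + y) = tt k x * tt k y := by
  unfold tt
  rw [ofAdd_add, map_mul]

theorem tt_cube (h3 : (3 : F) = 0) (x : F) : tt k x ^ 3 = 1 := by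
  rw [pow_succ, pow_two, ← tt_add, ← tt_add, show x + x + x = 3 * x by ring, h3, zero_mul]
  unfold tt
  rw [ofAdd_zero, map_one]

theorem two_eq_zero (h2 : (2 : k) = 0) : (2 : MonoidAlgebra k (Multiplicative F)) = 0 := by
  have := map_ofNat (algebraMap k (MonoidAlgebra k (Multiplicative F))) 2
  rw [h2, map_zero] at this
  exact this.symm

include hF h2 in
theorem rk_nm (x : F) (hx : x ≠ 0) : rk (th ρ (nm (tt k x))) = fx (ρ (low 1)) := by
  have h3 := charThree hF
  unfold nm
  rw [map_add, map_add, map_one, map_pow, th_tt, rk_three h2, fx_low hF ρ hx]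
  rw [← map_pow, low_cube h3, map_one]

include hF h2 in
theorem rk_nm_two (x : F) (hx : x ≠ 0 ∧ 1 + x ≠ 0 ∧ 1 + 2 * x ≠ 0) :
    finrank k V + 3 * rk (th ρ (nm (tt k 1) * nm (tt k x))) = 4 * fx (ρ (low 1)) := by
  have h3 := charThree hF
  have h := four_subgroups (two_eq_zero (F := F) h2) ((th ρ : _ →ₐ[k] End k V) : _ →+* End k V) (π := 1)
    (u := tt k 1) (v := tt k x) (one_mul 1) (tt_cube h3 1) (tt_cube h3 x)
  simp only [one_mul] at h
  rw [pow_two, ← tt_add, ← tt_add, ← tt_add, show (1 : F) + (x + x) = 1 + 2 * x by ring] at h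
  simp only [RingHom.coe_coe] at h
  rw [rk_nm hF h2 ρ 1 one_ne_zero, rk_nm hF h2 ρ x hx.1, rk_nm hF h2 ρ _ hx.2.1, rk_nm hF h2 ρ _ hx.2.2, map_one] at h
  have h4 : rk (1 : End k V) = finrank k V := by
    unfold rk
    have : (1 : End k V).range = ⊤ := LinearMap.range_id
    rw [this, finrank_top]
  omega

include hF h2 in
/-- **the elements of order 3 and the Sylow 3-subgroup** -/
theorem unip {r : F} (hr : r ^ 3 + r ^ 2 + r + 2 = 0) (hV : finrank k V = 78)
    (hd : fx (ρ (low 1)) = 46 ∨ fx (ρ (low 1)) = 36 ∨ fx (ρ (low 1)) = 30 ∨ fx (ρ (low 1)) = 28 ∨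
      fx (ρ (low 1)) = 24) :
    fx (ρ (low 1)) = 24 ∧ th ρ (nm (tt k 1) * (nm (tt k r) * nm (tt k (r ^ 2)))) = 0 := by
  have h3 := charThree hF
  obtain ⟨i1, i2, i3, i4⟩ := indep hr h3
  have a1 := rk_nm_two hF h2 ρ _ i1
  have a2 := rk_nm_two hF h2 ρ _ i2
  have a3 := rk_nm_two hF h2 ρ _ i3
  have a4 := rk_nm_two hF h2 ρ _ i4
  have h := four_subgroups (two_eq_zero (F := F) h2) ((th ρ : _ →ₐ[k] End k V) : _ →+* End k V)
    (π := nm (tt k 1)) (u := tt k r) (v := tt k (r ^ 2)) (nm_sq ((by exact two_eq_zero h2)) (tt_cube h3 1)) (tt_cube h3 _)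
    (tt_cube h3 _)
  rw [pow_two (tt k (r ^ 2)), ← tt_add, ← tt_add, ← tt_add, show r + (r ^ 2 + r ^ 2) = 2 * r ^ 2 + r by ring,
    add_comm r (r ^ 2)] at h
  simp only [RingHom.coe_coe] at h
  rw [rk_nm hF h2 ρ 1 one_ne_zero] at h
  rw [hV] at a1 a2 a3 a4
  generalize rk (th ρ (nm (tt k 1) * nm (tt k r))) = b1 at *
  generalize rk (th ρ (nm (tt k 1) * nm (tt k (r ^ 2)))) = b2 at *
  generalize rk (th ρ (nm (tt k 1) * nm (tt k (r ^ 2 + r)))) = b3 at *
  generalize rk (th ρ (nm (tt k 1) * nm (tt k (2 * r ^ 2 + r)))) = b4 at *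
  have key : fx (ρ (low 1)) = 24 ∧ rk (th ρ (nm (tt k 1) * (nm (tt k r) * nm (tt k (r ^ 2))))) = 0 := by
    rcases hd with hd | hd | hd | hd | hd <;> rw [hd] at a1 a2 a3 a4 h ⊢ <;> omega
  exact ⟨key.1, eq_zero_of_rk key.2⟩

/-- `nm` acts as `1` on a fixed vector -/
theorem th_nm_apply (h2 : (2 : k) = 0) {x : F} {v : V} (hv : ρ (low x) v = v) : th ρ (nm (tt k x)) v = v := by
  unfold nm
  rw [map_add, map_add, map_one, map_pow, th_tt, LinearMap.add_apply, LinearMap.add_apply, pow_two,
    Module.End.mul_apply, hv, hv, Module.End.one_apply]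
  have : v + v + v = v + (2 : k) • v := by rw [two_smul, add_assoc]
  rw [this, h2, zero_smul, add_zero]

theorem th_nm_sub_mem (h2 : (2 : k) = 0) {S : Submodule k V} {x : F} (hS : ∀ v, ρ (low x) v - v ∈ S) (v : V) :
    th ρ (nm (tt k x)) v - v ∈ S := by
  unfold nm
  rw [map_add, map_add, map_one, map_pow, th_tt, LinearMap.add_apply, LinearMap.add_apply, pow_two,
    Module.End.mul_apply, Module.End.one_apply]
  have : v + ρ (low x) v + ρ (low x) (ρ (low x) v) - v =
      (ρ (low x) (ρ (low x) v) - ρ (low x) v) + (2 : k) • ρ (low x) v := by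
    rw [two_smul]; abel
  rw [this, h2, zero_smul, add_zero]
  exact hS _

include hF h2 in
/-- **`L₂(27)` has no 78-dimensional module with these fixed spaces** -/
theorem false_of (hρ : ρ (-1) = 1) {ζ : k} (hζ : IsPrimitiveRoot ζ 7) (hV : finrank k V = 78)
    (f2 : ∀ g : SL(2, F), g ^ 2 = -1 → fx (ρ g) = 56 ∨ fx (ρ g) = 46 ∨ fx (ρ g) = 40)
    (f3 : ∀ g : SL(2, F), g ^ 3 = 1 → g ≠ 1 → fx (ρ g) = 46 ∨ fx (ρ g) = 36 ∨ fx (ρ g) = 30 ∨ fx (ρ g) = 28 ∨
      fx (ρ g) = 24)
    (f7 : ∀ g : SL(2, F), g ^ 7 = 1 → g ≠ 1 → 18 ≤ fx (ρ g) ∨ (fx (ρ g) = 12 ∧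
      ∀ i, 0 < i → i < 7 → finrank k ((ρ g).eigenspace (ζ ^ i)) = 11)) : False := by
  obtain ⟨r, hr⟩ := exists_root hF
  have h3 := charThree hF
  obtain ⟨d24, hE⟩ := unip hF h2 ρ hr hV (f3 _ (low_cube h3 1) (low_ne_one one_ne_zero))
  let z : SL(2, F) := ⟨_, det_z hr h3⟩
  let h : SL(2, F) := ⟨_, det_h hr h3⟩
  let c0 : SL(2, F) := ⟨_, det_c0 hr h3⟩
  have hz : (z : Matrix (Fin 2) (Fin 2) F) = !![0, r; -r ^ 2 - r - 1, 0] := rfl
  have hh : (h : Matrix (Fin 2) (Fin 2) F) = !![r ^ 2 + 1, -1; r, r ^ 2 - 1] := rfl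
  have hc0 : (c0 : Matrix (Fin 2) (Fin 2) F) = !![-r, -r + 1; -r - 1, -r] := rfl
  let c : SL(2, F) := z * low 1
  have hc : (c : Matrix (Fin 2) (Fin 2) F) = !![r, r; -r ^ 2 - r - 1, 0] := by
    rw [Matrix.SpecialLinearGroup.coe_mul, hz, coe_low, mul_c hr h3]
  have zz : z ^ 2 = -1 := by
    apply Subtype.ext
    rw [pow_two, Matrix.SpecialLinearGroup.coe_mul, hz, mul_zz hr h3, Matrix.SpecialLinearGroup.coe_neg,
      Matrix.SpecialLinearGroup.coe_one, Matrix.one_fin_two]
    ext i j
    (revert i j; simp only [_root_.Fin.forall_fin_succ, _root_.Matrix.of_apply, _root_.Matrix.cons_val', _root_.Matrix.cons_val_fin_one, _root_.Matrix.neg_apply, Fin.isValue, _root_.Matrix.cons_val_zero, _root_.Matrix.cons_val_succ, _root_.forall_const, _root_.neg_zero, _root_.and_self, _root_.implies_true])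
  have c7 : c ^ 7 = 1 := by
    have : c ^ 7 = (c * c) * (c * c) * ((c * c) * c) := by
      simp only [pow_succ, pow_zero, one_mul, mul_assoc]
    rw [this]
    apply Subtype.ext
    simp only [Matrix.SpecialLinearGroup.coe_mul, hc, Matrix.SpecialLinearGroup.coe_one]
    rw [mul_c2 hr h3, mul_c3 hr h3, mul_c4 hr h3, mul_c7 hr h3, Matrix.one_fin_two]
  have c_ne : c ≠ 1 := by
    intro h1
    have h4 := congrArg (fun g : SL(2, F) => (g : Matrix (Fin 2) (Fin 2) F) 1 1) h1
    simp only [hc, Matrix.SpecialLinearGroup.coe_one] at h4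
    simp at h4
  have hconj : h * c * h⁻¹ = c0 := by
    rw [mul_inv_eq_iff_eq_mul]
    apply Subtype.ext
    rw [Matrix.SpecialLinearGroup.coe_mul h c, Matrix.SpecialLinearGroup.coe_mul c0 h, hh, hc, hc0, mul_hc hr h3,
      mul_ch hr h3]
  have hcomm : z * c0 = c0 * z := by
    apply Subtype.ext
    rw [Matrix.SpecialLinearGroup.coe_mul z c0, Matrix.SpecialLinearGroup.coe_mul c0 z, hz, hc0, mul_zc0 hr h3,
      mul_c0z hr h3]
  have c07 : c0 ^ 7 = 1 := by
    rw [← hconj, conj_pow, c7, mul_one, mul_inv_cancel]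
  have c0_ne : c0 ≠ 1 := by
    rw [← hconj]
    intro h1
    rw [mul_inv_eq_one, mul_eq_left] at h1
    exact c_ne h1
  have hfc : fx (ρ c0) = fx (ρ c) := by rw [← hconj, fx_conj]
  -- Scott
  have hs := scott_bound ρ (x := z) (y := low 1) (fun v h4 h5 => ?_) (fun S h4 h5 => ?_)
  · rw [hV, d24] at hs
    change fx (ρ z) + 24 + fx (ρ c) ≤ 78 at hs
    have b2 := f2 z zz
    rcases f7 c0 c07 c0_ne with h7 | ⟨h7, h8⟩
    · omega
    · have hzz : ρ z * ρ z = 1 := by rw [← map_mul, ← pow_two, zz, hρ]
      have hcc : ρ c0 ^ 7 = 1 := by rw [← map_pow, c07, map_one]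
      have hzc : ρ z * ρ c0 = ρ c0 * ρ z := by rw [← map_mul, hcomm, map_mul]
      have h9 := rk_le_sum_seven h2 hzz hcc hzc hζ
      have h10 : (ρ c0).eigenspace (ζ ^ 0) = (ρ c0 - 1).ker := by
        ext v
        rw [Module.End.mem_eigenspace_iff, mem_fx, pow_zero, one_smul]
      rw [Finset.sum_range_succ', h10] at h9
      simp only [Finset.sum_range_succ, Finset.sum_range_zero, zero_add] at h9
      rw [h8 1 (by norm_num) (by norm_num), h8 (1 + 1) (by norm_num) (by norm_num),
        h8 (2 + 1) (by norm_num) (by norm_num), h8 (3 + 1) (by norm_num) (by norm_num),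
        h8 (4 + 1) (by norm_num) (by norm_num), h8 (5 + 1) (by norm_num) (by norm_num)] at h9
      have h11 := rk_sub_one (ρ z)
      unfold fx at h7
      rw [h7] at h9
      rw [hV] at h11
      have h12 : fx (ρ c) = 12 := by rw [← hfc]; exact h7
      omega
  · let H : Subgroup SL(2, F) :=
      { carrier := {g | ρ g v = v}
        one_mem' := by
          show ρ 1 v = v
          rw [map_one]; rfl
        mul_mem' := fun {a b} ha hb => by
          show ρ (a * b) v = v
          rw [rho_mul_apply, show ρ b v = v from hb, show ρ a v = v from ha]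
        inv_mem' := fun {a} ha => by
          show ρ a⁻¹ v = v
          conv_lhs => rw [← show ρ a v = v from ha]
          rw [rho_inv_apply] }
    have htop := gen_top hF hr H hz (coe_low 1) h4 h5
    have hfix : ∀ x, ρ (low x) v = v := fun x => by
      have : low x ∈ H := by rw [htop]; exact Subgroup.mem_top _
      exact this
    have h6 := LinearMap.congr_fun hE v
    rw [map_mul, map_mul, Module.End.mul_apply, Module.End.mul_apply, th_nm_apply ρ h2 (hfix _),
      th_nm_apply ρ h2 (hfix _), th_nm_apply ρ h2 (hfix _)] at h6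
    exact h6
  · let H : Subgroup SL(2, F) :=
      { carrier := {g | ∀ v, ρ g v - v ∈ S}
        one_mem' := fun v => by
          rw [map_one, Module.End.one_apply, sub_self]; exact S.zero_mem
        mul_mem' := fun {a b} ha hb v => by
          have : ρ (a * b) v - v = (ρ a (ρ b v) - ρ b v) + (ρ b v - v) := by
            rw [rho_mul_apply]; abel
          rw [this]
          exact S.add_mem (ha _) (hb _)
        inv_mem' := fun {a} ha v => by
          have := ha (ρ a⁻¹ v)
          rw [rho_apply_inv] at this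
          rw [← neg_sub]
          exact S.neg_mem this }
    have htop := gen_top hF hr H hz (coe_low 1) h4 h5
    have hfix : ∀ x, ∀ v, ρ (low x) v - v ∈ S := fun x => by
      have : low x ∈ H := by rw [htop]; exact Subgroup.mem_top _
      exact this
    rw [eq_top_iff]
    intro v _
    have h6 := LinearMap.congr_fun hE v
    rw [map_mul, map_mul, Module.End.mul_apply, Module.End.mul_apply, LinearMap.zero_apply] at h6
    set v1 := th ρ (nm (tt k (r ^ 2))) v with hv1
    set v2 := th ρ (nm (tt k r)) v1 with hv2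
    have s1 : v1 - v ∈ S := th_nm_sub_mem ρ h2 (hfix _) v
    have s2 : v2 - v1 ∈ S := th_nm_sub_mem ρ h2 (hfix _) v1
    have s3 : th ρ (nm (tt k 1)) v2 - v2 ∈ S := th_nm_sub_mem ρ h2 (hfix _) v2
    rw [h6, zero_sub] at s3
    have : v = -((v1 - v) + (v2 - v1) + -v2) := by abel
    rw [this]
    exact S.neg_mem (S.add_mem (S.add_mem s1 s2) s3)

end main

end Cfsg.Agent.H898.TSL27
end
end

-- part: H898/TSNotL27
section
prune_inst 0x700067043d2202000000050032203c62e6000000000800008001024407810c0800c20860b790010340208084503c002010000000420000000a000400011901a0808002003240000cc60099800080000000000000000000000000000000000000000000000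
set_option linter.all false
open scoped Cfsg.Agent.FastGrp

-- part: H898/TSMult
section
/-!
# Multiplicities of eigenvalues from the characteristic polynomial (helper898)

`A ^ N = 1`, `N` invertible, `charpoly A * (X - 1) ^ b = (X - 1) ^ a * (X ^ N - 1) ^ b`: over every extension field the
fixed space has dimension `a`, and the eigenspaces for the other `N`-th roots of unity have dimension `b`.
-/

set_option autoImplicit false

namespace Cfsg.Agent.H898.TSMult

open Module Polynomial Cfsg.Agent.H898.TSRank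

variable {k V : Type*} [Field k] [AddCommGroup V] [Module k V] [FiniteDimensional k V]

theorem finrank_eigenspace {E : End k V} {N : ℕ} (hN : (N : k) ≠ 0) (hE : E ^ N = 1) (μ : k) :
    finrank k (E.eigenspace μ) = E.charpoly.rootMultiplicity μ := by
  have hsep : (X ^ N - 1 : k[X]).Separable := (X_pow_sub_one_separable_iff).2 hN
  have hss : E.IsSemisimple := by
    refine End.isSemisimple_of_squarefree_aeval_eq_zero hsep.squarefree ?_
    rw [map_sub, map_pow, aeval_X, map_one, hE, sub_self]
  have h1 : E.maxGenEigenspace μ = E.eigenspace μ :=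
    ((End.isFinitelySemisimple_iff_isSemisimple).2 hss).maxGenEigenspace_eq_eigenspace μ
  rw [← h1, LinearMap.finrank_maxGenEigenspace_eq]

theorem mult_of {P : k[X]} (hP : P ≠ 0) {N a b : ℕ} (hN : (N : k) ≠ 0)
    (h : P * (X - 1) ^ b = (X - 1) ^ a * (X ^ N - 1) ^ b) :
    P.rootMultiplicity 1 = a ∧ ∀ ζ : k, ζ ^ N = 1 → ζ ≠ 1 → P.rootMultiplicity ζ = b := by
  classical
  have hN0 : N ≠ 0 := by
    rintro rfl
    exact hN Nat.cast_zero
  have hX : (X - 1 : k[X]) ≠ 0 := X_sub_C_ne_zero 1
  have hXN : (X ^ N - 1 : k[X]) ≠ 0 := by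
    have := X_pow_sub_C_ne_zero (Nat.pos_of_ne_zero hN0) (1 : k)
    rwa [C_1] at this
  have hsep : (X ^ N - 1 : k[X]).Separable := (X_pow_sub_one_separable_iff).2 hN
  have hr := congrArg roots h
  rw [roots_mul (mul_ne_zero hP (pow_ne_zero _ hX)), roots_mul (mul_ne_zero (pow_ne_zero _ hX) (pow_ne_zero _ hXN)),
    roots_pow, roots_pow, roots_pow] at hr
  have hr1 : (X - 1 : k[X]).roots = {1} := by
    have := roots_X_sub_C (1 : k)
    rwa [C_1] at this
  rw [hr1] at hr
  have hroot : ∀ ζ : k, ζ ^ N = 1 → (X ^ N - 1 : k[X]).roots.count ζ = 1 := by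
    intro ζ hζ
    apply le_antisymm
    · rw [count_roots]
      exact rootMultiplicity_le_one_of_separable hsep ζ
    · rw [Nat.one_le_iff_ne_zero, ← Nat.pos_iff_ne_zero, Multiset.count_pos, mem_roots hXN, IsRoot.def, eval_sub,
        eval_pow, eval_X, eval_one, hζ, sub_self]
  constructor
  · have h1 := congrArg (Multiset.count 1) hr
    rw [Multiset.count_add, Multiset.count_add, Multiset.count_nsmul, Multiset.count_nsmul, Multiset.count_nsmul,
      Multiset.count_singleton_self, hroot 1 (one_pow N), count_roots] at h1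
    omega
  · intro ζ hζ hne
    have h1 := congrArg (Multiset.count ζ) hr
    rw [Multiset.count_add, Multiset.count_add, Multiset.count_nsmul, Multiset.count_nsmul, Multiset.count_nsmul,
      Multiset.count_singleton, if_neg hne, hroot ζ hζ, count_roots] at h1
    omega

/-- **Multiplicities.** -/
theorem finrank_of {ι K : Type*} [Fintype ι] [DecidableEq ι] [Field K] (f : K →+* k) {A : Matrix ι ι K} {N a b : ℕ}
    (hN : (N : k) ≠ 0) (hA : A ^ N = 1) (h : A.charpoly * (X - 1) ^ b = (X - 1) ^ a * (X ^ N - 1) ^ b) :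
    fx (Matrix.toLin' (A.map f)) = a ∧
      ∀ ζ : k, ζ ^ N = 1 → ζ ≠ 1 → finrank k (End.eigenspace (Matrix.toLin' (A.map f)) ζ) = b := by
  have hE : (Matrix.toLin' (A.map f)) ^ N = 1 := by
    rw [← Matrix.toLin'_pow]
    have h1 : (A.map f) ^ N = 1 := by
      have := congrArg f.mapMatrix hA
      rwa [map_pow, map_one] at this
    rw [h1, Matrix.toLin'_one]
    rfl
  have hc : (Matrix.toLin' (A.map f)).charpoly = (A.map f).charpoly := by
    rw [← LinearMap.charpoly_toMatrix (Matrix.toLin' (A.map f)) (Pi.basisFun k ι), LinearMap.toMatrix_eq_toMatrix',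
      LinearMap.toMatrix'_toLin']
  have h2 : (A.map f).charpoly * (X - 1) ^ b = (X - 1) ^ a * (X ^ N - 1) ^ b := by
    rw [Matrix.charpoly_map]
    have := congrArg (Polynomial.map f) h
    simpa only [Polynomial.map_mul, Polynomial.map_pow, Polynomial.map_sub, Polynomial.map_X, Polynomial.map_one]
      using this
  obtain ⟨h3, h4⟩ := mult_of (Matrix.charpoly_monic _).ne_zero hN h2
  refine ⟨?_, fun ζ hζ hne => ?_⟩
  · have h5 := finrank_eigenspace hN hE 1
    rw [hc, h3] at h5
    rw [← h5]
    unfold fx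
    have h6 : End.eigenspace (Matrix.toLin' (A.map f)) 1 = (Matrix.toLin' (A.map f) - 1).ker := by
      ext v
      rw [End.mem_eigenspace_iff, mem_fx, one_smul]
    rw [h6]
  · rw [finrank_eigenspace hN hE, hc, h4 ζ hζ hne]

end Cfsg.Agent.H898.TSMult
end

-- part: H898/TSInvData
section
/-!
# Codes of 78 × 78 matrices over the field with two elements (helper898)

`m k` is the matrix of the `k`-th involution of `²E₆(2)` (in the basis `TwoESix.Data.bs`), and
`u k * (m k - 1) * w k = E`, `x k * E * y k = m k - 1`, `E` a partial identity matrix of rank `r k`.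
-/

set_option autoImplicit false

namespace Cfsg.Agent.H898.TSInvData

def m : Nat → Nat
  | 0 => 0x80000008000000000001000000100000000000020000000020000000000400000000400000000008000000008000000000100000000100000000002000000002000000000040000000040000000000800000000800000000010000000010000000000200000000200000000004000000004000000000080000000000000000001000000000000000000020000000000000000000400000000000000000008000000000000000000100000000000000000002000000000000000000040000000000000000000800000000000000000010000000000000000000200000000000000000004000000000000000000080000000000000000001000000000000000000020000000000000000000400000000000000000008000000000000000000100000000000000000002000000000000000000040000000000000000000800000000000000000010000000000000000000200000000000000000004000000000000000000080000000000000000001000000000000000000020000000000000000000400000000000000000008000000000000000000100000000000000000002000000000000000000040000000000000000000800000000000000000010000000000000000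0002000000000000000000040000000000000000000800001040000000000010008000000000000000200100000000000000004002000000000000000080040000000000000001000000000000000000020010000000000000000400200000000000000008004000000000000000100080000000000000002000000000000000000040000000000000000000800000000000000000010000000000000000000200000000000000000004000000000000000000080000000000000000001000000000000000000020000000000000000000400000000000000000008000000000000000000100000000000000000002000000000000000000040000000000000000000800000000000000000010000000000000000000200000000000000000044000000000000000001080000000000000000001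
  | 1 => 0x8000000000020000002100000000000c000002420000002000000000000400000040000000000008000000800000000000100000010000000000002000000200000000000040000004000000000000800000080000000000010000001000000000000200000000000000000004000000000000080000080000020000000000001000000400000000000020000008000000000000400000100000000000008000000000000000000100000000000040000002000002000000000000040000040000000000000800000000000000000010000000000020000000200000800000000000004000010000000000000080000000000000000001000000000010000000020000000000000000000400000000008000000008000000000000000000100000000004000000002000000000000000000040000000000000000000800000000000000000010000000000000000000200000000000000000004000000000000000000080000000000000000001000000000000000000020000000000000000000400000000000000000008000000000000000000100000000000000000002000000000000000000040000000000000000000800000000000000000010000000000000000000200000000000000000004000000000200000000080002000000200000001000040000000800000020000800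00000200000040001000000002000000800020000000020000010000400000000000000200000000000000000004000000000000000000080000000000000000001000000000000000000020000000000000000000400000000000000000008000000000000000000100000000000000000002000000000000000000040000000000000000000800000000000000000010000000000000000000200000000000000000004000000000000000000080000000000000000001000000000000000000020000000000000000000400000000000020000008000000000000c0000010000000000000000000200000000000080000004000000000000000000080000000000080000001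
  | _ => 0x8000000000020000002100000000000c000002420002002002000000000400040040040000000008000200800800000000100004010010000000002000000200000000000040000004000000000000800000080000000000010000001000000000000200020000000000000004000400000000088000080000020000000000001000000400000000000020000008000000000000400000100000000000008008000000000000000100100000000044000002000002000000000000040000040000000000000800000000000000000010000000000020000000200000800000000000004000010000000000000080000000000000000001000000000010000000020000000000000000000400000000008000000008000000000000000000100000000004000000002002000000000000000040040000000000000000800800000000000000010010000000000000000200000000000000000004000000000000000000080000000000000000001000000000000000000020000000000000000000400000000000000000008000000000000000000100000000000000000002000000000000000000040000000000000000000800000000000000000010000000000000000000200000000000000000004000000000200020000088002200000200200001100044000000800000020000800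00000200000040001000000002000000800020000000020000010000400000000000000200402800000000000004200000000000000000084000000000000000001000000000000000000021000000000000000000420000000000000000008000000000000000000100000000000000000002000000000000000000040000000000000000000800000000000000000010000000000000000000220000000000000000004400000000000000000080000000000000000001000000000000000000020000000000000000000400000000000020000008000000000000c0001010000000000000000000200000000000080000004000000000000000000080000000000080001001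

def u : Nat → Nat
  | 0 => 0x2000000000000000000060000000000000020000000000000000000400000000000000000008000000000000000000100000000000000000002000000000000000000040000000000000000000800000000000000000010000000000000000000200000000000000000004000008000000000000000000100000000000000000002000000000000000000040000000000000000000800000000000000000010000000000000000000200000000000000000004000000000000000000080000000000000000001000000000000000000020000000000000000000400000000000000000008000000000000000000100000000000000000002000000000000000000040000000000000000000800000000000000000010000000000000000000200000000000000000004000000000000000000080000000000000000001000000000000000000020000000000000000000400000000000000000008000000000000000000100000000000000000002000000000000000000040000000000000000000800000000000000000010000000000000000000200000000000000000004000000000000000000080000000000000000001000000000000000000020000000000000000000400000000000000000000000000400000000000000002000000000000000000040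00000000000000000080000000000000000001000000000000001000000000000000000000000800000000000000000010800000000000000000010000000000000000000200000000000000000004000000000000000000080000000000000000001000000000000000000020000000000000000000400000000000000000008000000000000000000100000000000000000002000000000000000000040000000000000000000000000000400000000000000000008000000000000000000100000000000000000002000000000000000000020000000000000000000400000000000000000008000000000000000000100000000000000000000000080000000000020000002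
  | 1 => 0x80000000000000000005000000000000000000200000000000000000200000000000000020000000000000000000400000000000000000008000000000000000000100000000000000000002000000000000000000040000002000000000000000000000000000080000000000000000000000800000000000000000010000000000000000000200000000000000000004000000080000000000000000000000000040000000000000000000000080000000000000000001000000008000000000000000000000000000000080000000000000000020000000000000000000400000000800000000000000000000000000000040000000200000000000000000000000000000024000000080000000000000000000000000000100000000020000000000000000000400000000000000000008000000000000000000100000000000000000002000000000000000000040000000000000000000800000000000000000010000000000000000000200000000000000000004000000000000000000080000000000000000001000000000000000000020000000000000000000400000000000000000008000000000000000000100000000001000000000800000000001000000010000000000004000000200000000000010000004000000000000100000080000000000001000001000000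200000000000000000004000000000000000000080000000000000000001000000000000000000020000000000000000000400000000000000000008000000000000000000100000000000000000000800000000000000000010000000000000000000200000000000000000004000000000000000000020000000000000000000400000000000000000002000000000000000000040000000000000000000000000000000100000000000000000014001000000000000000000001000000000000000000004000000000000000000010000000000000000000100000000000000000001000000000000800000000000000000110000000000000000010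
  | _ => 0x90000000000000000000200000000000800000000000000000010000000000000000000200000000000000000004000000000000000000000000400000000000000000008000000000000000000100000000000000002000000200000000008002000000000000000000800000000000002000000000000200000000100040000000000000000040000000000000000000200000000000001000000000000000000000000400000002002000000000000000040040000000000000000800000000000000000000000200000000000000200800000000000000004010000000000000000080000000000000000000000100000000000000020000000000000000000400000000080000000008000000000000000000100000000040000000000000000004000000000000000010000000000000000000000800000000000000000000800000000200000000000000000004000000000000000000080000000000000000001000000000000000000020000000000000000000400000000000000400000020000000000001000000400000000000000000008002000000200000000000000020000002000000000000400000040000000000008000000800000000000100000010000000000002000000000000000000040000000000000000000800000000000000000010000000000000000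0000800000000000000000010000000000000000000200000000000000000004000000000000000000000020000000000000000000400000000000000000008000000000000000000100000000000000000000000000000800000000000000000011001000000000880020000003000000010000000000000000000010000000000000000000200000000000000000002000000000000000000040000000000000000000000840040000000000000800000040000000000010000000100000000000000000000400000000000000000000000000000800000000000000000010020000000000000000020400000000000000000c60000000000000800001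

def w : Nat → Nat
  | 0 => 0x8000000000000000000100000000000000000002000000000000000000040000000000000000000800000000000000000010000000000000000000200000000000000000004000000000000000000080000000000000000001000000000000000000020000000000000000000400000000000000000008000000000000000000100000000000000000002000000000000000000040000000000000000000800000000000000000010000000000000000000200000000000000000004000000000000000000080000000000000000001000000000000000000020000000000000000000400000000000000000008000000000000000000100000000000000000002000000000000000000040000000000000000000000000080000000000000000001000000000000200000000000000000004000000000000000000080000000000000000001000000000000000000020000000000000000000400000000000000000008000000000000000000100000000000000000000000020000000000000000000400000000000000000008000000000000000000100000000000000000002000000000000000000040000000000000000000800000000000000000010000000000000000000200000000000000000004000000000000008000000000000000000100000000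00000000000200000000000000000004000000000000000000080000000000000000001000000000000000000020000000000000000000400000000000080000000000000000001000000000000000000000200000000000000000004000000000000000000080000000000000000001000000000000000000000000008000000000000000000100000000000000000002000000000000000000040000000000002000000000000000000000000020000000000000000000400000000000000000008000000000000000000100000000000000000002000000000001000000000000000000800000000000000000010000000000000000000200000000000000000004000000000000000000000000001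
  | 1 => 0x80000000000000000001000000000000000000020000000000000000000400000000000000000008000000000000000000100000000000000000002000000000000000000040000000000000000000800000000000000000010000000000000000000000000000200000000004000000000000000000080000000000000000001000000000000000000020000000000000000000400000000000000000000000000100000000000100000000000000000002000000000000000000040000000000000000000000000080000000000010000000000000000000200000000000000000004000000000000000000000000040000000000001000000000000000000000000020000000000000400000000000000000000000010000000000000100000000000000000000000008000000000000000000100000000000000000002000000000000000000040000000000000000000800000000000000000010000000000000000000200000000000000000004000000000000000000080000000000000000001000000000000000000020000000000000000000400000000000000000008000000000000000000100000000000000000002000000000000000000040000000000000000000800000000000000000010000000800000000000000000002000000000000000000020000000000000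0000002000000000000000000020000000000000000000400000000000000000008000000000000000000100000000000000000002000000000000000000040000000000000000000800000000000000000010000000000000000000200000000000000000004000000000000000000080000000000000000001000000000000000000020000000000000000000400000000000000000000000002000000000000000000040000000000000000000800000000000000000010000000000000000000200000000000000000004002000000000000000000002000000000000000000000000000000000080080000000000000001000000000008000000000000000000100000000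
  | _ => 0x80000000000000000001000000000000000000020000000000000000000400000000000000000008000000000000000000100000000000000000002000000000000000000040000000000000000000800000000000000000010000000000000000000200000000000000000004000000000000000000080000000000000000001000000000000000000020000000000000000000400000000000000000008000000000000000000100000000000000000002000000000000000000040000000000000000000000008000000000000010000000000000000000200000000000000000004000000000000000000000004000000000000001000000000000000000000002000000000000000400000000000000000000001000000000000000100000000000000002000000800000000000040000010000000000000200000200000000000004000004000000000000000000080000000000000000001000000000000000000020000000000000000000400000000000000000008000000000000000000100000000000000000002000000000000000000040000000000000000000800000000000000000010000000000000000000200000000000000000004000000000000000000080000000000000000001000000000000200000000000000000004000000000000000000080000000000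0000000010000000000002000100000000200000002001000000004000000008000000000000000000020000000000000000000200000000000000000002000000000000000000020000000000000000000400000000000000000000000000080000000000000000001000000000000200000000000000000000000000800000000000000000010000000000000000000200000000100000000004000000001000000000080000000000000000001000000000000000000020000000000000000000400000000000000000008000000000100000000000000000200000000000000000000000000000100000000004000000002000000000000000000040000000100000000000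

def x : Nat → Nat
  | 0 => 0x80000000000000000001000000000000000000020000000000000000000400000000000000000008000000000000000000100000000000000000002000000000000000000040000000000000000000800000000000000000010000000000000000000200000000000000000004000008000000000000000000100000000000000000002000000000000000000040000000000000000000800000000000000000010000000000000000000200000000000000000004000000000000000000080000000000000000001000000000000000000020000000000000000000400000000000000000008000000000000000000100000000000000000002000000000000000000040000000000000000000800000000000000000010000000000000000000200000000000000000004000000000000000000080000000000000000001000000000000000000020000000000000000000400000000000000000008000000000000000000100000000000000000002000000000000000000040000000000000000000800000000000000000010000000000000000000200000000000000000004000000000000000000080000000000000000001000000000000000000020000000000000000000400000000000000000000000000c0000000000000000200000000000000000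004000000000000000000080000000000000000001000000000000001000000000000000000000000800000000000000000010000000000000000000200000000000000000004200000000000000000004000000000000000000080000000000000000001000000000000000000020000000000000000000400000000000000000008000000000000000000100000000000000000002000000000000000000040000000000000000000000000000400000000000000000008000000000000000000100000000000000000002000000000000000000020000000000000000000400000800000000000000000010000000000000000002000000000000000000080000000000020000000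
  | 1 => 0x80800000000000000003010000000000000800000000000000000010000000000000000000200000000000000000004000000000000000000080000000000000000001000000000000000000020000000000000000000400000020000000000000000000000000000000000800000000000000008000000000000000000100000000000000000002000000000000000000040000000800000000000000000000000000000000400000000000000000800000000000000000010000000080000000000000000000000000000000200000000000000000200000000000000000004000000008000000000000000000000000000000100000002000000000000000000000000000000080000000800000000000000000000000000000040000000200000000000000000004000000000000000000080000000000000000001000000000000000000020000000000000000000400000000000000000008000000000000000000100000000000000000002000000000000000000040000000000000000000800000000000000000010000000000000000000200000000000000000004000000000000000000080000000000000000001000000000010000000000000000000010000000000000000000000000020000020000000000000400000400000000000008000008000000000000100000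10000000000000200000200000000000004000004080000000000000000001000000000000000000020000000000000000000400000000000000000008000000000000000000100000000000000000000800000000000000000010000000000000000000200000000000000000004000000000000000000020000000000000000000400000000000000000002000000000000000000040000000000000100000000000000000000000001000000000000000004000000000000000000010000000000000000000100000000008000000000000000000300200000000000000000000000000000000000200800000000000000000010000000000000000200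
  | _ => 0x80010000000000000003000200000000000800800000000000000010010000000000000000200200000000000000004004000000000000000080000000000000000001000000000000000000020000000000000000000400000000200000002000000000000000000000000011000000000000008000000000000000000100000000000000000002000000000000000000040000000000000001000000000000000000000000008800002000000000800000000040000000010000000000800000000000000000000000000000004000000200000000200000000004000000004000000000080000000000000000000000000000002000000020000000000000000000400000000001000000008000000000000000000100000000000800000000000000800000000000000000010000000000000000000200000000000000000004000000000000200000000000000000004000000000000000000080000000000000000001000000000000000000020000000000000000000400000000000000400000000000000000001000000000000000080000000000000000000200000000000000020000000000000000000400000000000000000008000000000000000000100000000000000000000000000002000020440000000000040000408800000000008000000100000000000100000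0020000000000020000000400010000000400000008000000000000000008140000000000000002000000000000000000040000000000400000000000000000000000000020000000000000000000400004000000000000000000008000000000000000001000000000000000000001000000000000000000100000000000000000000000800000000000000000000000000000400000000000000000008000000008000000000000800000000000000000010000000000000000000200000000000000000000000000000000800000000000000000030200000000004000000000020000000000000020000400000000000000000000000000000000020200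

def y : Nat → Nat
  | 0 => 0x8000000000000000000100000000000000000002000000000000000000040000000000000000000800000000000000000010000000000000000000200000000000000000004000000000000000000080000000000000000001000000000000000000020000000000000000000400000000000000000008000000000000000000100000000000000000002000000000000000000040000000000000000000800000000000000000010000000000000000000200000000000000000004000000000000000000080000000000000000001000000000000000000020000000000000000000400000000000000000008000000000000000000100000000000000000002000000000000000000040000000000000000000000000080000000000000000001000000000000200000000000000000004000000000000000000080000000000000000001000000000000000000020000000000000000000400000000000000000008000000000000000000100000000000000000000000020000000000000000000400000000000000000008000000000000000000100000000000000000000004000000000000000000080000000000000000001000000000000000000020000000000000000200000000000000000000200000000000008000000000000000000100000000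00000000000200000000000000000004000000000000000000080000000000000000001000000000000000000020000000000000000000400000000000080000000000000000001000000000000000000000200000000000000000004000000000000000000080000000000000000001000000000000000000020000000000000000000400000000000000000008000000000000000000100000000000000000002000000000000000000040000000000000000000000200000000000000000004000000000000000000080000000000000000001000000000000000000010000000000000000000200000000000000000004000000000000000000080000000000000000001000000000000000000001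
  | 1 => 0x80000000000000000001000000000000000000020000000000000000000400000000000000000008000000000000000000100000000000000000002000000000000000000040000000000000000000800000000000000000010000000000000000000000000000000000080004000000000000000000080000000000000000001000000000000000000020000000000000000000400000000000000000000000000000000040000100000000000000000002000000000000000000040000000000000000000000000080000000000010000000000000000000200000000000000000004000000000000000000000000040000000000001000000000000000000000000020000000000000400000000000000000000000010000000000000100000000000000000000000008000000000000000000100000000000000000002000000000000000000040000000000000000000800000000000000000010000000000000000000200000000000000000004000000000000000000080000000000000000001000000000000000000020000000000000000000400000000000000000008000000000000000000100000000000000000000008000000000000000000100200000000000000000000200000000000000000000800000000000000000002000000000000000000020000000000000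0000002000000000000000000020000000000000000000400000000000000000008000000000000000000100000000000000000002000000000000000000040000000000000000000800000000000000000010000000000000000000200000000000000000004000000000000000000080000000000000000001000000000000000000020000000000000000000400000000000000000008000000000000000000100000000000000000002000000000000000000040000000000000000000000020000000000000000000400000000000000000008000000000000000000100000000000000000002000000000000000000040000000000000000000200000000000000000024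
  | _ => 0x80000000000000000001000000000000000000020000000000000000000400000000000000000008000000000000000000100000000000000000002000000000000000000040000000000000000000800000000000000000010000000000000000000200000000000000000004000000000000000000080000000000000000001000000000000000000020000000000000000000400000000000000000008000000000000000000100000000000000000002000000000000000000040000000000000000000000000002000000000010000000000000000000200000000000000000004000000000000000000000000001000000000001000000000000000000000000000800000000000400000000000000000000000000400000000000100000000000000000000000000200000000000000000004000000000000000000000040000000000000000000100000000000080000000000000000001000000000000000000020000000000000000000400000000000000000000020000000000000000000002000000800000000000000000002000000000000000000020000000000000000000200000000000000002002000000000000000040040000000000000000200800000000000000004010000000000000000000200000000000000000004000000000000000000080000000000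0000000010000000000000000000200000000000000000004000000000000000000080000000000000000001000000000000000000020000000000000000000400000000000000000008000000000000000000100000000000000000002000000000000000000040000000002000100000080000000002001000001000000000000000000000800000000000000000010000000000000000000100000000000000000002000000000000000000040000000004000000000800000000040000000010000000000000000000200000000000000000004000000000000000000080000000000000000001000000000000000000008000000000000000000900000000000000000002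

end Cfsg.Agent.H898.TSInvData
end

-- part: H898/TSInv
section
/-!
# The involutions of `²E₆(2)` on the 78-dimensional module (helper898)

`rank_inv`: an involution `t` of `twistedE6 K 2`, `|K| = 4`, has `rank (t - 1) ∈ {22, 32, 38}`.
-/

set_option autoImplicit false
set_option maxRecDepth 100000

namespace Cfsg.Agent.H898.TSInv

open Cfsg.Lie Cfsg.Agent.Lib Cfsg.Agent.TwoESix.Base Cfsg.Agent.TwoESix.Coded Cfsg.Agent.TwoESix.Iso
  Cfsg.Agent.ChevalleyStructure.Elts Cfsg.Agent.H83.ChevInv Cfsg.Agent.H83.TwESix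
open Cfsg.Agent.ChevalleyStructure.SparseEng
open Cfsg.Agent.Nodes.RGDTwE6 (hp)

universe u

/-- the partial identity of rank `r` -/
def E (r : ℕ) : ℕ := F2Mat.one 78 % 2 ^ (78 * r)

theorem toMat_E {r : ℕ} : F2Mat.toMat 78 (E r) = Matrix.diagonal (fun i : Fin 78 => if (i : ℕ) < r then 1 else 0) := by
  ext i j
  rw [F2Mat.toMat_apply, E, Nat.testBit_mod_two_pow, Matrix.diagonal_apply]
  have h1 : F2Mat.bz ((F2Mat.one 78).testBit (78 * i + j)) = (1 : Matrix (Fin 78) (Fin 78) (ZMod 2)) i j := by
    rw [← F2Mat.toMat_apply, F2Mat.toMat_one]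
  by_cases hr : (i : ℕ) < r
  · have h2 : 78 * (i : ℕ) + j < 78 * r := by have := j.2; omega
    rw [decide_eq_true h2, Bool.true_and, h1, Matrix.one_apply, if_pos hr]
  · have h2 : ¬ 78 * (i : ℕ) + j < 78 * r := by omega
    rw [decide_eq_false h2, Bool.false_and, if_neg hr]
    by_cases hij : i = j <;> simp [hij, F2Mat.bz]

/-- the words -/
def ls : ℕ → List ℕ
  | 0 => [71]
  | 1 => [66, 68]
  | _ => [53, 68, 66]

/-- the ranks -/
def rk : ℕ → ℕ
  | 0 => 22
  | 1 => 32
  | _ => 38

/-- coded words -/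
def cw (k : ℕ) : List (ℕ × ℕ) := (ls k).map fun r => (r, 1)

theorem chk_act : ((List.range 3).all fun k => (cw k).all fun p => Nat.blt p.2 4 && actOk chevE6 p.1) = true := by
  (delta Cfsg.Agent.ChevalleyStructure.SparseEng.act Cfsg.Agent.TwoESix.Coded.actOk; rewrite [Cfsg.Agent.ChevFast.E6.chain, Cfsg.Agent.ChevFast.E6.coroot, Cfsg.Agent.ChevFast.E6.negA]; (try set_option simprocs false in simp -zeta only [Cfsg.Agent.ChevFast.E6.cartanR]); decide +kernel)

theorem chk_gen : ((List.range 3).all fun k => genOk (cw k) (TSInvData.m k)) = true := by (delta Cfsg.Agent.ChevalleyStructure.SparseEng.act Cfsg.Agent.TwoESix.Base.genOk Cfsg.Agent.TwoESix.Coded.actD Cfsg.Agent.TwoESix.Coded.actN Cfsg.Agent.TwoESix.Coded.actW; rewrite [Cfsg.Agent.ChevFast.E6.chain, Cfsg.Agent.ChevFast.E6.coroot, Cfsg.Agent.ChevFast.E6.negA]; (try set_option simprocs false in simp -zeta only [Cfsg.Agent.ChevFast.E6.cartanR]); decide +kernel)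

theorem chk_u : ((List.range 3).all fun k => Nat.beq (F2Mat.mul 78 (F2Mat.mul 78 (TSInvData.u k)
    (Nat.xor (TSInvData.m k) (F2Mat.one 78))) (TSInvData.w k)) (E (rk k))) = true := by decide +kernel

theorem chk_x : ((List.range 3).all fun k => Nat.beq (F2Mat.mul 78 (F2Mat.mul 78 (TSInvData.x k)
    (E (rk k))) (TSInvData.y k)) (Nat.xor (TSInvData.m k) (F2Mat.one 78))) = true := by decide +kernel


theorem toMat_xor (n a b : ℕ) : F2Mat.toMat n (Nat.xor a b) = F2Mat.toMat n a + F2Mat.toMat n b := by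
  ext i j
  rw [F2Mat.toMat_apply, Matrix.add_apply, F2Mat.toMat_apply, F2Mat.toMat_apply]
  have h : (Nat.xor a b).testBit (n * i + j) = (a.testBit (n * i + j) ^^ b.testBit (n * i + j)) := Nat.testBit_xor a b _
  rw [h]
  cases a.testBit (n * i + j) <;> cases b.testBit (n * i + j) <;> decide

variable {K : Type u} [Field K]

theorem rank_E (h2 : (2 : K) = 0) {r : ℕ} (hr : r ≤ 78) : ((F2Mat.toMat 78 (E r)).map (cst h2)).rank = r := by
  classical
  have h1 : (F2Mat.toMat 78 (E r)).map (cst h2) = Matrix.diagonal (fun i : Fin 78 => if (i : ℕ) < r then (1 : K) else 0) := by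
    rw [toMat_E]
    ext i j
    rw [Matrix.map_apply, Matrix.diagonal_apply, Matrix.diagonal_apply]
    by_cases hij : i = j
    · by_cases hi : (i : ℕ) < r <;> simp [hij]
    · simp [hij]
  rw [h1, Matrix.rank_diagonal]
  have h3 : Fintype.card {i : Fin 78 // (if (i : ℕ) < r then (1 : K) else 0) ≠ 0} =
      Fintype.card {i : Fin 78 // (i : ℕ) < r} := by
    apply Fintype.card_congr
    apply Equiv.subtypeEquivRight
    intro i
    by_cases hi : (i : ℕ) < r <;> simp [hi]
  rw [h3]
  have h4 : Fintype.card {i : Fin 78 // (i : ℕ) < r} = Fintype.card (Fin r) := by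
    apply Fintype.card_congr
    exact
      { toFun := fun i => ⟨i.1, i.2⟩
        invFun := fun i => ⟨⟨i, lt_of_lt_of_le i.2 hr⟩, i.2⟩
        left_inv := fun i => rfl
        right_inv := fun i => rfl }
  rw [h4, Fintype.card_fin]

theorem rank_code (h2 : (2 : K) = 0) {k : ℕ} (hk : k < 3) :
    ((F2Mat.toMat 78 (TSInvData.m k)).map (cst h2) - 1).rank = rk k := by
  have hmod : (F2Mat.toMat 78 (Nat.xor (TSInvData.m k) (F2Mat.one 78))).map (cst h2) =
      (F2Mat.toMat 78 (TSInvData.m k)).map (cst h2) - 1 := by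
    rw [toMat_xor, F2Mat.toMat_one]
    ext i j
    rw [Matrix.map_apply, Matrix.add_apply, map_add, Matrix.sub_apply, Matrix.map_apply]
    have h3 : ∀ x : K, x + x = 0 := fun x => by linear_combination x * h2
    have h4 : cst h2 ((1 : Matrix (Fin 78) (Fin 78) (ZMod 2)) i j) = (1 : Matrix (Fin 78) (Fin 78) K) i j := by
      rw [Matrix.one_apply, Matrix.one_apply]
      by_cases hij : i = j <;> simp [hij]
    rw [h4]
    linear_combination h3 ((1 : Matrix (Fin 78) (Fin 78) K) i j)
  have hr : rk k ≤ 78 := by interval_cases k <;> decide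
  have hu := Nat.eq_of_beq_eq_true (List.all_eq_true.1 chk_u k (List.mem_range.2 hk))
  have hx := Nat.eq_of_beq_eq_true (List.all_eq_true.1 chk_x k (List.mem_range.2 hk))
  have hu' := congrArg (fun a => (F2Mat.toMat 78 a).map (cst h2)) hu
  have hx' := congrArg (fun a => (F2Mat.toMat 78 a).map (cst h2)) hx
  simp only [F2Mat.toMat_mul, Matrix.map_mul] at hu' hx'
  rw [hmod] at hu' hx'
  apply le_antisymm
  · rw [← hx']
    calc _ ≤ _ := Matrix.rank_mul_le_left _ _
      _ ≤ _ := Matrix.rank_mul_le_right _ _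
      _ = rk k := rank_E h2 hr
  · rw [← rank_E h2 hr, ← hu']
    calc _ ≤ _ := Matrix.rank_mul_le_left _ _
      _ ≤ _ := Matrix.rank_mul_le_right _ _

theorem wordMat_cw (w : K) (k : ℕ) : chevE6.wordMat K ((cw k).map fun p => (p.1, cv w p.2)) =
    ((PX hp.inList K (ls k) : GL chevE6.Idx K) : Matrix chevE6.Idx chevE6.Idx K) := by
  have key : ∀ L : List ℕ, chevE6.wordMat K ((L.map fun r => (r, 1)).map fun p : ℕ × ℕ => (p.1, cv w p.2)) =
      ((PX hp.inList K L : GL chevE6.Idx K) : Matrix chevE6.Idx chevE6.Idx K) := by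
    intro L
    induction L with
    | nil => rfl
    | cons r L ih =>
      rw [PX_cons, Units.val_mul, ← ih]
      show (List.map _ _).prod = _
      rw [List.map_cons, List.map_cons, List.map_cons, List.prod_cons, coe_xG]
      show chevE6.x K r (cv w 1) * _ = _
      rw [cv_one]
      rfl
  exact key (ls k)

theorem rank_rep (h2 : (2 : K) = 0) {w : K} (hw : w * w = w + 1) {k : ℕ} (hk : k < 3) :
    (((PX hp.inList K (ls k) : GL chevE6.Idx K) : Matrix chevE6.Idx chevE6.Idx K) - 1).rank = rk k := by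
  have hl : ∀ p ∈ cw k, p.2 < 4 ∧ actOk chevE6 p.1 = true := by
    intro p hp
    have h3 := List.all_eq_true.1 (List.all_eq_true.1 chk_act k (List.mem_range.2 hk)) p hp
    rw [Bool.and_eq_true, Nat.blt_eq] at h3
    exact h3
  have hg := List.all_eq_true.1 chk_gen k (List.mem_range.2 hk)
  have h3 := word_mul_P h2 w hw (cw k) hl (TSInvData.m k) hg
  rw [wordMat_cw] at h3
  obtain ⟨Q, hPQ, hQP⟩ := exists_Q h2 w hw
  set A := ((PX hp.inList K (ls k) : GL chevE6.Idx K) : Matrix chevE6.Idx chevE6.Idx K)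
  set M := (F2Mat.toMat 78 (TSInvData.m k)).map (cst h2) with hM
  have h4 : (A - 1) * P w = P w * (M - 1) := by rw [Matrix.sub_mul, Matrix.mul_sub, h3, Matrix.one_mul, Matrix.mul_one]
  rw [← rank_code h2 hk, ← hM]
  apply le_antisymm
  · have h5 : A - 1 = P w * (M - 1) * Q := by rw [← h4, Matrix.mul_assoc, hPQ, Matrix.mul_one]
    rw [h5]
    exact (Matrix.rank_mul_le_left _ _).trans (Matrix.rank_mul_le_right _ _)
  · have h5 : M - 1 = Q * (A - 1) * P w := by rw [Matrix.mul_assoc, h4, ← Matrix.mul_assoc, hQP, Matrix.one_mul]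
    rw [h5]
    exact (Matrix.rank_mul_le_left _ _).trans (Matrix.rank_mul_le_right _ _)

theorem map_PX {k : Type*} [Field k] (f : K →+* k) (L : List ℕ) :
    Cfsg.Agent.GpExc.Field.glMap chevE6 f (PX hp.inList K L) = PX hp.inList k L := by
  induction L with
  | nil => rw [PX_nil, PX_nil, map_one]
  | cons r L ih => rw [PX_cons, PX_cons, map_mul, ih, Cfsg.Agent.GpExc.Field.glMap_xG, map_one]

/-- **The ranks of the involutions.** -/
theorem rank_inv {K : Type u} [Field K] [Fintype K] (hK : Fintype.card K = 4) {t : ↥(twistedE6 K 2)}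
    (ht : orderOf t = 2) {k : Type*} [Field k] (f : K →+* k) :
    ((((t : GL chevE6.Idx K) : Matrix chevE6.Idx chevE6.Idx K)).map f - 1).rank = 22 ∨
    ((((t : GL chevE6.Idx K) : Matrix chevE6.Idx chevE6.Idx K)).map f - 1).rank = 32 ∨
    ((((t : GL chevE6.Idx K) : Matrix chevE6.Idx chevE6.Idx K)).map f - 1).rank = 38 := by
  obtain ⟨h2, w, hw, -⟩ := exists_w K hK
  have : CharP K 2 := CharTwo.of_one_ne_zero_of_two_eq_zero one_ne_zero h2
  have htt : (t : GL chevE6.Idx K) * t = 1 := by
    have h3 := pow_orderOf_eq_one t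
    rw [ht, pow_two] at h3
    exact congrArg Subtype.val h3
  have hk2 : (2 : k) = 0 := by rw [← map_ofNat f 2, h2, map_zero]
  have hkw : f w * f w = f w + 1 := by rw [← map_mul, hw, map_add, map_one]
  have key : ∀ j < 3, ∀ g : GL chevE6.Idx K, g * (t : GL chevE6.Idx K) * g⁻¹ = PX hp.inList K (ls j) →
      ((((t : GL chevE6.Idx K) : Matrix chevE6.Idx chevE6.Idx K)).map f - 1).rank = rk j := by
    intro j hj g hg
    have h3 := congrArg (Cfsg.Agent.GpExc.Field.glMap chevE6 f) hg
    rw [map_PX, map_mul, map_mul, map_inv] at h3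
    set T := Cfsg.Agent.GpExc.Field.glMap chevE6 f (t : GL chevE6.Idx K) with hT
    set g' := Cfsg.Agent.GpExc.Field.glMap chevE6 f g with hg'
    have hT' : ((((t : GL chevE6.Idx K) : Matrix chevE6.Idx chevE6.Idx K)).map f) =
        (T : Matrix chevE6.Idx chevE6.Idx k) := by
      rw [hT, Cfsg.Agent.GpExc.Field.coe_glMap]
    rw [hT', ← rank_rep hk2 hkw hj, ← h3]
    have e1 : ((g' * T * g'⁻¹ : GL chevE6.Idx k) : Matrix chevE6.Idx chevE6.Idx k) - 1 =
        (g' : Matrix chevE6.Idx chevE6.Idx k) * ((T : Matrix chevE6.Idx chevE6.Idx k) - 1) *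
          ((g'⁻¹ : GL chevE6.Idx k) : Matrix chevE6.Idx chevE6.Idx k) := by
      rw [Matrix.mul_sub, Matrix.sub_mul, Matrix.mul_one, ← Units.val_mul, ← Units.val_mul, ← Units.val_mul,
        mul_inv_cancel, Units.val_one]
    have e2 : (T : Matrix chevE6.Idx chevE6.Idx k) - 1 =
        ((g'⁻¹ : GL chevE6.Idx k) : Matrix chevE6.Idx chevE6.Idx k) *
          (((g' * T * g'⁻¹ : GL chevE6.Idx k) : Matrix chevE6.Idx chevE6.Idx k) - 1) *
          (g' : Matrix chevE6.Idx chevE6.Idx k) := by
      rw [Matrix.mul_sub, Matrix.sub_mul, Matrix.mul_one, ← Units.val_mul, ← Units.val_mul, ← Units.val_mul]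
      have e3 : g'⁻¹ * (g' * T * g'⁻¹) * g' = T := by group
      rw [e3, inv_mul_cancel, Units.val_one]
    apply le_antisymm
    · conv_lhs => rw [e2]
      exact (Matrix.rank_mul_le_left _ _).trans (Matrix.rank_mul_le_right _ _)
    · conv_lhs => rw [e1]
      exact (Matrix.rank_mul_le_left _ _).trans (Matrix.rank_mul_le_right _ _)
  rcases exists_rep (q := 2) hK t.2 htt with h3 | ⟨R, hR, g, -, hg⟩
  · exfalso
    have h4 : t = 1 := Subtype.ext h3
    rw [h4, orderOf_one] at ht
    norm_num at ht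
  · simp only [reps, List.mem_cons, List.not_mem_nil, or_false] at hR
    rcases hR with rfl | rfl | rfl
    · exact Or.inl (key 0 (by norm_num) g hg)
    · exact Or.inr (Or.inl (key 1 (by norm_num) g hg))
    · exact Or.inr (Or.inr (key 2 (by norm_num) g hg))

end Cfsg.Agent.H898.TSInv
end

-- part: H898/TSNotL27
section
/-!
# `L₂(27)` is not a subgroup of `²E₆(2)` (S5741, task 992; helper898)
-/

set_option autoImplicit false

namespace Cfsg.Agent.H898.TSNotL27

open Cfsg Cfsg.Lie Cfsg.Agent.OrdDiv Cfsg.Agent.H944.TS Cfsg.Agent.H898.TSRank Module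
open scoped MatrixGroups

universe u

/-- elements of the centre of `SL₂` -/
theorem sq_of_center {F : Type*} [Field F] {g : SL(2, F)} (hg : g ∈ Subgroup.center SL(2, F)) : g ^ 2 = 1 := by
  rw [Matrix.SpecialLinearGroup.mem_center_iff] at hg
  obtain ⟨r, hr, h⟩ := hg
  rw [Fintype.card_fin] at hr
  apply Subtype.ext
  rw [Matrix.SpecialLinearGroup.coe_pow, ← h, ← map_pow, hr, map_one]
  rfl

theorem charTwo {K : Type*} [Field K] [Fintype K] (hK : Fintype.card K = 4) : CharP K 2 := by
  obtain ⟨p, hp⟩ := CharP.exists K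
  have hp2 : p ∣ 2 ^ 2 := by
    have h0 := FiniteField.cast_card_eq_zero K
    rw [hK] at h0
    exact (CharP.cast_eq_zero_iff K p (2 ^ 2)).1 (by exact_mod_cast h0)
  have hpp : p.Prime := (CharP.char_is_prime_or_zero K p).resolve_right (CharP.char_ne_zero_of_finite K p)
  have : p = 2 := (Nat.prime_dvd_prime_iff_eq hpp Nat.prime_two).1 (hpp.dvd_of_dvd_pow hp2)
  rwa [this] at hp

section rho

variable {K : Type u} [Field K] {ι G : Type*} [Fintype ι] [DecidableEq ι] [Group G] {k : Type*} [Field k] (f : K →+* k)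
  (ψ : G →* GL ι K)

/-- the representation over an extension field -/
noncomputable def rep : G →* End k (ι → k) :=
  ((Matrix.toLinAlgEquiv' : Matrix ι ι k ≃ₐ[k] End k (ι → k)) : Matrix ι ι k →* End k (ι → k)).comp
    ((f.mapMatrix : Matrix ι ι K →+* Matrix ι ι k).toMonoidHom.comp ((Units.coeHom _).comp ψ))

theorem rep_apply (g : G) : rep f ψ g = Matrix.toLin' ((ψ g : Matrix ι ι K).map f) := rfl

theorem rk_rep (g : G) : rk (rep f ψ g - 1) = (((ψ g : Matrix ι ι K)).map f - 1).rank := by
  rw [rep_apply]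
  unfold rk
  have : Matrix.toLin' ((ψ g : Matrix ι ι K).map f) - 1 = Matrix.toLin' ((ψ g : Matrix ι ι K).map f - 1) := by
    rw [map_sub, Matrix.toLin'_one]
    rfl
  rw [this, Matrix.rank, Matrix.toLin'_apply']

end rho

open Polynomial in
/-- multiplicities in the representation -/
theorem fx_of {K : Type u} [Field K] {G : Type*} [Group G] {k : Type*} [Field k] (h2k : (2 : k) = 0) (f : K →+* k)
    {ι : Type} [Fintype ι] [DecidableEq ι]
    (φ : G →* GL ι K) {N a b : ℕ} (hN : N % 2 = 1) {g : G} (hg : g ^ N = 1)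
    (h : Eig.CP ((φ g : GL ι K) : Matrix ι ι K) N a b) :
    fx (rep f φ g) = a ∧ ∀ ζ : k, ζ ^ N = 1 → ζ ≠ 1 → finrank k ((rep f φ g).eigenspace ζ) = b := by
  have h1 : ((φ g : GL ι K) : Matrix ι ι K) ^ N = 1 := by
    rw [← Units.val_pow_eq_pow_val, ← map_pow, hg, map_one, Units.val_one]
  have h3 : ((N : ℕ) : k) ≠ 0 := by
    intro h0
    obtain ⟨m, hm⟩ : ∃ m, N = 2 * m + 1 := ⟨N / 2, by omega⟩
    rw [hm] at h0
    push_cast at h0
    rw [h2k, zero_mul, zero_add] at h0
    exact one_ne_zero h0
  have h4 : ((φ g : GL ι K) : Matrix ι ι K).charpoly * (X - 1) ^ b =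
    (X - 1) ^ a * (X ^ N - 1) ^ b := h
  exact Cfsg.Agent.H898.TSMult.finrank_of f h3 h1 h4

/-- **`L₂(27)` is not a subgroup of `²E₆(2)`.** -/
theorem not_L27 {K : Type u} [Field K] [Fintype K] (hK : Fintype.card K = 4) : NotE K (.psl 2 27) := by
  classical
  rintro L ⟨F, iF, iF', hF, ⟨e⟩⟩
  have hch : CharP K 2 := charTwo hK
  set k := AlgebraicClosure K with hk
  let f : K →+* k := algebraMap K k
  have hkch : CharP k 2 := charP_of_injective_algebraMap f.injective 2
  have h2k : (2 : k) = 0 := by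
    have := CharP.cast_eq_zero k 2
    exact_mod_cast this
  have h3 := Cfsg.Agent.H898.TSL27.charThree hF
  let π : SL(2, F) →* Matrix.ProjectiveSpecialLinearGroup (Fin 2) F :=
    QuotientGroup.mk' (Subgroup.center SL(2, F))
  let ψ : SL(2, F) →* ↥(twistedE6 K 2) := L.subtype.comp (e.symm.toMonoidHom.comp π)
  have hψ : ∀ g, ψ g = 1 → g ∈ Subgroup.center SL(2, F) := by
    intro g hg
    have h4 : e.symm (π g) = 1 := Subtype.ext hg
    rw [MulEquiv.map_eq_one_iff] at h4
    exact (QuotientGroup.eq_one_iff g).1 h4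
  have hψ' : ∀ g, g ∈ Subgroup.center SL(2, F) → ψ g = 1 := by
    intro g hg
    show ((e.symm (π g) : ↥L) : ↥(twistedE6 K 2)) = 1
    have : π g = 1 := (QuotientGroup.eq_one_iff g).2 hg
    rw [this, map_one]
    rfl
  let φ : SL(2, F) →* GL chevE6.Idx K := (twistedE6 K 2).subtype.comp ψ
  have hone : (-1 : SL(2, F)) ∈ Subgroup.center SL(2, F) := by
    rw [Subgroup.mem_center_iff]
    intro g
    rw [mul_neg, neg_mul, mul_one, one_mul]
  have hneg : (1 : SL(2, F)) ≠ -1 := by
    intro h
    have h4 := congrArg (fun g : SL(2, F) => (g : Matrix (Fin 2) (Fin 2) F) 0 0) h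
    simp only [Matrix.SpecialLinearGroup.coe_neg, Matrix.SpecialLinearGroup.coe_one, Matrix.neg_apply,
      Matrix.one_apply_eq] at h4
    have : (1 : F) = 0 := by linear_combination h3 - h4
    exact one_ne_zero this
  -- the orders
  have hord : ∀ N : ℕ, N.Prime → N ≠ 2 → ∀ g : SL(2, F), g ^ N = 1 → g ≠ 1 → orderOf (ψ g) = N := by
    intro N hN hN2 g hg hne
    have : Fact N.Prime := ⟨hN⟩
    apply orderOf_eq_prime
    · rw [← map_pow, hg, map_one]
    · intro h4
      have h5 := sq_of_center (hψ g h4)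
      have h6 : orderOf g ∣ 2 := orderOf_dvd_of_pow_eq_one h5
      have h7 : orderOf g ∣ N := orderOf_dvd_of_pow_eq_one hg
      have h8 : orderOf g ∣ Nat.gcd 2 N := Nat.dvd_gcd h6 h7
      rw [(Nat.coprime_primes Nat.prime_two hN).2 hN2.symm, Nat.dvd_one, orderOf_eq_one_iff] at h8
      exact hne h8
  have hord' : ∀ N : ℕ, N.Prime → N ≠ 2 → ∀ g : SL(2, F), g ^ N = 1 → g ≠ 1 → orderOf (φ g) = N := by
    intro N hN hN2 g hg hne
    rw [← hord N hN hN2 g hg hne]
    exact orderOf_injective (twistedE6 K 2).subtype (Subgroup.subtype_injective _) (ψ g)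
  have : NeZero ((7 : ℕ) : k) := ⟨by
    intro h
    rw [CharP.cast_eq_zero_iff k 2] at h
    omega⟩
  obtain ⟨ζ, hζ⟩ : ∃ ζ : k, IsPrimitiveRoot ζ 7 := HasEnoughRootsOfUnity.exists_primitiveRoot k 7
  have hcard : Fintype.card chevE6.Idx = 78 := by decide +kernel
  have hfr : finrank k (chevE6.Idx → k) = 78 := by rw [finrank_fintype_fun_eq_card, hcard]
  refine Cfsg.Agent.H898.TSL27.false_of hF h2k (rep f φ) ?_ hζ hfr ?_ ?_ ?_
  · have : φ (-1) = 1 := by
      show ((ψ (-1) : ↥(twistedE6 K 2)) : GL chevE6.Idx K) = 1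
      rw [hψ' _ hone]
      rfl
    rw [rep_apply, this, Units.val_one]
    have h4 : (1 : Matrix chevE6.Idx chevE6.Idx K).map f = 1 := map_one f.mapMatrix
    rw [h4, Matrix.toLin'_one]
    rfl
  · intro g hg
    have ht : orderOf (ψ g) = 2 := by
      have : Fact (Nat.Prime 2) := ⟨Nat.prime_two⟩
      apply orderOf_eq_prime
      · rw [← map_pow, hg, hψ' _ hone]
      · intro h4
        exact hneg ((sq_of_center (hψ g h4)).symm.trans hg)
    have h4 := rk_sub_one (rep f φ g)
    rw [rk_rep, hfr] at h4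
    have h5 := Cfsg.Agent.H898.TSInv.rank_inv hK ht f
    have h6 : (((φ g : GL chevE6.Idx K) : Matrix chevE6.Idx chevE6.Idx K).map f - 1).rank =
      ((((ψ g : ↥(twistedE6 K 2)) : GL chevE6.Idx K) : Matrix chevE6.Idx chevE6.Idx K).map f - 1).rank := rfl
    rw [← h6] at h5
    omega
  · intro g hg hne
    obtain ⟨ab, hab, hcp⟩ := Eig.cp3 hK (ψ g).2 (hord' 3 Nat.prime_three (by norm_num) g hg hne)
    have hcp' : Eig.CP ((φ g : GL chevE6.Idx K) : Matrix chevE6.Idx chevE6.Idx K) 3 ab.1 ab.2 := hcp
    rw [(fx_of h2k f φ (by norm_num) hg hcp').1]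
    simp only [List.mem_cons, List.not_mem_nil, or_false] at hab
    rcases hab with h | h | h | h | h <;> rw [h] <;> simp
  · intro g hg hne
    obtain ⟨ab, hab, hcp⟩ := Eig.cp7 hK (ψ g).2 (hord' 7 (by norm_num) (by norm_num) g hg hne)
    have hcp' : Eig.CP ((φ g : GL chevE6.Idx K) : Matrix chevE6.Idx chevE6.Idx K) 7 ab.1 ab.2 := hcp
    obtain ⟨h4, h5⟩ := fx_of h2k f φ (by norm_num) hg hcp'
    rw [h4]
    simp only [List.mem_cons, List.not_mem_nil, or_false] at hab
    rcases hab with h | h | h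
    · right
      rw [h] at h5 ⊢
      refine ⟨rfl, fun i h0 h7 => ?_⟩
      rw [h5 (ζ ^ i)]
      · rw [← pow_mul, mul_comm, pow_mul, hζ.pow_eq_one, one_pow]
      · intro h8
        rw [hζ.pow_eq_one_iff_dvd] at h8
        exact absurd (Nat.le_of_dvd h0 h8) (by omega)
    · left; rw [h]
    · left; rw [h]; norm_num

end Cfsg.Agent.H898.TSNotL27
end

private theorem dce_a194f0e543f1 : _root_.True := by
  try have : _root_.True := by simp only [_root_.Cfsg.Agent.H898.TSInv.E.eq_1]
  exact _root_.True.intro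
end

-- part: H898/TSVW
section
prune_inst 0x714067446c6202000018008033203c22e60001b0000b0000c001024c07898c0aa0810e61b7a01307d27820452039402010100140420000000a00000001190080000000040040000cc60098000080000000000000000000000000000000000004000000000
set_option linter.all false
open scoped Cfsg.Agent.FastGrp

namespace Cfsg.Agent
section
open Cfsg.Agent.H944.Tab (dotN sumH invB hh)

private noncomputable def fS (x : ℕ) (f : ℕ → ℕ) : ℕ := Nat.rec (f 0) (fun n _ => f (Nat.succ n)) x

private noncomputable def zpS (B : ℕ) (r : List ℕ) : List ℕ → List ℕ :=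
  List.rec (fun c => c.map (Nat.mul B)) (fun a _ ih c => Nat.add a (Nat.mul B (c.headD 0)) :: ih c.tail) r

private noncomputable def colS (B : ℕ) (R : List (List ℕ)) : List ℕ := List.rec [] (fun r _ ih => zpS B r ih) R

private noncomputable def pkS (B : ℕ) (y : List ℕ) (R : List (List ℕ)) : ℕ :=
  List.rec 0 (fun r _ ih => dotN r y + B * ih) R

private noncomputable def dgS (h : ℕ → ℕ) (R : List (List ℕ)) : ℕ → ℕ :=
  List.rec (fun _ => 0) (fun _ _ ih D => Nat.add (fS (Nat.mod D 1048576) h) (ih (Nat.div D 1048576))) R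

private noncomputable def sumS (h : ℕ → ℕ) (R : List (List ℕ)) (y : List ℕ) : ℕ :=
  cond (Nat.blt (dotN (colS 1 R) y) 1048576) (dgS h R (dotN (colS 1048576 R) y)) (sumH h R y)

private def gS (N q t : ℕ) : ℕ := Nat.add (hh N t) (Nat.mul 2305843009213693950 (hh N (q * t)))

private noncomputable def invS (N q : ℕ) (R : List (List ℕ)) (y : List ℕ) : Bool :=
  cond (Nat.beq (Nat.mod (sumS (gS N q) R y) 2305843009213693951) 0)
    (Nat.beq (sumS (hh N) R y) (sumS (fun t => hh N (q * t)) R y)) false

private theorem zpS_dot (B : ℕ) (r : List ℕ) : ∀ c y : List ℕ, dotN (zpS B r c) y = dotN r y + B * dotN c y := by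
  have d0 : ∀ y, dotN [] y = 0 := fun y => by cases y <;> rfl
  have d1 : ∀ y, dotN y [] = 0 := fun y => by cases y <;> rfl
  have h0 : ∀ (B : ℕ) (c y : List ℕ), dotN (c.map (Nat.mul B)) y = B * dotN c y := fun B c => by
    induction c with
    | nil => exact fun y => (d0 y).trans (by rw [d0]; rfl)
    | cons b c ih =>
      intro y
      cases y with
      | nil => exact (d1 _).trans (by rw [d1]; rfl)
      | cons x y =>
        show B * b * x + dotN (c.map (Nat.mul B)) y = B * (b * x + dotN c y)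
        rw [ih, Nat.mul_add, Nat.mul_assoc]
  induction r with
  | nil => exact fun c y => (h0 B c y).trans (by rw [d0, Nat.zero_add])
  | cons a r ih =>
    intro c y
    cases y with
    | nil => rw [d1, d1, d1]; rfl
    | cons x y =>
      show (a + B * c.headD 0) * x + dotN (zpS B r c.tail) y = a * x + dotN r y + B * dotN c (x :: y)
      rw [ih]
      cases c with
      | nil =>
        show (a + B * 0) * x + (dotN r y + B * dotN [] y) = a * x + dotN r y + B * 0
        rw [d0, Nat.mul_zero, Nat.add_zero, Nat.add_zero, Nat.add_zero]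
      | cons b c =>
        show (a + B * b) * x + (dotN r y + B * dotN c y) = a * x + dotN r y + B * (b * x + dotN c y)
        rw [Nat.add_mul, Nat.mul_add, Nat.mul_assoc, Nat.add_add_add_comm]

private theorem sumS_eq : sumH = sumS := by
  have h2 : ∀ (B : ℕ) (y : List ℕ) (R : List (List ℕ)), dotN (colS B R) y = pkS B y R := fun B y R => by
    induction R with
    | nil => cases y <;> rfl
    | cons r R ih => exact (zpS_dot B r (colS B R) y).trans (congrArg (fun z => dotN r y + B * z) ih)
  have h3 : ∀ (h : ℕ → ℕ) (y : List ℕ) (R : List (List ℕ)), pkS 1 y R < 1048576 →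
      sumH h R y = dgS h R (pkS 1048576 y R) := fun h y R => by
    induction R with
    | nil => exact fun _ => rfl
    | cons r R ih =>
      intro hl
      have e0 : dotN r y + 1 * pkS 1 y R < 1048576 := hl
      have e1 : (dotN r y + 1048576 * pkS 1048576 y R) % 1048576 = dotN r y := by omega
      have e2 : (dotN r y + 1048576 * pkS 1048576 y R) / 1048576 = pkS 1048576 y R := by omega
      show h (dotN r y) + sumH h R y = fS ((dotN r y + 1048576 * pkS 1048576 y R) % 1048576) h +
        dgS h R ((dotN r y + 1048576 * pkS 1048576 y R) / 1048576)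
      rw [e1, e2, ih (by omega)]
      cases dotN r y <;> rfl
  funext h R y
  delta sumS
  rw [h2, h2]
  cases e : Nat.blt (pkS 1 y R) 1048576 with
  | false => rfl
  | true => exact h3 h y R (Nat.blt_eq.mp e)

private theorem invS_eq : invB = invS := by
  have h0 : ∀ (N q : ℕ) (y : List ℕ) (R : List (List ℕ)), sumH (gS N q) R y =
      sumH (hh N) R y + 2305843009213693950 * sumH (fun t => hh N (q * t)) R y := fun N q y R => by
    induction R with
    | nil => rfl
    | cons r R ih =>
      show hh N (dotN r y) + 2305843009213693950 * hh N (q * dotN r y) + sumH (gS N q) R y =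
        hh N (dotN r y) + sumH (hh N) R y + 2305843009213693950 * (hh N (q * dotN r y) + sumH (fun t => hh N (q * t)) R y)
      rw [ih, Nat.mul_add, Nat.add_add_add_comm]
  funext N q R y
  delta invS invB
  rw [← sumS_eq, h0]
  cases e : Nat.beq (sumH (hh N) R y) (sumH (fun t => hh N (q * t)) R y) with
  | false => exact (Bool.cond_self _ _).symm
  | true =>
    rw [Nat.eq_of_beq_eq_true e]
    generalize sumH (fun t => hh N (q * t)) R y = s
    rw [show Nat.mod (s + 2305843009213693950 * s) 2305843009213693951 = 0 from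
      (show (s + 2305843009213693950 * s) % 2305843009213693951 = 0 by omega)]
    rfl

end

private noncomputable def alS (n : ℕ) (p : ℕ → Bool) : Bool :=
  Nat.rec true (fun i r => @Bool.rec (fun _ => Bool) false r (p i)) n

private noncomputable def alcS (θ : List ℕ) : ℕ → (List ℕ → Bool) → Bool :=
  List.rec (fun _ p => p []) (fun t _ ih N p => alS (Nat.succ (Nat.div N t)) fun x =>
    ih (Nat.sub N (Nat.mul t x)) fun y => p (x :: y)) θ

private theorem alS_eq (k : ℕ) (p : ℕ → Bool) : (List.range k).all p = alS k p := by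
  induction k with
  | zero => rfl
  | succ k ih =>
    rw [List.range_succ, List.all_append, ih, List.all_cons, List.all_nil]
    show _ = @Bool.rec (fun _ => Bool) false (alS k p) (p k)
    cases p k <;> cases alS k p <;> rfl

private theorem alcS_eq : Cfsg.Agent.H944.Tab.allAlc = alcS := by
  funext θ
  induction θ with
  | nil => rfl
  | cons t θ ih =>
    funext N p
    show (List.range (N / t + 1)).all (fun x => Cfsg.Agent.H944.Tab.allAlc θ (N - t * x) fun y => p (x :: y)) = _
    rw [alS_eq, ih]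
    rfl
end Cfsg.Agent

-- part: H898/TSVTab
section
/-!
# The weights of the 27-dimensional module of `E₆`: tables (helper898)
-/

set_option autoImplicit false
set_option maxRecDepth 100000

namespace Cfsg.Agent.H898.TSVTab

open Cfsg.Lie Cfsg.Agent.ChevalleyStructure.CoxeterGeom Cfsg.Agent.ChevalleyStructure.CoxeterGeomTypes Cfsg.Agent.Nodes.RGDChev
open Cfsg.Agent.ChevalleyStructure.E6Min.Tables Cfsg.Agent.ChevalleyStructure.E6Min.Basic
  Cfsg.Agent.ChevalleyStructure.E6Min.Adjoint
open Cfsg.Agent.H944.Tab Cfsg.Agent.H944.Kac Cfsg.Agent.H944.TS.Eig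

/-- Three times the weights in terms of the simple roots, plus 455 (a multiple of 5, 7 and 13). -/
def WN : List (List ℕ) :=
  [[457, 455, 456, 455, 454, 453], [457, 455, 456, 455, 454, 456], [457, 455, 456, 455, 457, 456],
   [454, 455, 456, 455, 454, 453], [454, 455, 456, 455, 454, 456], [454, 455, 456, 455, 457, 456],
   [454, 455, 453, 455, 454, 453], [454, 455, 453, 455, 454, 456], [454, 455, 453, 455, 457, 456],
   [457, 458, 459, 461, 460, 459], [454, 452, 453, 452, 454, 456], [454, 455, 453, 452, 454, 456],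
   [457, 458, 459, 461, 460, 456], [454, 452, 453, 452, 454, 453], [454, 455, 453, 452, 454, 453],
   [457, 458, 459, 461, 457, 456], [454, 452, 453, 452, 451, 453], [454, 455, 453, 452, 451, 453],
   [451, 452, 450, 449, 451, 453], [454, 452, 450, 449, 451, 453], [454, 452, 453, 449, 451, 453],
   [454, 458, 456, 458, 457, 456], [457, 458, 456, 458, 457, 456], [457, 458, 459, 458, 457, 456],
   [454, 455, 456, 458, 457, 456], [457, 455, 456, 458, 457, 456], [457, 455, 459, 458, 457, 456]]

/-- Three times the weights in terms of the simple roots. -/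
def w3 (m i : ℕ) : ℤ := (((WN.getD m []).getD i 0 : ℕ) : ℤ) - 455

/-- index of the simple roots -/
def sI (i : ℕ) : ℕ := [56, 46, 42, 39, 37, 36].getD i 0

theorem sI_eq : ∀ i : Fin 6, chevE6.simple i = sI i := by decide +kernel

theorem sI_lt : ∀ i : Fin 6, sI i < 72 := by decide +kernel

theorem c1 : ∀ i : Fin 6, ∀ m : Fin 27, sgN (sI i) m = 0 ∨
    ∀ j : Fin 6, w3 m j - w3 (srN (sI i) m) j = if j = i then 3 else 0 := by
  decide +kernel

theorem c2 : ∀ j : Fin 6, ∑ m : Fin 27, w3 m j = 0 := by decide +kernel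

/-- one step down -/
def stp (m : ℕ) : ℕ :=
  if sgN 56 m ≠ 0 then srN 56 m else if sgN 46 m ≠ 0 then srN 46 m else if sgN 42 m ≠ 0 then srN 42 m
  else if sgN 39 m ≠ 0 then srN 39 m else if sgN 37 m ≠ 0 then srN 37 m else if sgN 36 m ≠ 0 then srN 36 m else m

theorem c3 : ∀ m : Fin 27, stp^[16] m = 18 := by decide +kernel

theorem stp_lt : ∀ m : Fin 27, stp m < 27 := by decide +kernel

/-- the simple reflection on the weights -/
def T (j : ℕ) (r : List ℤ) : List ℤ :=
  (List.range 6).map fun i => r.getD i 0 - if i = j then (∑ k : Fin 6, cartanOf chevE6 6 (Fin.ofNat 6 j) k * r.getD k 0) else 0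

/-- the table over the integers -/
def WZ : List (List ℤ) := WN.map fun r => (List.range 6).map fun i => ((r.getD i 0 : ℕ) : ℤ) - 455

theorem c4 : ∀ j : Fin 6, (WZ.map (T j)).Perm WZ := by decide +kernel

theorem c5 : (Finset.univ : Finset I27).val.map code = Multiset.range 27 := by decide +kernel

theorem opp6 : ∀ s : Fin 72, ∀ i : Fin 6, Cfsg.Agent.Nodes.RGDChev.vec chevE6 6 (71 - s) i =
    - Cfsg.Agent.Nodes.RGDChev.vec chevE6 6 s i := by decide +kernel

/-- number of the weights with the value `c` modulo `N` -/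
def cntW (N c : ℕ) (y : List ℕ) : ℕ := sumH (fun t => if t % N = c then 1 else 0) WN y

/-- the table of the values -/
def chkWT (N : ℕ) (L : List (List ℕ)) (y : List ℕ) : Bool :=
  L.any fun T => (List.range N).all fun c => Nat.beq (cntW N c y) (T.getD c 0)

/-- The check: the invariant vectors of the alcove have a value table in `L`. -/
def chkV (N : ℕ) (L : List (List ℕ)) : Bool :=
  allAlc th6 N fun y => bif invB N 2 R6 y then chkWT N L y else true

theorem v5 : chkV 5 [[7, 5, 5, 5, 5], [27, 0, 0, 0, 0]] = true := by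
  delta chkV chkWT cntW
  rw [invS_eq, sumS_eq, alcS_eq]
  decide +kernel

theorem v7 : chkV 7 [[3, 4, 4, 4, 4, 4, 4], [9, 3, 3, 3, 3, 3, 3], [0, 1, 1, 8, 1, 8, 8], [0, 8, 8, 1, 8, 1, 1],
    [27, 0, 0, 0, 0, 0, 0]] = true := by
  delta chkV chkWT cntW
  rw [invS_eq, sumS_eq, alcS_eq]
  decide +kernel

theorem v13 : chkV 13 [[3, 2, 2, 2, 2, 2, 2, 2, 2, 2, 2, 2, 2], [27, 0, 0, 0, 0, 0, 0, 0, 0, 0, 0, 0, 0]] = true := by
  delta chkV chkWT cntW
  rw [invS_eq, sumS_eq, alcS_eq]
  decide +kernel

end Cfsg.Agent.H898.TSVTab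
end

-- part: H898/TSVDiag
section
/-!
# The 27-dimensional module of `E₆`: matrices above diagonal elements (helper898)
-/

set_option autoImplicit false
set_option linter.unusedSectionVars false

namespace Cfsg.Agent.H898.TSVDiag

open Cfsg.Lie Matrix
open Cfsg.Agent.ChevalleyStructure.E6Min.Tables Cfsg.Agent.ChevalleyStructure.E6Min.Basic
  Cfsg.Agent.ChevalleyStructure.E6Min.Adjoint
open Cfsg.Agent.H898.TSVTab

/-! ### checks -/

private noncomputable def _root_.Cfsg.Agent.KOf920ca2.k0 : type_of% @Decidable.decide := @(fun x0 x1 => @Decidable.rec.{1} _ @(fun x2 => @Bool) @(fun x2 => @Bool.false) @(fun x2 => @Bool.true) @x1)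
private theorem _root_.Cfsg.Agent.KOf920ca2.e0 : @Decidable.decide = @_root_.Cfsg.Agent.KOf920ca2.k0 := by delta _root_.Cfsg.Agent.KOf920ca2.k0; rfl'
private noncomputable def _root_.Cfsg.Agent.KOf920ca2.k3 : type_of% @instDecidableOr := @(fun x0 x1 x2 x3 => @Decidable.rec.{1} _ @(fun x4 => @Decidable (@Or @x0 @x1)) @(fun x4 => @Decidable.rec.{1} _ @(fun x5 => @Decidable (@Or @x0 @x1)) @(fun x5 => @Decidable.isFalse _ (@instDecidableOr._proof_1 _ _ @x4 @x5)) @(fun x5 => @Decidable.isTrue _ (@Or.inr _ _ @x5)) @x3) @(fun x4 => @Decidable.isTrue _ (@Or.inl _ _ @x4)) @x2)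
private theorem _root_.Cfsg.Agent.KOf920ca2.e3 : @instDecidableOr = @_root_.Cfsg.Agent.KOf920ca2.k3 := by delta _root_.Cfsg.Agent.KOf920ca2.k3; rfl'
private noncomputable def _root_.Cfsg.Agent.KOf920ca2.k4 : type_of% @Nat.decEq := @(fun x0 x1 => @Bool.rec.{1} @(fun x2 => (@Eq.{1} _ (@Nat.beq @x0 @x1) @x2) → @Decidable (@Eq.{1} _ @x0 @x1)) @(fun x2 => @Decidable.isFalse _ (@Nat.ne_of_beq_eq_false _ _ @x2)) @(fun x2 => @Decidable.isTrue _ (@Nat.eq_of_beq_eq_true _ _ @x2)) (@Nat.beq @x0 @x1) (@Eq.refl.{1} _ (@Nat.beq @x0 @x1)))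
private theorem _root_.Cfsg.Agent.KOf920ca2.e4 : @Nat.decEq = @_root_.Cfsg.Agent.KOf920ca2.k4 := by delta _root_.Cfsg.Agent.KOf920ca2.k4; rfl'
private noncomputable def _root_.Cfsg.Agent.KOf920ca2.k5 : type_of% @Int.decEq := @(fun x0 x1 => @Int.rec.{1} @(fun x2 => @Decidable (@Eq.{1} _ @x2 @x1)) @(fun x2 => @Int.rec.{1} @(fun x3 => @Decidable (@Eq.{1} _ (@Int.ofNat @x2) @x3)) @(fun x3 => @Decidable.rec.{1} _ @(fun x4 => @Decidable (@Eq.{1} _ (@Int.ofNat @x2) (@Int.ofNat @x3))) @(fun x4 => @Decidable.isFalse _ (@Int.decEq._proof_2 @x2 @x3 @x4)) @(fun x4 => @Decidable.isTrue _ (@Int.decEq._proof_1 @x2 @x3 @x4)) (@Cfsg.Agent.KOf920ca2.k4 @x2 @x3)) @(fun x3 => @Decidable.isFalse _ (@Int.decEq._proof_3 @x2 @x3)) @x1) @(fun x2 => @Int.rec.{1} @(fun x3 => @Decidable (@Eq.{1} _ (@Int.negSucc @x2) @x3)) @(fun x3 => @Decidable.isFalse _ (@Int.decEq._proof_4 @x2 @x3)) @(fun x3 => @Decidable.rec.{1} _ @(fun x4 => @Decidable (@Eq.{1} _ (@Int.negSucc @x2) (@Int.negSucc @x3))) @(fun x4 => @Decidable.isFalse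 _ (@Int.decEq._proof_6 @x2 @x3 @x4)) @(fun x4 => @Decidable.isTrue _ (@Int.decEq._proof_5 @x2 @x3 @x4)) (@Cfsg.Agent.KOf920ca2.k4 @x2 @x3)) @x1) @x0)
private theorem _root_.Cfsg.Agent.KOf920ca2.e5 : @Int.decEq = @_root_.Cfsg.Agent.KOf920ca2.k5 := by delta _root_.Cfsg.Agent.KOf920ca2.k5; rewrite [← Cfsg.Agent.KOf920ca2.e4]; rfl'
private noncomputable def _root_.Cfsg.Agent.KOf920ca2.k6 : type_of% @Int.instDecidableEq := @Cfsg.Agent.KOf920ca2.k5
private theorem _root_.Cfsg.Agent.KOf920ca2.e6 : @Int.instDecidableEq = @_root_.Cfsg.Agent.KOf920ca2.k6 := by delta _root_.Cfsg.Agent.KOf920ca2.k6; rewrite [← Cfsg.Agent.KOf920ca2.e5]; rfl'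
private noncomputable def _root_.Cfsg.Agent.KOf920ca2.oLe.{ku} (α : Sort ku) (a b : Nat) (f t : α) : α := @Decidable.rec (@LE.le Nat instLENat a b) (fun _ => α) (fun _ => f) (fun _ => t) (Nat.decLe a b)
private noncomputable def _root_.Cfsg.Agent.KOf920ca2.k7.{ku} (α : Sort ku) (a b : Nat) (f t : α) : α := @Bool.rec (fun _ => α) f t (Nat.ble a b)
private theorem _root_.Cfsg.Agent.KOf920ca2.e7.{ku} : @_root_.Cfsg.Agent.KOf920ca2.oLe.{ku} = @_root_.Cfsg.Agent.KOf920ca2.k7.{ku} := funext fun α => funext fun a => funext fun b => funext fun f => funext fun t => by delta _root_.Cfsg.Agent.KOf920ca2.oLe _root_.Cfsg.Agent.KOf920ca2.k7; cases h : Nat.ble a b <;> cases Nat.decLe a b <;> rename_i g <;> first | rfl | exact absurd (h.symm.trans (Nat.ble_eq_true_of_le g)) Bool.false_ne_true | exact absurd (Nat.le_of_ble_eq_true h) g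
private noncomputable def _root_.Cfsg.Agent.KOf920ca2.k8 : (by first | exact type_of% @Cfsg.Agent.ChevalleyStructure.E6Min.Tables.ent | exact Unit : Sort _) := by first | (refine @Subtype.val _ (fun g => @Cfsg.Agent.ChevalleyStructure.E6Min.Tables.ent = @g) (@Subtype.mk _ _ (@(fun x0 x1 => @Nat.land (@Nat.shiftRight @Cfsg.Agent.ChevalleyStructure.E6Min.Tables.TR (@Nat.mul (nat_lit 7) (@Nat.add (@Nat.mul (nat_lit 27) @x0) @x1))) (nat_lit 127))) ?_); (try delta Cfsg.Agent.ChevalleyStructure.E6Min.Tables.ent); (try generalize @Cfsg.Agent.ChevalleyStructure.E6Min.Tables.TR = g0); rfl') | exact @Cfsg.Agent.ChevalleyStructure.E6Min.Tables.ent | exact ()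
private theorem _root_.Cfsg.Agent.KOf920ca2.e8 : (by first | exact @Cfsg.Agent.ChevalleyStructure.E6Min.Tables.ent = @_root_.Cfsg.Agent.KOf920ca2.k8 | exact True : Prop) := by first | (delta _root_.Cfsg.Agent.KOf920ca2.k8; exact @Subtype.property _ (fun g => @Cfsg.Agent.ChevalleyStructure.E6Min.Tables.ent = @g) _) | rfl | trivial
private noncomputable def _root_.Cfsg.Agent.KOf920ca2.k9 : (by first | exact type_of% @Cfsg.Agent.ChevalleyStructure.E6Min.Tables.sgN | exact Unit : Sort _) := by first | (refine @Subtype.val _ (fun g => @Cfsg.Agent.ChevalleyStructure.E6Min.Tables.sgN = @g) (@Subtype.mk _ _ (@(fun x0 x1 => @Cfsg.Agent.KOf920ca2.k7.{1} ℤ (@Nat.succ (@Cfsg.Agent.KOf920ca2.k8 @x0 @x1)) (nat_lit 32) (@Cfsg.Agent.KOf920ca2.k7.{1} ℤ (@Nat.succ (@Cfsg.Agent.KOf920ca2.k8 @x0 @x1)) (nat_lit 64) (@Nat.rec.{1} @(fun x2 => ℤ) (@Int.ofNat (nat_lit 0)) @(fun x2 x3 => @Int.negSucc @x2) (nat_lit 1)) (@Int.ofNat (nat_lit 1))) (@Int.ofNat (nat_lit 0)))) ?_); rewrite [← Cfsg.Agent.KOf920ca2.e8, ← Cfsg.Agent.KOf920ca2.e7.{1}];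 (try delta Cfsg.Agent.ChevalleyStructure.E6Min.Tables.sgN); (try generalize @Cfsg.Agent.ChevalleyStructure.E6Min.Tables.ent = g0); rfl') | exact @Cfsg.Agent.ChevalleyStructure.E6Min.Tables.sgN | exact ()
private theorem _root_.Cfsg.Agent.KOf920ca2.e9 : (by first | exact @Cfsg.Agent.ChevalleyStructure.E6Min.Tables.sgN = @_root_.Cfsg.Agent.KOf920ca2.k9 | exact True : Prop) := by first | (delta _root_.Cfsg.Agent.KOf920ca2.k9; exact @Subtype.property _ (fun g => @Cfsg.Agent.ChevalleyStructure.E6Min.Tables.sgN = @g) _) | rfl | trivial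
private theorem _root_.Cfsg.Agent.KOf920ca2.e10.{ku, kv} {α : Type kv} {M : List α → Sort ku} (φ : ∀ l, M l) {z : M List.nil} {s : ∀ a l, M l → M (List.cons a l)} (h0 : φ List.nil = z) (hs : ∀ a l, φ (List.cons a l) = s a l (φ l)) (l : List α) : φ l = @List.rec α M z s l := List.rec h0 (fun a l ih => (hs a l).trans (congrArg (s a l) ih)) l
private noncomputable def _root_.Cfsg.Agent.KOf920ca2.k18 : type_of% @instDecidableEqFin := @(fun x0 x1 x2 => @Decidable.rec.{1} _ @(fun x3 => @Decidable (@Eq.{1} _ @x1 @x2)) @(fun x3 => @Decidable.isFalse _ (@instDecidableEqFin._proof_1 @x0 @x1 @x2 @x3)) @(fun x3 => @Decidable.isTrue _ (@Fin.eq_of_val_eq _ _ _ @x3)) (@Cfsg.Agent.KOf920ca2.k4 (@Fin.val _ @x1) (@Fin.val _ @x2)))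
private theorem _root_.Cfsg.Agent.KOf920ca2.e18 : @instDecidableEqFin = @_root_.Cfsg.Agent.KOf920ca2.k18 := by delta _root_.Cfsg.Agent.KOf920ca2.k18; rewrite [← Cfsg.Agent.KOf920ca2.e4]; rfl'
private theorem _root_.Cfsg.Agent.KOf920ca2.e25.{ku} {M : Nat → Sort ku} (φ : ∀ n, M n) {z : M Nat.zero} {s : ∀ n, M n → M (Nat.succ n)} (h0 : φ Nat.zero = z) (hs : ∀ n, φ (Nat.succ n) = s n (φ n)) (n : Nat) : φ n = @Nat.rec M z s n := Nat.rec h0 (fun n ih => (hs n).trans (congrArg (s n) ih)) n
private noncomputable def _root_.Cfsg.Agent.KOf920ca2.k32 : type_of% @Bool.decEq := @(fun x0 x1 => @Bool.rec.{1} @(fun x2 => @Decidable (@Eq.{1} _ @x2 @x1)) (@Bool.rec.{1} @(fun x2 => @Decidable (@Eq.{1} _ @Bool.false @x2)) (@Decidable.isTrue _ (@rfl.{1} _ _)) (@Decidable.isFalse _ @(fun x2 => @Bool.noConfusion.{0} _ _ _ @x2)) @x1) (@Bool.rec.{1} @(fun x2 => @Decidable (@Eq.{1} _ @Bool.true @x2)) (@Decidable.isFalse _ @(fun x2 => @Bool.noConfusion.{0} _ _ _ @x2)) (@Decidable.isTrue _ (@rfl.{1} _ _)) @x1) @x0)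
private theorem _root_.Cfsg.Agent.KOf920ca2.e32 : @Bool.decEq = @_root_.Cfsg.Agent.KOf920ca2.k32 := by delta _root_.Cfsg.Agent.KOf920ca2.k32; rfl'
private noncomputable def _root_.Cfsg.Agent.KOf920ca2.k45 : type_of% @Nat.decLe := @(fun x0 x1 => @Decidable.rec.{1} _ @(fun x2 => @Decidable (@LE.le.{0} _ _ @x0 @x1)) @(fun x2 => @Decidable.isFalse _ (@Nat.not_le_of_not_ble_eq_true _ _ @x2)) @(fun x2 => @Decidable.isTrue _ (@Nat.le_of_ble_eq_true _ _ @x2)) (@Cfsg.Agent.KOf920ca2.k32 (@Nat.ble @x0 @x1) @Bool.true))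
private theorem _root_.Cfsg.Agent.KOf920ca2.e45 : @Nat.decLe = @_root_.Cfsg.Agent.KOf920ca2.k45 := by delta _root_.Cfsg.Agent.KOf920ca2.k45; rewrite [← Cfsg.Agent.KOf920ca2.e32]; rfl'
private noncomputable def _root_.Cfsg.Agent.KOf920ca2.k52 : type_of% @instDecidableAnd := @(fun x0 x1 x2 x3 => @Decidable.rec.{1} _ @(fun x4 => @Decidable (@And @x0 @x1)) @(fun x4 => @Decidable.isFalse _ (@instDecidableAnd._proof_2 _ _ @x4)) @(fun x4 => @Decidable.rec.{1} _ @(fun x5 => @Decidable (@And @x0 @x1)) @(fun x5 => @Decidable.isFalse _ (@instDecidableAnd._proof_1 _ _ @x5)) @(fun x5 => @Decidable.isTrue _ (@And.intro _ _ @x4 @x5)) @x3) @x2)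
private theorem _root_.Cfsg.Agent.KOf920ca2.e52 : @instDecidableAnd = @_root_.Cfsg.Agent.KOf920ca2.k52 := by delta _root_.Cfsg.Agent.KOf920ca2.k52; rfl'
private noncomputable def _root_.Cfsg.Agent.KOf920ca2.k70.{ku0, ku1} : type_of% @Quot.rec.{ku0, ku1} := @(fun x0 x1 x2 x3 x4 x5 => @Eq.rec.{ku1, ku0} (@Quot.{ku0} _ @x1) (@PSigma.fst.{ku0, ku1} _ _ (@Quot.lift.{ku0, (max (max 1 ku1) ku0)} _ _ _ (@Quot.indep.{ku0, ku1} _ _ _ @x3) (@Quot.indepCoherent.{ku0, ku1} _ _ _ @x3 @x4) @x5)) @(fun x6 x7 => @x2 @x6) (@PSigma.snd.{ku0, ku1} _ _ (@Quot.lift.{ku0, (max (max 1 ku1) ku0)} _ _ _ (@Quot.indep.{ku0, ku1} _ _ _ @x3) (@Quot.indepCoherent.{ku0, ku1} _ _ _ @x3 @x4) @x5)) @x5 (@Quot.liftIndepPr1.{ku0, ku1} _ _ _ @x3 @x4 @x5))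
private theorem _root_.Cfsg.Agent.KOf920ca2.e70.{ku0, ku1} : @Quot.rec.{ku0, ku1} = @_root_.Cfsg.Agent.KOf920ca2.k70.{ku0, ku1} := by delta _root_.Cfsg.Agent.KOf920ca2.k70; rfl'
private noncomputable def _root_.Cfsg.Agent.KOf920ca2.k71.{ku0, ku1} : type_of% @Quot.recOnSubsingleton.{ku0, ku1} := @(fun x0 x1 x2 x3 x4 x5 => @Cfsg.Agent.KOf920ca2.k70.{ku0, ku1} _ _ @(fun x6 => @x2 @x6) @(fun x6 => @x5 @x6) (@Quot.recOnSubsingleton._proof_1.{ku1, ku0} _ _ _ _ @x5) @x4)
private theorem _root_.Cfsg.Agent.KOf920ca2.e71.{ku0, ku1} : @Quot.recOnSubsingleton.{ku0, ku1} = @_root_.Cfsg.Agent.KOf920ca2.k71.{ku0, ku1} := by delta _root_.Cfsg.Agent.KOf920ca2.k71; rewrite [← Cfsg.Agent.KOf920ca2.e70.{ku0, ku1}]; rfl'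
private noncomputable def _root_.Cfsg.Agent.KOf920ca2.k72.{ku0} : type_of% @List.decidableBAll.{ku0} := @(fun x0 x1 x2 x3 => @List.rec.{1, ku0} @x0 @(fun x4 => @Decidable ((x5 : @x0) → (@Membership.mem.{ku0, ku0} _ _ _ @x4 @x5) → @x1 @x5)) (@Decidable.isTrue _ (@List.decidableBAll._proof_1.{ku0} _ @x1)) @(fun x4 x5 x6 => @Decidable.rec.{1} _ @(fun x7 => @Decidable ((x8 : @x0) → (@Membership.mem.{ku0, ku0} _ _ _ (@x4 :: @x5) @x8) → @x1 @x8)) @(fun x7 => @Decidable.isFalse _ (@List.decidableBAll._proof_4.{ku0} _ @x1 @x4 @x5 @x7)) @(fun x7 => @Decidable.rec.{1} _ @(fun x8 => @Decidable ((x9 : @x0) → (@Membership.mem.{ku0, ku0} _ _ _ (@x4 :: @x5) @x9) → @x1 @x9)) @(fun x8 => @Decidable.isFalse _ (@List.decidableBAll._proof_3.{ku0} _ @x1 @x4 @x5 @x8)) @(fun x8 => @Decidable.isTrue _ (@List.decidableBAll._proof_2.{ku0} _ @x1 @x4 @x5 @x7 @x8)) @x6) (@x2 @x4)) @x3)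
private theorem _root_.Cfsg.Agent.KOf920ca2.e72.{ku0} : @List.decidableBAll.{ku0} = @_root_.Cfsg.Agent.KOf920ca2.k72.{ku0} := by delta _root_.Cfsg.Agent.KOf920ca2.k72; funext a0 a1 a2 a3; refine (_root_.Cfsg.Agent.KOf920ca2.e10 (fun a3 => @List.decidableBAll.{ku0} a0 a1 a2 a3) ?_ (fun c0 c1 => ?_) a3 :) <;> (rfl')
private noncomputable def _root_.Cfsg.Agent.KOf920ca2.k73.{ku0} : type_of% @Multiset.decidableForallMultiset.{ku0} := @(fun (x0 : Sort (ku0+1)) (x1 : @Multiset.{ku0} @x0) (x2 : (x0 → Prop)) (x3 : ((x3 : x0) → @Decidable (@x2 @x3))) => @Cfsg.Agent.KOf920ca2.k71.{(ku0+1), 1} (@List.{ku0} @x0) (@Setoid.r.{(ku0+1)} (@List.{ku0} @x0) (@List.isSetoid.{ku0} @x0)) @(fun (x4 : @Quotient.{(ku0+1)} (@List.{ku0} @x0) (@List.isSetoid.{ku0} @x0)) => @Decidable ((x5 : x0) → ((@Membership.mem.{ku0, ku0} @x0 (@Multiset.{ku0} @x0) (@Multiset.instMembership.{ku0} @x0) @x4 @x5) → @x2 @x5))) (@Multiset.decidableForallMultiset._proof_2.{ku0} @x0 @x2) @x1 @(fun (x4 : @List.{ku0} @x0) => @Decidable.rec.{1}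 ((x5 : x0) → ((@Membership.mem.{ku0, ku0} @x0 (@List.{ku0} @x0) (@List.instMembership.{ku0} @x0) @x4 @x5) → @x2 @x5)) @(fun (x5 : @Decidable ((x5 : x0) → ((@Membership.mem.{ku0, ku0} @x0 (@List.{ku0} @x0) (@List.instMembership.{ku0} @x0) @x4 @x5) → @x2 @x5))) => @Decidable ((x6 : x0) → ((@Membership.mem.{ku0, ku0} @x0 (@Multiset.{ku0} @x0) (@Multiset.instMembership.{ku0} @x0) (@Quotient.mk.{(ku0+1)} (@List.{ku0} @x0) (@List.isSetoid.{ku0} @x0) @x4) @x6) → @x2 @x6))) @(fun (x5 : @Not ((x5 : x0) → ((@Membership.mem.{ku0, ku0} @x0 (@List.{ku0} @x0) (@List.instMembership.{ku0} @x0) @x4 @x5) → @x2 @x5))) => @Decidable.isFalse ((x6 : x0) → ((@Membership.mem.{ku0, ku0} @x0 (@Multiset.{ku0} @x0) (@Multiset.instMembership.{ku0} @x0) (@Quotient.mk.{(ku0+1)} (@List.{ku0} @x0) (@List.isSetoid.{ku0} @x0) @x4) @x6) → @x2 @x6)) (@decidable_of_decidable_of_iff._proof_1 ((x6 : x0) → ((@Membership.mem.{ku0, ku0} @x0 (@List.{ku0} @x0) (@List.instMembership.{ku0} @x0) @x4 @x6) → @x2 @x6)) ((x6 : x0) → ((@Membership.mem.{ku0,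 ku0} @x0 (@Multiset.{ku0} @x0) (@Multiset.instMembership.{ku0} @x0) (@Quotient.mk.{(ku0+1)} (@List.{ku0} @x0) (@List.isSetoid.{ku0} @x0) @x4) @x6) → @x2 @x6)) (@Multiset.decidableForallMultiset._proof_1.{ku0} @x0 @x2 @x4) @x5)) @(fun (x5 : ((x5 : x0) → ((@Membership.mem.{ku0, ku0} @x0 (@List.{ku0} @x0) (@List.instMembership.{ku0} @x0) @x4 @x5) → @x2 @x5))) => @Decidable.isTrue ((x6 : x0) → ((@Membership.mem.{ku0, ku0} @x0 (@Multiset.{ku0} @x0) (@Multiset.instMembership.{ku0} @x0) (@Quotient.mk.{(ku0+1)} (@List.{ku0} @x0) (@List.isSetoid.{ku0} @x0) @x4) @x6) → @x2 @x6)) (@Iff.mp ((x6 : x0) → ((@Membership.mem.{ku0, ku0} @x0 (@List.{ku0} @x0) (@List.instMembership.{ku0} @x0) @x4 @x6) → @x2 @x6)) ((x6 : x0) → ((@Membership.mem.{ku0, ku0} @x0 (@Multiset.{ku0} @x0) (@Multiset.instMembership.{ku0} @x0) (@Quotient.mk.{(ku0+1)} (@List.{ku0} @x0) (@List.isSetoid.{ku0} @x0) @x4) @x6) → @x2 @x6)) (@Multiset.decidableForallMultiset._proof_1.{ku0} @x0 @x2 @x4) @x5)) (@Cfsg.Agent.KOf920ca2.k72.{ku0} @x0 @x2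 @x3 @x4)))
private theorem _root_.Cfsg.Agent.KOf920ca2.e73.{ku0} : @Multiset.decidableForallMultiset.{ku0} = @_root_.Cfsg.Agent.KOf920ca2.k73.{ku0} := by delta _root_.Cfsg.Agent.KOf920ca2.k73; rewrite [← Cfsg.Agent.KOf920ca2.e72.{ku0}, ← Cfsg.Agent.KOf920ca2.e71.{(ku0+1), 1}]; rfl'
private noncomputable def _root_.Cfsg.Agent.KOf920ca2.k77.{ku0} : type_of% @Multiset.decidableDforallMultiset.{ku0} := @(fun x0 x1 x2 x3 => @Decidable.rec.{1} _ @(fun x4 => @Decidable ((x5 : @x0) → (x6 : @Membership.mem.{ku0, ku0} _ _ _ @x1 @x5) → @x2 @x5 @x6)) @(fun x4 => @Decidable.isFalse _ (@decidable_of_decidable_of_iff._proof_1 _ _ (@Multiset.decidableDforallMultiset._proof_2.{ku0} _ _ _) @x4)) @(fun x4 => @Decidable.isTrue _ (@Iff.mp _ _ (@Multiset.decidableDforallMultiset._proof_2.{ku0} _ _ _) @x4)) (@Cfsg.Agent.KOf920ca2.k73.{ku0} _ _ @(fun x4 => @x2 (@Subtype.val.{(ku0+1)} _ @(fun x5 => @Membership.mem.{ku0, ku0} _ _ _ @x1 @x5) @x4) (@Multiset.decidableDforallMultiset._proof_1.{ku0} _ _ @x4)) @(fun x4 =>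 @x3 (@Subtype.val.{(ku0+1)} _ @(fun x5 => @Membership.mem.{ku0, ku0} _ _ _ @x1 @x5) @x4) (@Multiset.decidableDforallMultiset._proof_1.{ku0} _ _ @x4))))
private theorem _root_.Cfsg.Agent.KOf920ca2.e77.{ku0} : @Multiset.decidableDforallMultiset.{ku0} = @_root_.Cfsg.Agent.KOf920ca2.k77.{ku0} := by delta _root_.Cfsg.Agent.KOf920ca2.k77; rewrite [← Cfsg.Agent.KOf920ca2.e73.{ku0}]; rfl'
private noncomputable def _root_.Cfsg.Agent.KOf920ca2.k78.{ku0} : type_of% @Finset.decidableDforallFinset.{ku0} := @(fun x0 x1 x2 x3 => @Cfsg.Agent.KOf920ca2.k77.{ku0} _ _ _ @x3)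
private theorem _root_.Cfsg.Agent.KOf920ca2.e78.{ku0} : @Finset.decidableDforallFinset.{ku0} = @_root_.Cfsg.Agent.KOf920ca2.k78.{ku0} := by delta _root_.Cfsg.Agent.KOf920ca2.k78; rewrite [← Cfsg.Agent.KOf920ca2.e77.{ku0}]; rfl'
private noncomputable def _root_.Cfsg.Agent.KOf920ca2.k79.{ku0} : type_of% @Fintype.decidableForallFintype.{ku0} := @(fun x0 x1 x2 x3 => @Decidable.rec.{1} _ @(fun x4 => @Decidable ((x5 : @x0) → @x1 @x5)) @(fun x4 => @Decidable.isFalse _ (@decidable_of_decidable_of_iff._proof_1 _ _ (@Fintype.decidableForallFintype._proof_1.{ku0} _ _ _) @x4)) @(fun x4 => @Decidable.isTrue _ (@Iff.mp _ _ (@Fintype.decidableForallFintype._proof_1.{ku0} _ _ _) @x4)) (@Cfsg.Agent.KOf920ca2.k78.{ku0} _ _ @(fun x4 x5 => @x1 @x4) @(fun x4 x5 => @x2 @x4)))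
private theorem _root_.Cfsg.Agent.KOf920ca2.e79.{ku0} : @Fintype.decidableForallFintype.{ku0} = @_root_.Cfsg.Agent.KOf920ca2.k79.{ku0} := by delta _root_.Cfsg.Agent.KOf920ca2.k79; rewrite [← Cfsg.Agent.KOf920ca2.e78.{ku0}]; rfl'
private noncomputable def _root_.Cfsg.Agent.KOf920ca2.k80 : type_of% @forall_prop_decidable := @(fun x0 x1 x2 x3 => @Decidable.rec.{1} _ @(fun x4 => @Decidable ((x5 : @x0) → @x1 @x5)) @(fun x4 => @Decidable.isTrue _ (@forall_prop_decidable._proof_2 _ @x1 @x4)) @(fun x4 => @Decidable.rec.{1} _ @(fun x5 => @Decidable ((x6 : @x0) → @x1 @x6)) @(fun x5 => @Decidable.isFalse _ (@decidable_of_decidable_of_iff._proof_1 _ _ (@forall_prop_decidable._proof_1 _ @x1 @x4) @x5)) @(fun x5 => @Decidable.isTrue _ (@Iff.mp _ _ (@forall_prop_decidable._proof_1 _ @x1 @x4) @x5)) (@x3 @x4)) @x2)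
private theorem _root_.Cfsg.Agent.KOf920ca2.e80 : @forall_prop_decidable = @_root_.Cfsg.Agent.KOf920ca2.k80 := by delta _root_.Cfsg.Agent.KOf920ca2.k80; rfl'
private noncomputable def _root_.Cfsg.Agent.KOf920ca2.k81 : type_of% @instDecidableNot := @(fun x0 x1 => @Decidable.rec.{1} _ @(fun x2 => @Decidable (¬ @x0)) @(fun x2 => @Decidable.isTrue _ @x2) @(fun x2 => @Decidable.isFalse _ (@absurd.{0} _ _ @x2)) @x1)
private theorem _root_.Cfsg.Agent.KOf920ca2.e81 : @instDecidableNot = @_root_.Cfsg.Agent.KOf920ca2.k81 := by delta _root_.Cfsg.Agent.KOf920ca2.k81; rfl'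
private noncomputable def _root_.Cfsg.Agent.KOf920ca2.k82.{ku0, ku1} : type_of% @instDecidableEqProd.{ku0, ku1} := @(fun x0 x1 x2 x3 x4 x5 => @Prod.rec.{1, ku0, ku1} @x0 @x1 @(fun x6 => @Decidable (@Eq.{(max (ku1+1) (ku0+1))} _ @x6 @x5)) @(fun x6 x7 => @Prod.rec.{1, ku0, ku1} @x0 @x1 @(fun x8 => @Decidable (@Eq.{(max (ku1+1) (ku0+1))} _ ((@x6, @x7)) @x8)) @(fun x8 x9 => @Decidable.rec.{1} _ @(fun x10 => @Decidable (@Eq.{(max (ku1+1) (ku0+1))} _ ((@x6, @x7)) ((@x8, @x9)))) @(fun x10 => @Decidable.isFalse _ (@instDecidableEqProd._proof_3.{ku1, ku0} _ _ @x6 @x7 @x8 @x9 @x10)) @(fun x10 => @Decidable.rec.{1} _ @(fun x11 => @Decidable (@Eq.{(max (ku1+1) (ku0+1))} _ ((@x6, @x7)) ((@x8, @x9)))) @(fun x11 => @Decidable.isFalse _ (@instDecidableEqProd._proof_2.{ku1, ku0} _ _ @x6 @x7 @x8 @x9 @x11)) @(fun x11 => @Decidable.isTrue _ (@instDecidableEqProd._proof_1.{ku1, ku0} _ _ @x6 @x7 @x8 @x9 @x10 @x11)) (@x3 @x7 @x9)) (@x2 @x6 @x8)) @x5) @x4)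
private theorem _root_.Cfsg.Agent.KOf920ca2.e82.{ku0, ku1} : @instDecidableEqProd.{ku0, ku1} = @_root_.Cfsg.Agent.KOf920ca2.k82.{ku0, ku1} := by delta _root_.Cfsg.Agent.KOf920ca2.k82; rfl'
private noncomputable def _root_.Cfsg.Agent.KOf920ca2.k83 : type_of% @Nat.decidableExistsLT := @(fun x0 x1 x2 => @Nat.rec.{1} @(fun x3 => @Decidable (@_root_.Exists.{1} _ @(fun x4 => @And (@LT.lt.{0} _ _ @x4 @x3) (@x0 @x4)))) (@Decidable.isFalse _ (@Nat.decidableExistsLT._proof_5 _)) @(fun x3 x4 => @Decidable.rec.{1} _ @(fun x5 => @Decidable (@_root_.Exists.{1} _ @(fun x6 => @And (@LT.lt.{0} _ _ @x6 (@HAdd.hAdd.{0, 0, 0} _ _ _ _ @x3 ((1 : ℕ)))) (@x0 @x6)))) @(fun x5 => @Decidable.isFalse _ (@decidable_of_decidable_of_iff._proof_1 _ _ (@Nat.decidableExistsLT._proof_10 _ @x3) @x5)) @(fun x5 => @Decidable.isTrue _ (@Iff.mp _ _ (@Nat.decidableExistsLT._proof_10 _ @x3) @x5)) (@Cfsg.Agent.KOf920ca2.k3 _ _ @x4 (@x1 @x3))) @x2)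
private theorem _root_.Cfsg.Agent.KOf920ca2.e83 : @Nat.decidableExistsLT = @_root_.Cfsg.Agent.KOf920ca2.k83 := by delta _root_.Cfsg.Agent.KOf920ca2.k83; rewrite [← Cfsg.Agent.KOf920ca2.e3]; funext a0 a1 a2; refine (_root_.Cfsg.Agent.KOf920ca2.e25 (fun a2 => @Nat.decidableExistsLT a0 a1 a2) ?_ (fun c0 => ?_) a2 :) <;> (rfl')
private noncomputable def _root_.Cfsg.Agent.KOf920ca2.k84 : type_of% @Nat.decidableExistsFin := @(fun x0 x1 x2 => @Decidable.rec.{1} _ @(fun x3 => @Decidable (@_root_.Exists.{1} _ @(fun x4 => @x1 @x4))) @(fun x3 => @Decidable.isFalse _ (@decidable_of_decidable_of_iff._proof_1 _ _ (@Nat.decidableExistsFin._proof_1 _ @x1) @x3)) @(fun x3 => @Decidable.isTrue _ (@Iff.mp _ _ (@Nat.decidableExistsFin._proof_1 _ @x1) @x3)) (@Cfsg.Agent.KOf920ca2.k83 @(fun x3 => (x4 : @LT.lt.{0} _ _ @x3 @x0) → @x1 (@Fin.mk _ @x3 @x4)) @(fun x3 => @Decidable.rec.{1} _ @(fun x4 => @Decidable ((x5 : @LT.lt.{0} _ _ @x3 @x0) → @x1 (@Fin.mk _ @x3 @x5))) @(fun x4 => @Decidable.isTrue _ (@forall_prop_decidable._proof_2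 _ @(fun x5 => @x1 (@Fin.mk _ @x3 @x5)) @x4)) @(fun x4 => @Decidable.rec.{1} _ @(fun x5 => @Decidable ((x6 : @LT.lt.{0} _ _ @x3 @x0) → @x1 (@Fin.mk _ @x3 @x6))) @(fun x5 => @Decidable.isFalse _ (@decidable_of_decidable_of_iff._proof_1 _ _ (@forall_prop_decidable._proof_1 _ @(fun x6 => @x1 (@Fin.mk _ @x3 @x6)) @x4) @x5)) @(fun x5 => @Decidable.isTrue _ (@Iff.mp _ _ (@forall_prop_decidable._proof_1 _ @(fun x6 => @x1 (@Fin.mk _ @x3 @x6)) @x4) @x5)) (@x2 (@Fin.mk _ @x3 @x4))) (@Cfsg.Agent.KOf920ca2.k45 (@Nat.succ @x3) @x0)) @x0))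
private theorem _root_.Cfsg.Agent.KOf920ca2.e84 : @Nat.decidableExistsFin = @_root_.Cfsg.Agent.KOf920ca2.k84 := by delta _root_.Cfsg.Agent.KOf920ca2.k84; rewrite [← Cfsg.Agent.KOf920ca2.e45, ← Cfsg.Agent.KOf920ca2.e83]; rfl'
private noncomputable def _root_.Cfsg.Agent.KOf920ca2.k85 : (by first | exact type_of% @Cfsg.Agent.ChevalleyStructure.E6Min.Tables.code | exact Unit : Sort _) := by first | (refine @Subtype.val _ (fun g => @Cfsg.Agent.ChevalleyStructure.E6Min.Tables.code = @g) (@Subtype.mk _ _ (@(fun x0 => @Nat.add (@Nat.add (@Nat.mul (nat_lit 9) (@Fin.val _ (@Prod.fst.{0, 0} _ _ @x0))) (@Nat.mul (nat_lit 3) (@Fin.val _ (@Prod.fst.{0, 0} _ _ (@Prod.snd.{0, 0} _ _ @x0))))) (@Fin.val _ (@Prod.snd.{0, 0} _ _ (@Prod.snd.{0, 0} _ _ @x0))))) ?_); rfl') | exact @Cfsg.Agent.ChevalleyStructure.E6Min.Tables.code | exact ()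
private theorem _root_.Cfsg.Agent.KOf920ca2.e85 : (by first | exact @Cfsg.Agent.ChevalleyStructure.E6Min.Tables.code = @_root_.Cfsg.Agent.KOf920ca2.k85 | exact True : Prop) := by first | (delta _root_.Cfsg.Agent.KOf920ca2.k85; exact @Subtype.property _ (fun g => @Cfsg.Agent.ChevalleyStructure.E6Min.Tables.code = @g) _) | rfl | trivial
private noncomputable def _root_.Cfsg.Agent.KOf920ca2.k86 : (by first | exact type_of% @Cfsg.Agent.ChevalleyStructure.E6Min.Basic.sg | exact Unit : Sort _) := by first | (refine @Subtype.val _ (fun g => @Cfsg.Agent.ChevalleyStructure.E6Min.Basic.sg = @g) (@Subtype.mk _ _ (@(fun x0 x1 => @Cfsg.Agent.KOf920ca2.k9 @x0 (@Cfsg.Agent.KOf920ca2.k85 @x1))) ?_); rewrite [← Cfsg.Agent.KOf920ca2.e85, ← Cfsg.Agent.KOf920ca2.e9]; (try delta Cfsg.Agent.ChevalleyStructure.E6Min.Basic.sg); (try generalize @Cfsg.Agent.ChevalleyStructure.E6Min.Tables.sgN = g0); (try generalize @Cfsg.Agent.ChevalleyStructure.E6Min.Tables.code = g1); rfl') | exact @Cfsg.Agent.ChevalleyStructure.E6Min.Basic.sg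 | exact ()
private theorem _root_.Cfsg.Agent.KOf920ca2.e86 : (by first | exact @Cfsg.Agent.ChevalleyStructure.E6Min.Basic.sg = @_root_.Cfsg.Agent.KOf920ca2.k86 | exact True : Prop) := by first | (delta _root_.Cfsg.Agent.KOf920ca2.k86; exact @Subtype.property _ (fun g => @Cfsg.Agent.ChevalleyStructure.E6Min.Basic.sg = @g) _) | rfl | trivial

theorem chk_sep : ∀ x y : I27, x ≠ y → ∃ r : Fin 72, sg r x ≠ 0 ∧ sg r y = 0 := by
  (first | (refine of_decide_eq_true ?_; rewrite [Cfsg.Agent.KOf920ca2.e0, Cfsg.Agent.KOf920ca2.e79.{0}, Cfsg.Agent.KOf920ca2.e80, Cfsg.Agent.KOf920ca2.e81, Cfsg.Agent.KOf920ca2.e82.{0, 0}, Cfsg.Agent.KOf920ca2.e18, Cfsg.Agent.KOf920ca2.e84, Cfsg.Agent.KOf920ca2.e52, Cfsg.Agent.KOf920ca2.e6, Cfsg.Agent.KOf920ca2.e86]; decide +kernel) | decide +kernel)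

theorem chk_sg : ∀ (r : Fin 72) (x : I27), sg r x = 0 ∨ sg r x = 1 ∨ sg r x = -1 := by
  decide +kernel

theorem sg_ne_zero {F : Type*} [Field F] {r : ℕ} (hr : r < 72) {x : I27} (h : sg r x ≠ 0) :
    ((sg r x : ℤ) : F) ≠ 0 := by
  rcases chk_sg ⟨r, hr⟩ x with h1 | h1 | h1
  · exact absurd h1 h
  · change sg r x = 1 at h1
    rw [h1, Int.cast_one]; exact one_ne_zero
  · change sg r x = -1 at h1
    rw [h1, Int.cast_neg, Int.cast_one]; exact neg_ne_zero.2 one_ne_zero

/-! ### extension of the field -/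

section map

variable {F k : Type*} [Field F] [Field k] (f : F →+* k)

theorem B_map (col : chevE6.Idx) : (B F col).map f = B k col := by
  rcases col with i | r
  · rw [B_inl, B_inl]
    ext x y
    rw [Matrix.map_apply, Hm_apply, Hm_apply]
    split_ifs
    · exact map_intCast f _
    · exact map_zero f
  · rw [B_inr, B_inr]
    ext x y
    rw [Matrix.map_apply, Nm_apply, Nm_apply]
    split_ifs
    · exact map_intCast f _
    · exact map_zero f

theorem comb_map (c : chevE6.Idx → F) : (comb c).map f = comb (fun row => f (c row)) := by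
  rw [comb_def, comb_def]
  have h1 : (∑ row, c row • B F row).map f = f.mapMatrix (∑ row, c row • B F row) := rfl
  rw [h1, map_sum]
  refine Finset.sum_congr rfl fun row _ => ?_
  ext x y
  rw [← B_map f row]
  simp

theorem P_map {g : Matrix I27 I27 F} {A : Matrix chevE6.Idx chevE6.Idx F} (h : P g A) :
    P (g.map f) (A.map f) := by
  intro col
  rw [← B_map f col, ← Matrix.map_mul, h col, Matrix.map_mul, comb_map]
  rfl

end map

/-! ### diagonal matrices -/

variable {k : Type*} [Field k]

theorem diag_of_P {W : Matrix I27 I27 k} {t : Matrix chevE6.Idx chevE6.Idx k} {τ : Fin chevE6.nroots → k}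
    (hτ : ∀ s s' : Fin chevE6.nroots, s'.val = 71 - s.val → τ s * τ s' = 1) (hP : P W t)
    (ht : t = Matrix.diagonal (Sum.elim (fun _ => (1 : k)) τ)) :
    ∃ w : I27 → k, W = Matrix.diagonal w ∧
      ∀ (s : Fin chevE6.nroots) (x : I27), sg s.val x ≠ 0 → w x = τ s * w (sr s.val x) := by
  have h0 : ∀ s : Fin chevE6.nroots, W * Nm k s.val = τ s • (Nm k s.val * W) := by
    intro s
    have h1 := hP (Sum.inr s)
    rw [B_inr] at h1
    rw [h1, ← smul_mul_assoc]
    congr 1
    rw [comb_def, Finset.sum_eq_single (Sum.inr s)]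
    · rw [ht, Matrix.diagonal_apply_eq, Sum.elim_inr, B_inr]
    · intro row _ hrow
      rw [ht, Matrix.diagonal_apply_ne _ hrow, zero_smul]
    · intro h
      exact absurd (Finset.mem_univ _) h
  have hoff : ∀ x y, x ≠ y → W x y = 0 := by
    intro x y hxy
    obtain ⟨r, h1, h2⟩ := chk_sep x y hxy
    let s : Fin chevE6.nroots := r
    let s' : Fin chevE6.nroots := ⟨71 - r.val, show 71 - r.val < 72 by omega⟩
    have h3 : W * (Nm k r * Nm k (71 - r)) = (Nm k r * Nm k (71 - r)) * W := by
      have e1 := h0 s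
      have e2 := h0 s'
      have e3 := hτ s s' rfl
      change W * Nm k r = _ • (Nm k r * W) at e1
      change W * Nm k (71 - r) = _ • (Nm k (71 - r) * W) at e2
      rw [← mul_assoc, e1, smul_mul_assoc, mul_assoc, e2, mul_smul_comm, smul_smul, e3, one_smul, ← mul_assoc]
    rw [Nm_mul_opp r.2] at h3
    have h4 := congrFun (congrFun h3 x) y
    rw [mul_diagonal, diagonal_mul, ind_of_ne h1, ind_of_eq h2] at h4
    simpa using h4.symm
  refine ⟨fun x => W x x, ?_, ?_⟩
  · ext x y
    rcases eq_or_ne x y with rfl | hxy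
    · rw [diagonal_apply_eq]
    · rw [diagonal_apply_ne _ hxy, hoff x y hxy]
  · intro s x hx
    have h3 := congrFun (congrFun (h0 s) x) (sr s.val x)
    rw [Matrix.smul_apply, Nm_mul_apply, mul_apply, Finset.sum_eq_single x] at h3
    · rw [Nm_apply, if_pos rfl, mul_comm, smul_eq_mul, mul_left_comm] at h3
      exact mul_left_cancel₀ (sg_ne_zero (lt72 s) hx) h3
    · intro z _ hz
      rw [hoff x z hz.symm, zero_mul]
    · intro h; exact absurd (Finset.mem_univ _) h

/-! ### the determinant -/

theorem det_zM {r : ℕ} (hr : r < 72) (t : k) : (zM r t).det = 1 := by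
  have h1 : zM r t = 1 + (t • (Nm k r * Nm k (71 - r))) * Nm k r := by
    rw [zM_def, smul_mul_assoc, Nm_mul_opp_mul hr]
  rw [h1, Matrix.det_one_add_mul_comm, mul_smul_comm, ← mul_assoc, Nm_sq hr, zero_mul, smul_zero, add_zero,
    Matrix.det_one]

theorem det_of_mem {g : GL I27 k} (hg : g ∈ Zgrp k) : (g : Matrix I27 I27 k).det = 1 := by
  unfold Zgrp at hg
  induction hg using Subgroup.closure_induction with
  | mem x hx =>
    obtain ⟨r, t, hr, h⟩ := hx
    rw [h, det_zM hr]
  | one => rw [Units.val_one, Matrix.det_one]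
  | mul x y _ _ hx hy => rw [Units.val_mul, Matrix.det_mul, hx, hy, one_mul]
  | inv x _ hx =>
    have h1 : ((x⁻¹ : GL I27 k) : Matrix I27 I27 k).det * (x : Matrix I27 I27 k).det = 1 := by
      rw [← Matrix.det_mul, ← Units.val_mul, inv_mul_cancel, Units.val_one, Matrix.det_one]
    rwa [hx, mul_one] at h1

/-! ### the values -/

theorem dec_step {G : Type*} {D : I27 → G} (h : ∀ (i : Fin 6) (x : I27), sg (sI i) x ≠ 0 → D x = D (sr (sI i) x))
    {m : ℕ} (hm : m < 27) : D (dec (stp m)) = D (dec m) := by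
  have key : ∀ i : Fin 6, sgN (sI i) m ≠ 0 → D (dec (srN (sI i) m)) = D (dec m) := by
    intro i hi
    have h1 := h i (dec m) (by unfold sg; rw [code_dec hm]; exact hi)
    rw [h1]
    unfold sr
    rw [code_dec hm]
  unfold stp
  split_ifs with h1 h2 h3 h4 h5 h6
  · exact key 0 h1
  · exact key 1 h2
  · exact key 2 h3
  · exact key 3 h4
  · exact key 4 h5
  · exact key 5 h6
  · rfl

theorem const_of {G : Type*} {D : I27 → G} (h : ∀ (i : Fin 6) (x : I27), sg (sI i) x ≠ 0 → D x = D (sr (sI i) x))
    (x : I27) : D x = D (dec 18) := by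
  have h1 : ∀ n, stp^[n] (code x) < 27 ∧ D (dec (stp^[n] (code x))) = D x := by
    intro n
    induction n with
    | zero => exact ⟨code_lt x, by rw [Function.iterate_zero, id, dec_code]⟩
    | succ n ih =>
      rw [Function.iterate_succ_apply']
      exact ⟨stp_lt ⟨_, ih.1⟩, by rw [dec_step h ih.1, ih.2]⟩
  have h2 := (h1 16).2
  have h3 : stp^[16] (code x) = 18 := c3 ⟨code x, code_lt x⟩
  rw [h3] at h2
  exact h2.symm

theorem prod_code {M : Type*} [CommMonoid M] (g : ℕ → M) : ∏ x : I27, g (code x) = ∏ m : Fin 27, g m := by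
  have h1 : ∏ x : I27, g (code x) = (((Finset.univ : Finset I27).val.map code).map g).prod := by
    rw [Multiset.map_map]
    rfl
  rw [h1, c5, Fin.prod_univ_eq_prod_range (fun i => g i) 27]
  rfl

theorem w_eq {G : Type*} [CommGroup G] {N : ℕ} (hN3 : N.Coprime 3) {w : I27 → G} {u : Fin 6 → G}
    (hu : ∀ i, u i ^ N = 1) (hw : ∀ x, w x ^ N = 1) (hprod : ∏ x, w x = 1)
    (h : ∀ (i : Fin 6) (x : I27), sg (sI i) x ≠ 0 → w x = u i ^ 3 * w (sr (sI i) x)) (x : I27) :
    w x = ∏ i : Fin 6, u i ^ (w3 (code x) i) := by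
  let E : I27 → G := fun x => ∏ i : Fin 6, u i ^ (w3 (code x) i)
  let D : I27 → G := fun x => w x * (E x)⁻¹
  have hE : ∀ (i : Fin 6) (x : I27), sg (sI i) x ≠ 0 → E x = u i ^ 3 * E (sr (sI i) x) := by
    intro i x hx
    have h1 := (c1 i ⟨code x, code_lt x⟩).resolve_left hx
    show ∏ j : Fin 6, u j ^ (w3 (code x) j) = u i ^ 3 * ∏ j : Fin 6, u j ^ (w3 (code (sr (sI i) x)) j)
    rw [code_sr (sI_lt i)]
    have h2 : ∀ j : Fin 6, u j ^ (w3 (code x) j) = u j ^ (if j = i then (3 : ℤ) else 0) * u j ^ (w3 (srN (sI i) (code x)) j) := by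
      intro j
      rw [← _root_.zpow_add]
      congr 1
      have h3 := h1 j
      change w3 (code x) j - w3 (srN (sI i) (code x)) j = _ at h3
      omega
    rw [Finset.prod_congr rfl fun j _ => h2 j, Finset.prod_mul_distrib]
    congr 1
    rw [Finset.prod_eq_single i]
    · rw [if_pos rfl]
      exact zpow_ofNat (u i) 3
    · intro j _ hj
      rw [if_neg hj, zpow_zero]
    · intro hh; exact absurd (Finset.mem_univ _) hh
  have hD : ∀ x, D x = D (dec 18) := by
    refine const_of fun i x hx => ?_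
    show w x * (E x)⁻¹ = w (sr (sI i) x) * (E (sr (sI i) x))⁻¹
    rw [h i x hx, hE i x hx, mul_inv, mul_mul_mul_comm, mul_inv_cancel, one_mul]
  have hEprod : ∏ x, E x = 1 := by
    show ∏ x : I27, ∏ i : Fin 6, u i ^ (w3 (code x) i) = 1
    rw [Finset.prod_comm]
    refine Finset.prod_eq_one fun i _ => ?_
    rw [prod_code (fun m => u i ^ (w3 m i))]
    have h1 := c2 i
    have h2 : ∀ S : Finset (Fin 27), ∏ m ∈ S, u i ^ (w3 m i) = u i ^ (∑ m ∈ S, w3 m i) := by
      intro S
      induction S using Finset.induction_on with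
      | empty => simp
      | insert b S hb ih => rw [Finset.prod_insert hb, Finset.sum_insert hb, _root_.zpow_add, ih]
    rw [h2, h1, zpow_zero]
  have h27 : D (dec 18) ^ 27 = 1 := by
    have h1 : ∏ x, D x = 1 := by
      show ∏ x, (w x * (E x)⁻¹) = 1
      rw [Finset.prod_mul_distrib, hprod, one_mul, Finset.prod_inv_distrib, hEprod, inv_one]
    rw [Finset.prod_congr rfl fun x _ => hD x, Finset.prod_const] at h1
    exact h1
  have hEN : ∀ x, E x ^ N = 1 := by
    intro x
    show (∏ i : Fin 6, u i ^ (w3 (code x) i)) ^ N = 1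
    rw [← Finset.prod_pow]
    refine Finset.prod_eq_one fun i _ => ?_
    rw [← zpow_natCast, ← _root_.zpow_mul, mul_comm, _root_.zpow_mul, zpow_natCast, hu, _root_.one_zpow]
  have hDN : D (dec 18) ^ N = 1 := by
    show (w (dec 18) * (E (dec 18))⁻¹) ^ N = 1
    rw [mul_pow, hw, inv_pow, hEN, inv_one, one_mul]
  have h1 : D (dec 18) = 1 := by
    have hco : Nat.gcd 27 N = 1 := by
      have : Nat.Coprime (3 ^ 3) N := Nat.Coprime.pow_left 3 hN3.symm
      exact this
    have h2 := orderOf_dvd_of_pow_eq_one h27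
    have h3 := orderOf_dvd_of_pow_eq_one hDN
    have h4 := Nat.dvd_gcd h2 h3
    rw [hco] at h4
    exact orderOf_eq_one_iff.1 (Nat.dvd_one.1 h4)
  have h2 : w x * (E x)⁻¹ = 1 := by
    have := hD x
    rw [h1] at this
    exact this
  exact mul_inv_eq_one.1 h2

end Cfsg.Agent.H898.TSVDiag
end

-- part: H898/TSVW
section
/-!
# Weight values of the elements of odd order on the 27-dimensional module of `E₆` (helper898)
-/

set_option autoImplicit false
set_option linter.unusedSectionVars false

namespace Cfsg.Agent.H898.TSVW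

open Cfsg.Agent.ChevalleyStructure.CoxeterGeom Cfsg.Agent.Tits.Roots
  Cfsg.Agent.Nodes.Reps Cfsg.Agent.Nodes.BNOf Cfsg.Agent.Nodes.RGDChev Cfsg.Agent.KFacts.RgdChevCoord
open Cfsg.Lie Cfsg.Agent.ChevalleyStructure Cfsg.Agent.ChevalleyStructure.Elts
  Cfsg.Agent.ChevalleyStructure.RootVecTab
  Cfsg.Agent.ChevalleyStructure.CoxeterGeomTypes
  Cfsg.Agent.BpExc.TorAll Cfsg.Agent.BpExc.TorChev
open Cfsg.Agent.GpExc.Field (glMap emb coe_emb coe_glMap emb_injective)
open Cfsg.Agent.H944.RootVals Cfsg.Agent.H944.TS.Eig Polynomial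
open Cfsg.Agent.ChevalleyStructure.E6Min.Tables Cfsg.Agent.ChevalleyStructure.E6Min.Basic
  Cfsg.Agent.ChevalleyStructure.E6Min.Adjoint
open Cfsg.Agent.H898.TSVTab Cfsg.Agent.H898.TSVDiag

universe u

/-- The multiset of (three times) the weight values. -/
def wm {R : Type*} [CommRing R] (v : Fin 6 → R) : Multiset R :=
  (Finset.univ : Finset I27).val.map fun x => ∑ i : Fin 6, ((w3 (code x) i : ℤ) : R) * v i

/-! ### powers of a root of unity -/

section pw

variable {k : Type*} [Field k] {N : ℕ} [NeZero N] {z : kˣ}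

/-- the power with exponent in `ZMod N` -/
def pw (z : kˣ) (b : ZMod N) : kˣ := z ^ b.val

theorem zpow_val (hz : z ^ N = 1) (m : ℤ) : z ^ m = pw z (m : ZMod N) := by
  unfold pw
  rw [← zpow_natCast, ZMod.val_intCast]
  have h1 : z ^ (N : ℤ) = 1 := by rw [zpow_natCast]; exact hz
  conv_lhs => rw [← Int.emod_add_mul_ediv m N]
  rw [zpow_add, zpow_mul, h1, one_zpow, mul_one]

theorem pw_inj (hz : IsPrimitiveRoot z N) : Function.Injective (pw z : ZMod N → kˣ) := by
  intro b b' h
  exact ZMod.val_injective N (hz.pow_inj (ZMod.val_lt b) (ZMod.val_lt b') h)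

theorem pw_add (hz : z ^ N = 1) (a b : ZMod N) : pw z (a + b) = pw z a * pw z b := by
  obtain ⟨m, rfl⟩ := ZMod.intCast_surjective a
  obtain ⟨n, rfl⟩ := ZMod.intCast_surjective b
  rw [← Int.cast_add, ← zpow_val hz, ← zpow_val hz, ← zpow_val hz, zpow_add]

theorem pw_zsmul (hz : z ^ N = 1) (m : ℤ) (a : ZMod N) : pw z ((m : ZMod N) * a) = pw z a ^ m := by
  obtain ⟨n, rfl⟩ := ZMod.intCast_surjective a
  rw [← Int.cast_mul, ← zpow_val hz, ← zpow_val hz, ← zpow_mul, mul_comm]

theorem pw_zero (hz : z ^ N = 1) : pw z (0 : ZMod N) = 1 := by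
  have := zpow_val hz 0
  rw [Int.cast_zero, zpow_zero] at this
  exact this.symm

theorem pw_sum (hz : z ^ N = 1) {ι : Type*} (S : Finset ι) (f : ι → ZMod N) :
    pw z (∑ i ∈ S, f i) = ∏ i ∈ S, pw z (f i) := by
  classical
  induction S using Finset.induction_on with
  | empty => rw [Finset.sum_empty, Finset.prod_empty, pw_zero hz]
  | insert b S hb ih => rw [Finset.prod_insert hb, Finset.sum_insert hb, pw_add hz, ih]

end pw

/-! ### the main construction -/

theorem core {F k : Type u} [Field F] [Field k] [IsAlgClosed k] [CharP F 2] [CharP k 2] (hk : HAlg 2 k) (f : F →+* k)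
    {N : ℕ} (hN0 : N ≠ 0) (hN3 : N.Coprime 3) (hN2 : N.Coprime 2) {ζ : kˣ} (hζ : IsPrimitiveRoot ζ N)
    {z : ↥(Zgrp F)} (hz : z ^ N = 1) :
    ∃ a : Fin 6 → ZMod N,
      (∀ d : ℕ, (∀ i, (d : ZMod N) * a i = 0) → (ad F z) ^ d = 1) ∧
      ((((ad F z : ↥(chevE6.group F)) : GL chevE6.Idx F) : Matrix chevE6.Idx chevE6.Idx F).charpoly.map
          (iterateFrobenius F 2 1) =
        (((ad F z : ↥(chevE6.group F)) : GL chevE6.Idx F) : Matrix chevE6.Idx chevE6.Idx F).charpoly →
        ms chevE6 6 a = (ms chevE6 6 a).map (fun b => ((2 : ℕ) : ZMod N) * b)) ∧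
      ((z : GL I27 F) : Matrix I27 I27 F).charpoly.map f = ((wm a).map (fun b => X - C ((pw ζ b : kˣ) : k))).prod ∧
      (((((z : GL I27 F)⁻¹ : GL I27 F)) : Matrix I27 I27 F).charpoly = ((z : GL I27 F) : Matrix I27 I27 F).charpoly →
        (wm a).map Neg.neg = wm a) := by
  classical
  have : Fact (Nat.Prime 2) := ⟨Nat.prime_two⟩
  have : NeZero N := ⟨hN0⟩
  have hζN : ζ ^ N = 1 := hζ.pow_eq_one
  set x := ad F z with hx
  have hxN0 : x ^ N = 1 := by rw [hx, ← map_pow, hz, map_one]
  set x' : ↥(chevE6.group k) := emb e6T.inList f x with hx'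
  have hxN : x' ^ N = 1 := by rw [hx', ← map_pow, hxN0, map_one]
  obtain ⟨g, hg⟩ := Cfsg.Agent.H944.TorAnyChev.exists_conj_mem_TT e6T 2 hk hN0 hN2 hxN
  set t := g * x' * g⁻¹ with ht
  obtain ⟨c, hc⟩ := TT_diag e6T hg
  have htN : t ^ N = 1 := by rw [ht, conj_pow, hxN, mul_one, mul_inv_cancel]
  -- the powers of `t`
  have hpow : ∀ d : ℕ, (((t ^ d : ↥(chevE6.group k)) : GL chevE6.Idx k) : Matrix chevE6.Idx chevE6.Idx k) =
      Matrix.diagonal (Sum.elim (fun _ => (1 : k)) (fun s : Fin chevE6.nroots =>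
        ((∏ i, c i ^ (vec chevE6 6 s i) : kˣ) : k) ^ d)) := by
    intro d
    rw [Subgroup.coe_pow, Units.val_pow_eq_pow_val, hc, Matrix.diagonal_pow]
    congr 1
    funext i
    rcases i with i | i
    · simp
    · simp
  -- the value on the simple roots
  have hsimple : ∀ j : Fin 6, (∏ i, c i ^ (vec chevE6 6 (sI j) i) : kˣ) = c j := by
    intro j
    rw [← sI_eq j, vec_simple e6T j, Finset.prod_eq_single j]
    · rw [sr_self, zpow_one]
    · intro i _ hij
      rw [sr_ne hij, zpow_zero]
    · intro h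
      exact absurd (Finset.mem_univ j) h
  have hcN : ∀ d : ℕ, t ^ d = 1 ↔ ∀ j, c j ^ d = 1 := by
    intro d
    constructor
    · intro h1 j
      have h2 := hpow d
      rw [h1, Subgroup.coe_one, Units.val_one] at h2
      have h3 := congrFun (congrFun h2 (Sum.inr ⟨sI j, sI_lt j⟩)) (Sum.inr ⟨sI j, sI_lt j⟩)
      rw [Matrix.one_apply_eq, Matrix.diagonal_apply_eq, Sum.elim_inr] at h3
      have h4 := hsimple j
      change 1 = ((∏ i, c i ^ (vec chevE6 6 (sI j) i) : kˣ) : k) ^ d at h3
      rw [h4, ← Units.val_pow_eq_pow_val] at h3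
      exact Units.ext h3.symm
    · intro h1
      apply Subtype.ext
      apply Units.ext
      rw [hpow, Subgroup.coe_one, Units.val_one, ← Matrix.diagonal_one]
      congr 1
      funext i
      rcases i with i | i
      · rfl
      · rw [Sum.elim_inr, ← Units.val_pow_eq_pow_val, ← Finset.prod_pow]
        have : ∀ j ∈ (Finset.univ : Finset (Fin 6)), (c j ^ vec chevE6 6 i j) ^ d = 1 := by
          intro j _
          rw [← zpow_natCast, ← zpow_mul, mul_comm, zpow_mul, zpow_natCast, h1, one_zpow]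
        rw [Finset.prod_congr rfl this, Finset.prod_const_one, Units.val_one]
  have hcN' : ∀ j, c j ^ N = 1 := (hcN N).1 htN
  -- cube roots of the `c j`
  have hu : ∀ j, ∃ a : ZMod N, pw ζ a ^ 3 = c j := by
    intro j
    have h1 : Nat.Coprime 3 (orderOf (c j)) :=
      (Nat.Coprime.coprime_dvd_left (orderOf_dvd_of_pow_eq_one (hcN' j)) hN3).symm
    obtain ⟨m, hm⟩ := exists_pow_eq_self_of_coprime h1
    have h2 : ((c j ^ m : kˣ) : k) ^ N = 1 := by
      rw [← Units.val_pow_eq_pow_val, ← pow_mul, mul_comm, pow_mul, hcN', one_pow, Units.val_one]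
    obtain ⟨i, -, hi⟩ := (IsPrimitiveRoot.coe_units_iff.2 hζ).eq_pow_of_pow_eq_one h2
    refine ⟨((i : ℤ) : ZMod N), ?_⟩
    rw [← zpow_val hζN, zpow_natCast]
    have h3 : ζ ^ i = c j ^ m := Units.ext (by rw [Units.val_pow_eq_pow_val]; exact hi)
    rw [h3, ← pow_mul, mul_comm, pow_mul, hm]
  choose a ha using hu
  refine ⟨a, ?_⟩
  -- the elements above
  obtain ⟨gz, hgz⟩ := ad_surjective (F := k) g
  let zk : GL I27 k := Units.map (f.mapMatrix : Matrix I27 I27 F →+* Matrix I27 I27 k).toMonoidHom (z : GL I27 F)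
  have hzk : (zk : Matrix I27 I27 k) = ((z : GL I27 F) : Matrix I27 I27 F).map f := rfl
  let W : GL I27 k := (gz : GL I27 k) * zk * (gz : GL I27 k)⁻¹
  have hPz : P (zk : Matrix I27 I27 k) (((x' : ↥(chevE6.group k)) : GL chevE6.Idx k) : Matrix chevE6.Idx chevE6.Idx k) := by
    rw [hzk, hx', coe_emb, coe_glMap]
    exact P_map f (ad_P z)
  have hPg : P ((gz : GL I27 k) : Matrix I27 I27 k) (((g : ↥(chevE6.group k)) : GL chevE6.Idx k) : Matrix chevE6.Idx chevE6.Idx k) := by
    have := ad_P gz
    rw [hgz] at this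
    exact this
  have hPW : P (W : Matrix I27 I27 k) (((t : ↥(chevE6.group k)) : GL chevE6.Idx k) : Matrix chevE6.Idx chevE6.Idx k) := by
    have h1 := P_mul (P_mul hPg hPz) (P_inv hPg)
    rw [← Units.val_mul, ← Units.val_mul, ← Units.val_mul, ← Units.val_mul] at h1
    exact h1
  obtain ⟨w, hW, hstep⟩ := diag_of_P (W := (W : Matrix I27 I27 k)) (τ := fun s : Fin chevE6.nroots =>
      ((∏ i, c i ^ (vec chevE6 6 s i) : kˣ) : k)) (by
        intro s s' hs
        rw [← Units.val_mul, ← Finset.prod_mul_distrib, Finset.prod_eq_one, Units.val_one]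
        intro i _
        have h1 := opp6 ⟨s.val, lt72 s⟩ i
        rw [← zpow_add]
        have h2 : vec chevE6 6 s i + vec chevE6 6 s' i = 0 := by
          rw [hs]
          change vec chevE6 6 (71 - (s : ℕ)) i = _ at h1
          rw [h1]
          exact add_neg_cancel _
        rw [h2, zpow_zero]) hPW hc
  have hWN : W ^ N = 1 := by
    show ((gz : GL I27 k) * zk * (gz : GL I27 k)⁻¹) ^ N = 1
    have h1 : zk ^ N = 1 := by
      show (Units.map (f.mapMatrix : Matrix I27 I27 F →+* Matrix I27 I27 k).toMonoidHom (z : GL I27 F)) ^ N = 1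
      rw [← map_pow, ← Subgroup.coe_pow, hz, Subgroup.coe_one, map_one]
    rw [conj_pow, h1, mul_one, mul_inv_cancel]
  have hwN : ∀ y, w y ^ N = 1 := by
    intro y
    have h1 := congrArg (fun M : GL I27 k => (M : Matrix I27 I27 k)) hWN
    simp only [Units.val_pow_eq_pow_val, hW, Matrix.diagonal_pow, Units.val_one] at h1
    have h2 := congrFun (congrFun h1 y) y
    rw [Matrix.diagonal_apply_eq, Matrix.one_apply_eq] at h2
    exact h2
  have hw0 : ∀ y, w y ≠ 0 := by
    intro y h
    have h1 := hwN y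
    rw [h, zero_pow hN0] at h1
    exact zero_ne_one h1
  let wu : I27 → kˣ := fun y => Units.mk0 (w y) (hw0 y)
  have hwu : ∀ y, ((wu y : kˣ) : k) = w y := fun y => rfl
  have hprod : ∏ y, wu y = 1 := by
    apply Units.ext
    rw [Units.coe_prod, Units.val_one]
    have h1 : (W : Matrix I27 I27 k).det = 1 := by
      show (((gz : GL I27 k) * zk * (gz : GL I27 k)⁻¹ : GL I27 k) : Matrix I27 I27 k).det = 1
      have h2 : (zk : Matrix I27 I27 k).det = 1 := by
        rw [hzk, ← RingHom.mapMatrix_apply, ← RingHom.map_det, det_of_mem z.2, map_one]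
      rw [Units.val_mul, Units.val_mul, Matrix.det_mul, Matrix.det_mul, h2, mul_one, ← Matrix.det_mul, ← Units.val_mul,
        mul_inv_cancel, Units.val_one, Matrix.det_one]
    rw [hW, Matrix.det_diagonal] at h1
    exact h1
  have hw : ∀ y, wu y = pw ζ (∑ i : Fin 6, ((w3 (code y) i : ℤ) : ZMod N) * a i) := by
    intro y
    have h1 := w_eq (N := N) hN3 (w := wu) (u := fun i => pw ζ (a i)) (fun i => by
      show (pw ζ (a i)) ^ N = 1
      unfold pw
      rw [← pow_mul, mul_comm, pow_mul, hζN, one_pow]) (fun y => Units.ext (by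
        rw [Units.val_pow_eq_pow_val, hwu, hwN, Units.val_one])) hprod (fun i y hy => by
        apply Units.ext
        rw [Units.val_mul, hwu, hwu]
        have h2 := hstep ⟨sI i, sI_lt i⟩ y hy
        rw [h2]
        change ((∏ j, c j ^ (vec chevE6 6 (sI i) j) : kˣ) : k) * _ = _
        rw [hsimple i, ha i]) y
    rw [h1, pw_sum hζN]
    refine Finset.prod_congr rfl fun i _ => ?_
    rw [pw_zsmul hζN]
  -- the root values
  have hval : ∀ s : Fin chevE6.nroots, (∏ i, c i ^ (vec chevE6 6 s i) : kˣ) =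
      pw ζ (((3 : ℤ) : ZMod N) * (∑ i, (vec chevE6 6 s i : ZMod N) * a i)) := by
    intro s
    rw [pw_zsmul hζN, pw_sum hζN, ← Finset.prod_zpow]
    refine Finset.prod_congr rfl fun i _ => ?_
    rw [pw_zsmul hζN, ← ha i, ← zpow_mul, mul_comm, zpow_mul]
    congr 1
  have h3inj : Function.Injective (fun b : ZMod N => ((3 : ℤ) : ZMod N) * b) := by
    have hunit : IsUnit ((3 : ℕ) : ZMod N) := (ZMod.isUnit_iff_coprime 3 N).2 hN3.symm
    have h4 : ((3 : ℤ) : ZMod N) = ((3 : ℕ) : ZMod N) := by push_cast; rfl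
    intro b b' hb
    simp only [h4] at hb
    exact hunit.mul_left_cancel hb
  have hpk : Function.Injective (fun b : ZMod N => ((pw ζ b : kˣ) : k)) :=
    Units.val_injective.comp (pw_inj hζ)
  have hms : ∀ m : ℕ, (Finset.univ : Finset (Fin chevE6.nroots)).val.map
      (fun s : Fin chevE6.nroots => ((∏ i, c i ^ (vec chevE6 6 s i) : kˣ) : k) ^ m) =
      (((ms chevE6 6 a).map (fun b => (m : ZMod N) * b)).map (fun b => ((3 : ℤ) : ZMod N) * b)).map
        (fun b => ((pw ζ b : kˣ) : k)) := by
    intro m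
    unfold ms
    rw [Multiset.map_map, Multiset.map_map, Multiset.map_map]
    refine Multiset.map_congr rfl fun s _ => ?_
    simp only [Function.comp_apply]
    rw [hval, ← Units.val_pow_eq_pow_val, ← zpow_natCast, ← pw_zsmul hζN]
    congr 2
    push_cast
    ring
  refine ⟨?_, ?_, ?_, ?_⟩
  · intro d hd
    have h1 : t ^ d = 1 := by
      rw [hcN]
      intro j
      rw [← ha j, ← pow_mul, mul_comm, pow_mul, ← zpow_natCast (pw ζ (a j)) d, ← pw_zsmul hζN]
      have := hd j
      rw [Int.cast_natCast, this, pw_zero hζN, one_pow]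
    have h2 : t ^ d = g * x' ^ d * g⁻¹ := by rw [ht, conj_pow]
    rw [h2, conj_eq_one_iff, hx', ← map_pow] at h1
    exact emb_injective e6T.inList f (by rw [h1, map_one])
  · -- Frobenius
    intro hcp
    let φ : k →+* k := iterateFrobenius k 2 1
    have hchart : (((t : ↥(chevE6.group k)) : GL chevE6.Idx k) : Matrix chevE6.Idx chevE6.Idx k).charpoly =
        ((((x : ↥(chevE6.group F)) : GL chevE6.Idx F) : Matrix chevE6.Idx chevE6.Idx F).charpoly).map f := by
      rw [ht, Subgroup.coe_mul, Subgroup.coe_mul, Subgroup.coe_inv, Units.val_mul, Units.val_mul,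
        Matrix.coe_units_inv]
      have h2 := Matrix.charpoly_units_conj ((g : GL chevE6.Idx k))
        (((x' : ↥(chevE6.group k)) : GL chevE6.Idx k) : Matrix chevE6.Idx chevE6.Idx k)
      rw [h2, ← Matrix.charpoly_map]
      congr 1
    have h2 : ((((t : ↥(chevE6.group k)) : GL chevE6.Idx k) : Matrix chevE6.Idx chevE6.Idx k).map φ).charpoly =
        (((t : ↥(chevE6.group k)) : GL chevE6.Idx k) : Matrix chevE6.Idx chevE6.Idx k).charpoly := by
      rw [Matrix.charpoly_map, hchart, Polynomial.map_map]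
      conv_rhs => rw [← hcp, Polynomial.map_map]
      congr 1
      ext b
      show iterateFrobenius k 2 1 (f b) = f (iterateFrobenius F 2 1 b)
      rw [iterateFrobenius_def, iterateFrobenius_def, map_pow]
    rw [hc, Matrix.diagonal_map (map_zero φ)] at h2
    have h3 := diag_multiset h2
    have h4 : (φ ∘ Sum.elim (fun _ : Fin chevE6.rank => (1 : k)) (fun s : Fin chevE6.nroots =>
        ((∏ i, c i ^ (vec chevE6 6 s i) : kˣ) : k))) =
        Sum.elim (fun _ : Fin chevE6.rank => (1 : k)) (fun s : Fin chevE6.nroots =>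
          ((∏ i, c i ^ (vec chevE6 6 s i) : kˣ) : k) ^ 2) := by
      funext i
      rcases i with i | i
      · simp
      · simp only [Function.comp_apply, Sum.elim_inr]
        show iterateFrobenius k 2 1 _ = _
        rw [iterateFrobenius_def, pow_one]
    have h3' : (Finset.univ : Finset (Fin chevE6.rank ⊕ Fin chevE6.nroots)).val.map
        (φ ∘ Sum.elim (fun _ => (1 : k)) (fun s : Fin chevE6.nroots => ((∏ i, c i ^ (vec chevE6 6 s i) : kˣ) : k))) =
        (Finset.univ : Finset (Fin chevE6.rank ⊕ Fin chevE6.nroots)).val.map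
        (Sum.elim (fun _ => (1 : k)) (fun s : Fin chevE6.nroots => ((∏ i, c i ^ (vec chevE6 6 s i) : kˣ) : k))) := h3
    rw [h4] at h3'
    have h5 := cancel_inl h3'
    have h6 := hms 1
    simp only [pow_one, Nat.cast_one, one_mul, Multiset.map_id'] at h6
    rw [h6, hms 2] at h5
    exact (Multiset.map_injective h3inj (Multiset.map_injective hpk h5)).symm
  · -- the characteristic polynomial
    have h1 : (W : Matrix I27 I27 k).charpoly = ((z : GL I27 F) : Matrix I27 I27 F).charpoly.map f := by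
      show (((gz : GL I27 k) * zk * (gz : GL I27 k)⁻¹ : GL I27 k) : Matrix I27 I27 k).charpoly = _
      rw [Units.val_mul, Units.val_mul, Matrix.coe_units_inv, Matrix.charpoly_units_conj, ← Matrix.charpoly_map]
      rfl
    rw [← h1, hW, Matrix.charpoly_diagonal]
    unfold wm
    rw [Multiset.map_map]
    show ∏ y, (X - C (w y)) = (Multiset.map _ (Finset.univ : Finset I27).val).prod
    refine congrArg Multiset.prod (Multiset.map_congr rfl fun y _ => ?_)
    rw [← hwu, hw]
    rfl
  · intro hre
    have h1 : (W : Matrix I27 I27 k).charpoly = ((z : GL I27 F) : Matrix I27 I27 F).charpoly.map f := by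
      show (((gz : GL I27 k) * zk * (gz : GL I27 k)⁻¹ : GL I27 k) : Matrix I27 I27 k).charpoly = _
      rw [Units.val_mul, Units.val_mul, Matrix.coe_units_inv, Matrix.charpoly_units_conj, ← Matrix.charpoly_map]
      rfl
    have h2 : ((W⁻¹ : GL I27 k) : Matrix I27 I27 k).charpoly =
        (((z : GL I27 F)⁻¹ : GL I27 F) : Matrix I27 I27 F).charpoly.map f := by
      have h3 : W⁻¹ = (gz : GL I27 k) * zk⁻¹ * (gz : GL I27 k)⁻¹ := by
        show ((gz : GL I27 k) * zk * (gz : GL I27 k)⁻¹)⁻¹ = _
        group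
      rw [h3, Units.val_mul, Units.val_mul, Matrix.coe_units_inv (gz : GL I27 k), Matrix.charpoly_units_conj,
        ← Matrix.charpoly_map]
      have h4 : zk⁻¹ = Units.map (f.mapMatrix : Matrix I27 I27 F →+* Matrix I27 I27 k).toMonoidHom (z : GL I27 F)⁻¹ := by
        rw [map_inv]
      rw [h4]
      rfl
    rw [hre, ← h1] at h2
    have h3 : ((W⁻¹ : GL I27 k) : Matrix I27 I27 k) = Matrix.diagonal (fun y => ((wu y)⁻¹ : kˣ) : I27 → k) := by
      have h4 : (W : Matrix I27 I27 k) * Matrix.diagonal (fun y => (((wu y)⁻¹ : kˣ) : k)) = 1 := by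
        rw [hW, Matrix.diagonal_mul_diagonal, ← Matrix.diagonal_one]
        congr 1
        funext y
        rw [← hwu, ← Units.val_mul, mul_inv_cancel, Units.val_one]
      calc ((W⁻¹ : GL I27 k) : Matrix I27 I27 k) = ((W⁻¹ : GL I27 k) : Matrix I27 I27 k) *
            ((W : Matrix I27 I27 k) * Matrix.diagonal (fun y => (((wu y)⁻¹ : kˣ) : k))) := by rw [h4, mul_one]
        _ = _ := by rw [← mul_assoc, ← Units.val_mul, inv_mul_cancel, Units.val_one, one_mul]
    rw [h3, hW] at h2
    have h4 := diag_multiset h2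
    unfold wm
    apply Multiset.map_injective hpk
    rw [Multiset.map_map, Multiset.map_map, Multiset.map_map]
    have h7 : ∀ y, pw ζ (-(∑ i : Fin 6, ((w3 (code y) i : ℤ) : ZMod N) * a i)) = (wu y)⁻¹ := by
      intro y
      have h5 := pw_zsmul hζN (-1) (∑ i : Fin 6, ((w3 (code y) i : ℤ) : ZMod N) * a i)
      rw [zpow_neg_one, ← hw y] at h5
      rw [← h5]
      congr 1
      rw [Int.cast_neg, Int.cast_one, neg_one_mul]
    refine Eq.trans ?_ (h4.trans ?_)
    · refine Multiset.map_congr rfl fun y _ => ?_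
      exact congrArg Units.val (h7 y)
    · refine Multiset.map_congr rfl fun y _ => ?_
      rw [← hwu y, hw y]
      rfl

end Cfsg.Agent.H898.TSVW
end
end
end
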