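import Mathlib
import Cfsg.Agent.Prune
set_option linter.all false
prune_inst 0x7f00000000000000000000000000000000000000000000000000000000000000000000000000000000000000000000000000000000000000000000000000000000000000000000000000000000000000003fffffffffffffffffffffffffffbeffbdffffffff
open scoped Cfsg.Agent.FastGrp

-- part: H943/AlcMin
section
/-!
# The alcove lemma by minimality (helper943)

`v : Fin n → ℤ` : the values of a functional on the simple roots; `sv A j v` : the reflected functional;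
`sr A j a` : the reflected root; `dot a v` : the value on the root `a`.

`exists_min` : a set of functionals stable under the reflections `s_j`, `j ∈ J`, and under `N ℤ^n` contains a functional
`t` with `0 ≤ t_j` for `j ∈ J`, `0 ≤ t_i < N` for `i ∉ J`, and of minimal norm.
-/

set_option autoImplicit false

namespace Cfsg.Agent.H943.Alc

variable {n : ℕ}

/-- the value of a functional -/
def dot (a v : Fin n → ℤ) : ℤ := ∑ i, a i * v i

/-- the reflected functional -/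
def sv (A : Fin n → Fin n → ℤ) (j : Fin n) (v : Fin n → ℤ) : Fin n → ℤ := fun i => v i - A i j * v j

/-- the reflected root -/
def sr (A : Fin n → Fin n → ℤ) (j : Fin n) (a : Fin n → ℤ) : Fin n → ℤ :=
  fun i => a i - if i = j then ∑ l, a l * A l j else 0

theorem dot_sv (A : Fin n → Fin n → ℤ) (j : Fin n) (a v : Fin n → ℤ) : dot a (sv A j v) = dot (sr A j a) v := by
  unfold dot sv sr
  have h1 : ∑ i, a i * (v i - A i j * v j) = ∑ i, a i * v i - (∑ i, a i * A i j) * v j := by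
    rw [Finset.sum_mul, ← Finset.sum_sub_distrib]
    exact Finset.sum_congr rfl fun i _ => by ring
  have h2 : ∑ i, (a i - if i = j then ∑ l, a l * A l j else 0) * v i =
      ∑ i, a i * v i - (∑ i, a i * A i j) * v j := by
    have h3 : ∀ i, (a i - if i = j then ∑ l, a l * A l j else 0) * v i =
        a i * v i - if i = j then (∑ l, a l * A l j) * v j else 0 := by
      intro i
      by_cases hi : i = j
      · rw [if_pos hi, if_pos hi, hi]; ring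
      · rw [if_neg hi, if_neg hi]; ring
    rw [Finset.sum_congr rfl fun i _ => h3 i, Finset.sum_sub_distrib, Finset.sum_ite_eq', if_pos (Finset.mem_univ j)]
  rw [h1, h2]

theorem dot_add (a v w : Fin n → ℤ) : dot a (v + w) = dot a v + dot a w := by
  unfold dot
  rw [← Finset.sum_add_distrib]
  exact Finset.sum_congr rfl fun i _ => by rw [Pi.add_apply, mul_add]

theorem dot_smul (a v : Fin n → ℤ) (c : ℤ) : dot a (c • v) = c * dot a v := by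
  unfold dot
  rw [Finset.mul_sum]
  exact Finset.sum_congr rfl fun i _ => by rw [Pi.smul_apply, smul_eq_mul]; ring

theorem dot_single (i : Fin n) (v : Fin n → ℤ) : dot (Pi.single i 1) v = v i := by
  unfold dot
  rw [Finset.sum_eq_single i]
  · rw [Pi.single_eq_same, one_mul]
  · intro j _ hj
    rw [Pi.single_eq_of_ne hj, zero_mul]
  · intro h0
    exact absurd (Finset.mem_univ i) h0

/-- the norm -/
def Q (RJ : List (Fin n → ℤ)) (v : Fin n → ℤ) : ℤ := (RJ.map fun a => dot a v ^ 2).sum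

theorem Q_nonneg (RJ : List (Fin n → ℤ)) (v : Fin n → ℤ) : 0 ≤ Q RJ v := by
  unfold Q
  refine List.sum_nonneg fun x hx => ?_
  obtain ⟨a, -, rfl⟩ := List.mem_map.1 hx
  exact sq_nonneg _

theorem sq_le_Q {RJ : List (Fin n → ℤ)} {a : Fin n → ℤ} (ha : a ∈ RJ) (v : Fin n → ℤ) : dot a v ^ 2 ≤ Q RJ v := by
  unfold Q
  refine List.single_le_sum (fun x hx => ?_) _ (List.mem_map.2 ⟨a, ha, rfl⟩)
  obtain ⟨b, -, rfl⟩ := List.mem_map.1 hx
  exact sq_nonneg _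

theorem Q_sv {A : Fin n → Fin n → ℤ} {RJ : List (Fin n → ℤ)} {j : Fin n} (h : (RJ.map (sr A j)).Perm RJ)
    (v : Fin n → ℤ) : Q RJ (sv A j v) = Q RJ v := by
  unfold Q
  have h1 : (RJ.map fun a => dot a (sv A j v) ^ 2) = (RJ.map (sr A j)).map fun a => dot a v ^ 2 := by
    rw [List.map_map]
    exact List.map_congr_left fun a _ => by rw [dot_sv]; rfl
  rw [h1]
  exact (h.map _).sum_eq

/-- the bilinear form as a functional -/
def bv (RJ : List (Fin n → ℤ)) (d : Fin n → ℤ) : Fin n → ℤ := fun i => (RJ.map fun a => a i * dot a d).sum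

theorem dot_bv (RJ : List (Fin n → ℤ)) (d v : Fin n → ℤ) :
    dot (bv RJ d) v = (RJ.map fun a => dot a v * dot a d).sum := by
  induction RJ with
  | nil => simp [bv, dot]
  | cons a RJ ih =>
    rw [List.map_cons, List.sum_cons, ← ih]
    unfold dot bv
    simp only [List.map_cons, List.sum_cons]
    rw [Finset.sum_mul, ← Finset.sum_add_distrib]
    exact Finset.sum_congr rfl fun i _ => by unfold dot; ring

theorem Q_add (RJ : List (Fin n → ℤ)) (v d : Fin n → ℤ) (c : ℤ) :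
    Q RJ (v + c • d) = Q RJ v + 2 * c * dot (bv RJ d) v + c ^ 2 * Q RJ d := by
  rw [dot_bv]
  unfold Q
  induction RJ with
  | nil => simp
  | cons a RJ ih =>
    simp only [List.map_cons, List.sum_cons]
    rw [ih, dot_add, dot_smul]
    ring

/-- **The inequality from minimality.** -/
theorem le_of_min {RJ : List (Fin n → ℤ)} {t : Fin n → ℤ} {N : ℤ} (hN : 0 < N)
    (h : ∀ d : Fin n → ℤ, Q RJ t ≤ Q RJ (t + N • d)) (d : Fin n → ℤ) :
    2 * dot (bv RJ d) t ≤ N * Q RJ d := by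
  have h1 := h (-d)
  have h2 : t + N • (-d) = t + (-N) • d := by rw [smul_neg, neg_smul]
  rw [h2, Q_add] at h1
  have h3 : N * (2 * dot (bv RJ d) t) ≤ N * (N * Q RJ d) := by nlinarith
  exact le_of_mul_le_mul_left h3 hN

/-- **the minimal functional** -/
theorem exists_min (A : Fin n → Fin n → ℤ) (J : Finset (Fin n)) (RJ : List (Fin n → ℤ)) (r : Fin n → ℕ) {N : ℤ}
    (hN : 0 < N) (h1 : ∀ j ∈ J, (RJ.map (sr A j)).Perm RJ) (h2 : ∀ j ∈ J, Pi.single j 1 ∈ RJ)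
    (h3 : ∀ a ∈ RJ, ∀ i, i ∉ J → a i = 0) (h4 : ∀ j ∈ J, ∑ i, (r i : ℤ) * A i j = 2) (h5 : ∀ i, i ∉ J → r i = 0)
    (T : (Fin n → ℤ) → Prop) (hne : ∃ t, T t) (hs : ∀ j ∈ J, ∀ t, T t → T (sv A j t))
    (ht : ∀ t d, T t → T (t + N • d)) :
    ∃ t, T t ∧ (∀ j ∈ J, 0 ≤ t j) ∧ (∀ i, i ∉ J → 0 ≤ t i ∧ t i < N) ∧ ∀ d, Q RJ t ≤ Q RJ (t + N • d) := by
  classical
  -- minimal norm
  have hex : ∃ m : ℕ, ∃ t, T t ∧ Q RJ t = m := by
    obtain ⟨t, h⟩ := hne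
    exact ⟨(Q RJ t).toNat, t, h, (Int.toNat_of_nonneg (Q_nonneg RJ t)).symm⟩
  obtain ⟨m, hm, hmin⟩ : ∃ m : ℕ, (∃ t, T t ∧ Q RJ t = m) ∧ ∀ t, T t → (m : ℤ) ≤ Q RJ t := by
    refine ⟨Nat.find hex, Nat.find_spec hex, fun t h => ?_⟩
    by_contra hcon
    push Not at hcon
    have h6 := Q_nonneg RJ t
    refine Nat.find_min hex (m := (Q RJ t).toNat) ?_ ⟨t, h, (Int.toNat_of_nonneg h6).symm⟩
    omega
  -- the linear functional
  let φ : (Fin n → ℤ) → ℤ := fun t => ∑ i, (r i : ℤ) * t i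
  have hφ : ∀ t, T t → Q RJ t = m → φ t ≤ ∑ i, (r i : ℤ) * m := by
    intro t _ hq
    refine Finset.sum_le_sum fun i _ => ?_
    by_cases hi : i ∈ J
    · refine mul_le_mul_of_nonneg_left ?_ (Nat.cast_nonneg _)
      have h6 := sq_le_Q (h2 i hi) t
      rw [dot_single, hq] at h6
      nlinarith [sq_nonneg (t i), sq_nonneg (t i - 1)]
    · rw [h5 i hi, Nat.cast_zero, zero_mul, zero_mul]
  obtain ⟨t₀, ht₀, hq₀⟩ := hm
  have hex2 : ∃ c : ℕ, ∃ t, T t ∧ Q RJ t = m ∧ φ t = (∑ i, (r i : ℤ) * m) - c := by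
    refine ⟨((∑ i, (r i : ℤ) * m) - φ t₀).toNat, t₀, ht₀, hq₀, ?_⟩
    have := hφ t₀ ht₀ hq₀
    omega
  obtain ⟨c, ⟨t, hT, hq, hc⟩, hcmin⟩ : ∃ c : ℕ, (∃ t, T t ∧ Q RJ t = m ∧ φ t = (∑ i, (r i : ℤ) * m) - c) ∧
      ∀ t, T t → Q RJ t = m → φ t ≤ (∑ i, (r i : ℤ) * m) - c := by
    refine ⟨Nat.find hex2, Nat.find_spec hex2, fun t h hq => ?_⟩
    by_contra hcon
    push Not at hcon
    have h6 := hφ t h hq
    refine Nat.find_min hex2 (m := ((∑ i, (r i : ℤ) * m) - φ t).toNat) ?_ ⟨t, h, hq, ?_⟩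
    · omega
    · omega
  have hdom : ∀ j ∈ J, 0 ≤ t j := by
    intro j hj
    by_contra hcon
    push Not at hcon
    have h6 := hcmin (sv A j t) (hs j hj t hT) (by rw [Q_sv (h1 j hj), hq])
    have h7 : φ (sv A j t) = φ t - 2 * t j := by
      show ∑ i, (r i : ℤ) * (t i - A i j * t j) = ∑ i, (r i : ℤ) * t i - 2 * t j
      rw [← h4 j hj, Finset.sum_mul, ← Finset.sum_sub_distrib]
      exact Finset.sum_congr rfl fun i _ => by ring
    omega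
  -- normalize the other coordinates
  let d : Fin n → ℤ := fun i => if i ∈ J then 0 else -(t i / N)
  have hJ : ∀ j ∈ J, (t + N • d) j = t j := by
    intro j hj
    show t j + N * (if j ∈ J then 0 else -(t j / N)) = t j
    rw [if_pos hj, mul_zero, add_zero]
  have hdot : ∀ a ∈ RJ, ∀ e : Fin n → ℤ, dot a (t + N • d + e) = dot a (t + e) := by
    intro a ha e
    rw [dot_add, dot_add, dot_add]
    have h6 : dot a (N • d) = 0 := by
      unfold dot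
      refine Finset.sum_eq_zero fun i _ => ?_
      by_cases hi : i ∈ J
      · show a i * (N * (if i ∈ J then 0 else -(t i / N))) = 0
        rw [if_pos hi, mul_zero, mul_zero]
      · rw [h3 a ha i hi, zero_mul]
    rw [h6, add_zero]
  have hQe : ∀ e : Fin n → ℤ, Q RJ (t + N • d + e) = Q RJ (t + e) := by
    intro e
    unfold Q
    congr 1
    exact List.map_congr_left fun a ha => by rw [hdot a ha]
  refine ⟨t + N • d, ht _ _ hT, fun j hj => by rw [hJ j hj]; exact hdom j hj, fun i hi => ?_, fun e => ?_⟩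
  · have h6 : (t + N • d) i = t i % N := by
      show t i + N * (if i ∈ J then 0 else -(t i / N)) = t i % N
      rw [if_neg hi, Int.emod_def]
      ring
    rw [h6]
    exact ⟨Int.emod_nonneg _ hN.ne', Int.emod_lt_of_pos _ hN⟩
  · have h6 := hQe 0
    rw [add_zero, add_zero] at h6
    rw [hQe, h6, hq]
    exact hmin _ (ht _ _ hT)

end Cfsg.Agent.H943.Alc
end

-- part: H943/AlcE8
section
/-!
# The root system `E8`: tables (helper943)
-/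

set_option autoImplicit false

namespace Cfsg.Agent.H943.Alc

/-- the positive roots of `E8` -/
def P8 : List (List ℤ) :=
  [
   [0, 0, 0, 0, 0, 0, 0, 1], [0, 0, 0, 0, 0, 0, 1, 0], [0, 0, 0, 0, 0, 0, 1, 1], [0, 0, 0, 0, 0, 1, 0, 0], [0, 0, 0, 0, 0, 1, 1, 0], [0, 0, 0, 0, 0, 1, 1, 1],
   [0, 0, 0, 0, 1, 0, 0, 0], [0, 0, 0, 0, 1, 1, 0, 0], [0, 0, 0, 0, 1, 1, 1, 0], [0, 0, 0, 0, 1, 1, 1, 1], [0, 0, 0, 1, 0, 0, 0, 0], [0, 0, 0, 1, 1, 0, 0, 0],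
   [0, 0, 0, 1, 1, 1, 0, 0], [0, 0, 0, 1, 1, 1, 1, 0], [0, 0, 0, 1, 1, 1, 1, 1], [0, 0, 1, 0, 0, 0, 0, 0], [0, 0, 1, 1, 0, 0, 0, 0], [0, 0, 1, 1, 1, 0, 0, 0],
   [0, 0, 1, 1, 1, 1, 0, 0], [0, 0, 1, 1, 1, 1, 1, 0], [0, 0, 1, 1, 1, 1, 1, 1], [0, 1, 0, 0, 0, 0, 0, 0], [0, 1, 0, 1, 0, 0, 0, 0], [0, 1, 0, 1, 1, 0, 0, 0],
   [0, 1, 0, 1, 1, 1, 0, 0], [0, 1, 0, 1, 1, 1, 1, 0], [0, 1, 0, 1, 1, 1, 1, 1], [0, 1, 1, 1, 0, 0, 0, 0], [0, 1, 1, 1, 1, 0, 0, 0], [0, 1, 1, 1, 1, 1, 0, 0],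
   [0, 1, 1, 1, 1, 1, 1, 0], [0, 1, 1, 1, 1, 1, 1, 1], [0, 1, 1, 2, 1, 0, 0, 0], [0, 1, 1, 2, 1, 1, 0, 0], [0, 1, 1, 2, 1, 1, 1, 0], [0, 1, 1, 2, 1, 1, 1, 1],
   [0, 1, 1, 2, 2, 1, 0, 0], [0, 1, 1, 2, 2, 1, 1, 0], [0, 1, 1, 2, 2, 1, 1, 1], [0, 1, 1, 2, 2, 2, 1, 0], [0, 1, 1, 2, 2, 2, 1, 1], [0, 1, 1, 2, 2, 2, 2, 1],
   [1, 0, 0, 0, 0, 0, 0, 0], [1, 0, 1, 0, 0, 0, 0, 0], [1, 0, 1, 1, 0, 0, 0, 0], [1, 0, 1, 1, 1, 0, 0, 0], [1, 0, 1, 1, 1, 1, 0, 0], [1, 0, 1, 1, 1, 1, 1, 0],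
   [1, 0, 1, 1, 1, 1, 1, 1], [1, 1, 1, 1, 0, 0, 0, 0], [1, 1, 1, 1, 1, 0, 0, 0], [1, 1, 1, 1, 1, 1, 0, 0], [1, 1, 1, 1, 1, 1, 1, 0], [1, 1, 1, 1, 1, 1, 1, 1],
   [1, 1, 1, 2, 1, 0, 0, 0], [1, 1, 1, 2, 1, 1, 0, 0], [1, 1, 1, 2, 1, 1, 1, 0], [1, 1, 1, 2, 1, 1, 1, 1], [1, 1, 1, 2, 2, 1, 0, 0], [1, 1, 1, 2, 2, 1, 1, 0],
   [1, 1, 1, 2, 2, 1, 1, 1], [1, 1, 1, 2, 2, 2, 1, 0], [1, 1, 1, 2, 2, 2, 1, 1], [1, 1, 1, 2, 2, 2, 2, 1], [1, 1, 2, 2, 1, 0, 0, 0], [1, 1, 2, 2, 1, 1, 0, 0],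
   [1, 1, 2, 2, 1, 1, 1, 0], [1, 1, 2, 2, 1, 1, 1, 1], [1, 1, 2, 2, 2, 1, 0, 0], [1, 1, 2, 2, 2, 1, 1, 0], [1, 1, 2, 2, 2, 1, 1, 1], [1, 1, 2, 2, 2, 2, 1, 0],
   [1, 1, 2, 2, 2, 2, 1, 1], [1, 1, 2, 2, 2, 2, 2, 1], [1, 1, 2, 3, 2, 1, 0, 0], [1, 1, 2, 3, 2, 1, 1, 0], [1, 1, 2, 3, 2, 1, 1, 1], [1, 1, 2, 3, 2, 2, 1, 0],
   [1, 1, 2, 3, 2, 2, 1, 1], [1, 1, 2, 3, 2, 2, 2, 1], [1, 1, 2, 3, 3, 2, 1, 0], [1, 1, 2, 3, 3, 2, 1, 1], [1, 1, 2, 3, 3, 2, 2, 1], [1, 1, 2, 3, 3, 3, 2, 1],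
   [1, 2, 2, 3, 2, 1, 0, 0], [1, 2, 2, 3, 2, 1, 1, 0], [1, 2, 2, 3, 2, 1, 1, 1], [1, 2, 2, 3, 2, 2, 1, 0], [1, 2, 2, 3, 2, 2, 1, 1], [1, 2, 2, 3, 2, 2, 2, 1],
   [1, 2, 2, 3, 3, 2, 1, 0], [1, 2, 2, 3, 3, 2, 1, 1], [1, 2, 2, 3, 3, 2, 2, 1], [1, 2, 2, 3, 3, 3, 2, 1], [1, 2, 2, 4, 3, 2, 1, 0], [1, 2, 2, 4, 3, 2, 1, 1],
   [1, 2, 2, 4, 3, 2, 2, 1], [1, 2, 2, 4, 3, 3, 2, 1], [1, 2, 2, 4, 4, 3, 2, 1], [1, 2, 3, 4, 3, 2, 1, 0], [1, 2, 3, 4, 3, 2, 1, 1], [1, 2, 3, 4, 3, 2, 2, 1],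
   [1, 2, 3, 4, 3, 3, 2, 1], [1, 2, 3, 4, 4, 3, 2, 1], [1, 2, 3, 5, 4, 3, 2, 1], [1, 3, 3, 5, 4, 3, 2, 1], [2, 2, 3, 4, 3, 2, 1, 0], [2, 2, 3, 4, 3, 2, 1, 1],
   [2, 2, 3, 4, 3, 2, 2, 1], [2, 2, 3, 4, 3, 3, 2, 1], [2, 2, 3, 4, 4, 3, 2, 1], [2, 2, 3, 5, 4, 3, 2, 1], [2, 2, 4, 5, 4, 3, 2, 1], [2, 3, 3, 5, 4, 3, 2, 1],
   [2, 3, 4, 5, 4, 3, 2, 1], [2, 3, 4, 6, 4, 3, 2, 1], [2, 3, 4, 6, 5, 3, 2, 1], [2, 3, 4, 6, 5, 4, 2, 1], [2, 3, 4, 6, 5, 4, 3, 1], [2, 3, 4, 6, 5, 4, 3, 2]]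

/-- the roots of `E8` -/
def R8 : List (List ℤ) := (P8.reverse.map fun a => a.map fun x => -x) ++ P8

/-- a list as a function -/
def toF (a : List ℤ) : Fin 8 → ℤ := fun i => a.getD i 0

/-- the Cartan matrix -/
def A8L : List (List ℤ) :=
  [[2, 0, -1, 0, 0, 0, 0, 0], [0, 2, 0, -1, 0, 0, 0, 0], [-1, 0, 2, -1, 0, 0, 0, 0], [0, -1, -1, 2, -1, 0, 0, 0],
   [0, 0, 0, -1, 2, -1, 0, 0], [0, 0, 0, 0, -1, 2, -1, 0], [0, 0, 0, 0, 0, -1, 2, -1], [0, 0, 0, 0, 0, 0, -1, 2]]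

/-- the Cartan matrix -/
def A8 (i j : Fin 8) : ℤ := (A8L.getD i []).getD j 0

/-- the scalar product of lists -/
def dotL : List ℤ → List ℤ → ℤ
  | [], _ => 0
  | _ :: _, [] => 0
  | a :: as, b :: bs => a * b + dotL as bs

/-- the reflection of lists -/
def srL (j : ℕ) (a : List ℤ) : List ℤ := a.set j (a.getD j 0 - dotL a (A8L.getD j []))

theorem A8_symm : ∀ i j : Fin 8, A8 i j = A8 j i := by decide +kernel

end Cfsg.Agent.H943.Alc
end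

-- part: H943/AlcTab
section
/-!
# The root system `E8` as functions (helper943)
-/

set_option autoImplicit false

namespace Cfsg.Agent.H943.Alc

theorem exists_eight {a : List ℤ} (h : a.length = 8) : ∃ a0 a1 a2 a3 a4 a5 a6 a7, a = [a0, a1, a2, a3, a4, a5, a6, a7] := by
  match a, h with
  | [a0, a1, a2, a3, a4, a5, a6, a7], _ => exact ⟨a0, a1, a2, a3, a4, a5, a6, a7, rfl⟩

theorem dot_toF {a b : List ℤ} (ha : a.length = 8) (hb : b.length = 8) : dot (toF a) (toF b) = dotL a b := by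
  obtain ⟨a0, a1, a2, a3, a4, a5, a6, a7, rfl⟩ := exists_eight ha
  obtain ⟨b0, b1, b2, b3, b4, b5, b6, b7, rfl⟩ := exists_eight hb
  unfold dot
  rw [Fin.sum_univ_eight]
  show a0 * b0 + a1 * b1 + a2 * b2 + a3 * b3 + a4 * b4 + a5 * b5 + a6 * b6 + a7 * b7 =
    a0 * b0 + (a1 * b1 + (a2 * b2 + (a3 * b3 + (a4 * b4 + (a5 * b5 + (a6 * b6 + (a7 * b7 + 0)))))))
  ring

theorem toF_A8L (j : Fin 8) : toF (A8L.getD j []) = fun l => A8 j l := rfl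

theorem len_A8L : ∀ j : Fin 8, (A8L.getD j []).length = 8 := by decide

theorem toF_srL {a : List ℤ} (ha : a.length = 8) (j : Fin 8) : toF (srL j a) = sr A8 j (toF a) := by
  funext i
  unfold sr toF srL
  have h1 : (∑ l : Fin 8, a.getD l 0 * A8 l j) = dotL a (A8L.getD j []) := by
    rw [← dot_toF ha (len_A8L j), toF_A8L]
    unfold dot toF
    exact Finset.sum_congr rfl fun l _ => by rw [A8_symm]
  rw [h1]
  by_cases hij : i = j
  · subst hij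
    rw [if_pos rfl, List.getD_eq_getElem?_getD, List.getElem?_set_self (by rw [ha]; exact i.2)]
    rfl
  · rw [if_neg hij, sub_zero, List.getD_eq_getElem?_getD, List.getElem?_set_ne (fun h => hij (Fin.ext h.symm)),
      List.getD_eq_getElem?_getD]

/-- the transfer of permutations -/
theorem perm_of_list {RJ : List (List ℤ)} (hlen : ∀ a ∈ RJ, a.length = 8) (j : Fin 8) (h : (RJ.map (srL j)).Perm RJ) :
    ((RJ.map toF).map (sr A8 j)).Perm (RJ.map toF) := by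
  have h1 : (RJ.map toF).map (sr A8 j) = (RJ.map (srL j)).map toF := by
    rw [List.map_map, List.map_map]
    exact List.map_congr_left fun a ha => (toF_srL (hlen a ha) j).symm
  rw [h1]
  exact h.map _

end Cfsg.Agent.H943.Alc
end

private theorem dce_8a902ab7a9b8 : _root_.True := by
  try have : _root_.True := by simp only [_root_.Cfsg.Agent.H943.Alc.dot.eq_1]
  try have : _root_.True := by simp only [_root_.Cfsg.Agent.H943.Alc.bv.eq_1]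
  exact _root_.True.intro
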