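import Mathlib
import Cfsg.Agent.H179.SLC.Coc_m3
import Cfsg.Agent.H593.RobinsonRank
import Cfsg.Agent.BpExc.AsmN_m3
import Cfsg.Agent.H943.PSLHom
import Cfsg.Agent.H943.AlcTab
import Cfsg.Agent.Prune
set_option linter.all false

-- part: H943/Cert
section
set_option linter.all false
open scoped Cfsg.Agent.FastGrp

/-!
# The functionals on the weights modulo 91 and modulo 4 (helper943)

`fc c` (`c < 4`) : four functions on the weights of the torus of order 728; the sum of the values on the weights of an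
irreducible module of dimension at most 248 of `PSL(2, 729)` is nonnegative (`fc_nonneg`).
-/

set_option autoImplicit false
set_option maxRecDepth 100000

namespace Cfsg.Agent.H943.Cert

/-- numbers with digits below the digits of `b` in base 3 -/
def digs : ℕ → ℕ → List ℕ
  | 0, _ => [0]
  | n + 1, b => (digs n (b / 3)).flatMap fun m => (List.range (b % 3 + 1)).map fun r => 3 * m + r

theorem mem_digs : ∀ (n b : ℕ), b < 3 ^ n → ∀ m, m ∈ digs n b ↔ m ≤ b ∧ ¬ 3 ∣ b.choose m := by
  intro n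
  induction n with
  | zero =>
    intro b hb m
    have hb0 : b = 0 := by simpa using hb
    subst hb0
    simp only [digs, List.mem_singleton]
    constructor
    · rintro rfl
      simp
    · rintro ⟨h, -⟩
      omega
  | succ n ih =>
    intro b hb m
    have hb' : b / 3 < 3 ^ n := by
      rw [Nat.div_lt_iff_lt_mul (by norm_num)]
      rwa [pow_succ] at hb
    simp only [digs, List.mem_flatMap, List.mem_map, List.mem_range]
    have hL := Choose.choose_modEq_choose_mod_mul_choose_div_nat (n := b) (k := m) (p := 3)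
    have hd : 3 ∣ b.choose m ↔ 3 ∣ (b % 3).choose (m % 3) ∨ 3 ∣ (b / 3).choose (m / 3) := by
      rw [hL.dvd_iff dvd_rfl, Nat.prime_three.dvd_mul]
    have hs : ∀ a < 3, ∀ r < 3, ¬ 3 ∣ a.choose r ↔ r ≤ a := by decide
    have hsm := hs (b % 3) (Nat.mod_lt _ (by norm_num)) (m % 3) (Nat.mod_lt _ (by norm_num))
    constructor
    · rintro ⟨m', hm', r, hr, rfl⟩
      have h1 := (ih _ hb' m').1 hm'
      have hr3 : r < 3 := by omega
      have e1 : (3 * m' + r) / 3 = m' := by omega
      have e2 : (3 * m' + r) % 3 = r := by omega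
      rw [e2] at hsm
      refine ⟨by omega, ?_⟩
      rw [hd, e1, e2]
      rintro (h | h)
      · exact hsm.2 (by omega) h
      · exact h1.2 h
    · rintro ⟨hmb, h3⟩
      rw [hd, not_or] at h3
      refine ⟨m / 3, (ih _ hb' _).2 ⟨by omega, h3.2⟩, m % 3, ?_, by omega⟩
      have := hsm.1 h3.1
      omega

theorem nodup_digs : ∀ (n b : ℕ), (digs n b).Nodup := by
  intro n
  induction n with
  | zero => intro b; simp [digs]
  | succ n ih =>
    intro b
    rw [digs, List.nodup_flatMap]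
    refine ⟨fun m _ => ?_, ?_⟩
    · refine List.Nodup.map (fun a c h => ?_) List.nodup_range
      simpa using h
    · refine (ih (b / 3)).imp ?_
      intro m m' hm x hx hx'
      rw [List.mem_map] at hx hx'
      obtain ⟨r, hr, rfl⟩ := hx
      obtain ⟨r', hr', h⟩ := hx'
      rw [List.mem_range] at hr hr'
      omega

theorem Bf_eq {k : Type*} [Field k] [DecidableEq k] [CharP k 3] {n b : ℕ} (hb : b < 3 ^ n) :
    SL2Mod.Bf k b = (digs n b).toFinset := by
  ext m
  rw [List.mem_toFinset, mem_digs n b hb]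
  unfold SL2Mod.Bf
  rw [Finset.mem_filter, Finset.mem_range, Nat.lt_succ_iff, Ne, CharP.cast_eq_zero_iff k 3]

/-- the fields of a number -/
def tb (B j : ℕ) : ℕ := (B >>> (16 * j)) % 65536

/-- the tables modulo 91 -/
def BY : ℕ → ℕ
  | 0 => 2709278338397437503301684728973895123558716232301511568479981323230704150460508091968232854156085928153460901850850996783069678463620650732309256683794178576753357822325060911904763643366749703176216301049386000346521647887062771136821647698562580221630648178539033470617056294873868479194648192758869959171719192168188347345576677189716053364453239539858595995916482118227501916860820647707793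
  | 1 => 594786181037908273681975096990224049323911822979866068649526076790719116098955883672388371360047902848513840962242175194868494937924074245618992750147229715939972651981413612113851012501142628014900865131333438421297394893928721178838418340203431150122038208934117871630408193959054051353150187697493987996849156264808514569028461766415288403398560519314340629007110103812116116727757041566062
  | 2 => 5789615945699257182282150045198998441280559587883925330462785982503291629703673408917498567140700137007240968104310958053196632727980939083777598856547556341651342275091910802923184404920522141529347243076900830621337589582706600619787660144818863080761113177830959139203388994044829753640471738582072203405898180492062288674723954900831995627279871548626393768505781117428151907007643847493876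
  | _ => 83215497805762411739845402107705239551830302397531206974550465928717813967812975508634670372917848303679608506760084712798941235251254660253179661219120969443306270649864724514122825900512382675577625984205758216195332119060039630174406265774091088559823674146387900704404497725928582143076081044909608438682334071065255568969446285397870544299295328475384413002265736237834307561921045135414

/-- the tables modulo 4 -/
def BG : ℕ → ℕ
  | 0 => 0
  | 1 => 51511492708073472
  | 2 => 43910096377086264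
  | _ => 1688849860657164

/-- the constants -/
def CC : ℕ → ℕ
  | 0 => 1169
  | 1 => 366
  | 2 => 2604
  | _ => 30

/-- the positive functionals -/
def fp (c κ : ℕ) : ℕ := tb (BY c) (κ % 91) + tb (BG c) (κ % 4)

/-- the functionals -/
def fc (c κ : ℕ) : ℤ := (fp c κ : ℤ) - CC c

/-- the sum over a list -/
def lsum (g : ℕ → ℕ) : List ℕ → ℕ
  | [] => 0
  | a :: as => g a + lsum g as

theorem lsum_eq (g : ℕ → ℕ) (L : List ℕ) : lsum g L = (L.map g).sum := by
  induction L with
  | nil => rfl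
  | cons a L ih => rw [lsum, ih, List.map_cons, List.sum_cons]

/-- the check for one module -/
def chk1 (c b : ℕ) : Bool :=
  Nat.blt 248 (digs 6 b).length || Nat.ble (CC c * (digs 6 b).length) (lsum (fun m => fp c (SL2Mod.wtOf 728 b m)) (digs 6 b))

private noncomputable def frc {α : Type} (n : ℕ) (k : ℕ → α) : α := @Nat.rec (fun _ => α) (k 0) (fun m _ => k m.succ) n

private theorem frc_eq {α : Type} (n : ℕ) (k : ℕ → α) : frc n k = k n := by cases n <;> rfl

/-- the weights -/
private noncomputable def wl (b : ℕ) : List ℕ := (digs 6 b).map fun m => Nat.mod (Nat.add m (Nat.mul 727 (Nat.sub b m))) 728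

/-- the sum over the weights -/
private noncomputable def ls (c : ℕ) (l : List ℕ) : ℕ := @List.rec ℕ (fun _ => ℕ) 0 (fun x _ r => Nat.add (frc x (fp c)) r) l

private theorem ls_eq (c b : ℕ) : ls c (wl b) = lsum (fun m => fp c (SL2Mod.wtOf 728 b m)) (digs 6 b) := by
  rw [wl]
  induction digs 6 b with
  | nil => rfl
  | cons m l ih => exact congrArg₂ Nat.add (frc_eq _ _) ih

private theorem _root_.Cfsg.Agent.KO7489a3b.e0.{ku, kv} {α : Type kv} {M : List α → Sort ku} (φ : ∀ l, M l) {z : M List.nil} {s : ∀ a l, M l → M (List.cons a l)} (h0 : φ List.nil = z) (hs : ∀ a l, φ (List.cons a l) = s a l (φ l)) (l : List α) : φ l = @List.rec α M z s l := List.rec h0 (fun a l ih => (hs a l).trans (congrArg (s a l) ih)) l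
private noncomputable def _root_.Cfsg.Agent.KO7489a3b.k1.{ku0} : type_of% @List.all.{ku0} := @(fun x0 x1 x2 => @List.rec.{(ku0+1), ku0} @x0 @(fun x3 => (@x0 → @Bool) → @Bool) @(fun x3 => @Bool.true) @(fun x3 x4 x5 x6 => @Bool.rec.{1} @(fun x7 => @Bool) @Bool.false (@x5 @x6) (@x6 @x3)) @x1 @x2)
private theorem _root_.Cfsg.Agent.KO7489a3b.e1.{ku0} : @List.all.{ku0} = @_root_.Cfsg.Agent.KO7489a3b.k1.{ku0} := by delta _root_.Cfsg.Agent.KO7489a3b.k1; funext a0 a1 a2; refine (congrFun (_root_.Cfsg.Agent.KO7489a3b.e0 (fun a1 a2 => @List.all.{ku0} a0 a1 a2) ?_ (fun c0 c1 => ?_) a1) a2 :) <;> (rfl')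
private theorem _root_.Cfsg.Agent.KO7489a3b.e2.{ku} {M : Nat → Sort ku} (φ : ∀ n, M n) {z : M Nat.zero} {s : ∀ n, M n → M (Nat.succ n)} (h0 : φ Nat.zero = z) (hs : ∀ n, φ (Nat.succ n) = s n (φ n)) (n : Nat) : φ n = @Nat.rec M z s n := Nat.rec h0 (fun n ih => (hs n).trans (congrArg (s n) ih)) n
private noncomputable def _root_.Cfsg.Agent.KO7489a3b.k3 : type_of% @List.range.loop := @(fun x0 x1 => @Nat.rec.{1} @(fun x2 => (@List.{0} ℕ) → @List.{0} ℕ) @(fun x2 => @x2) @(fun x2 x3 x4 => @x3 (@x2 :: @x4)) @x0 @x1)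
private theorem _root_.Cfsg.Agent.KO7489a3b.e3 : @List.range.loop = @_root_.Cfsg.Agent.KO7489a3b.k3 := by delta _root_.Cfsg.Agent.KO7489a3b.k3; funext a0 a1; refine (congrFun (_root_.Cfsg.Agent.KO7489a3b.e2 (fun a0 a1 => @List.range.loop a0 a1) ?_ (fun c0 => ?_) a0) a1 :) <;> (rfl')
private noncomputable def _root_.Cfsg.Agent.KO7489a3b.k4 : type_of% @List.range := @(fun x0 => @Cfsg.Agent.KO7489a3b.k3 @x0 [])
private theorem _root_.Cfsg.Agent.KO7489a3b.e4 : @List.range = @_root_.Cfsg.Agent.KO7489a3b.k4 := by delta _root_.Cfsg.Agent.KO7489a3b.k4; rewrite [← Cfsg.Agent.KO7489a3b.e3]; rfl'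
private noncomputable def _root_.Cfsg.Agent.KO7489a3b.k5 : (by first | exact type_of% @Cfsg.Agent.H943.Cert.frc | exact Unit : Sort _) := by first | (refine @Subtype.val _ (fun g => @Cfsg.Agent.H943.Cert.frc = @g) (@Subtype.mk _ _ (@(fun x0 x1 x2 => @Nat.rec.{1} @(fun x3 => @x0) (@x2 (nat_lit 0)) @(fun x3 x4 => @x2 (@Nat.succ @x3)) @x1)) ?_); rfl') | exact @Cfsg.Agent.H943.Cert.frc | exact ()
private theorem _root_.Cfsg.Agent.KO7489a3b.e5 : (by first | exact @Cfsg.Agent.H943.Cert.frc = @_root_.Cfsg.Agent.KO7489a3b.k5 | exact True : Prop) := by first | (delta _root_.Cfsg.Agent.KO7489a3b.k5; exact @Subtype.property _ (fun g => @Cfsg.Agent.H943.Cert.frc = @g) _) | rfl | trivial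
private noncomputable def _root_.Cfsg.Agent.KO7489a3b.k6.{ku0} : type_of% @List.length.{ku0} := @(fun x0 x1 => @List.rec.{1, ku0} @x0 @(fun x2 => ℕ) (nat_lit 0) @(fun x2 x3 x4 => @Nat.add @x4 (nat_lit 1)) @x1)
private theorem _root_.Cfsg.Agent.KO7489a3b.e6.{ku0} : @List.length.{ku0} = @_root_.Cfsg.Agent.KO7489a3b.k6.{ku0} := by delta _root_.Cfsg.Agent.KO7489a3b.k6; funext a0 a1; refine (_root_.Cfsg.Agent.KO7489a3b.e0 (fun a1 => @List.length.{ku0} a0 a1) ?_ (fun c0 c1 => ?_) a1 :) <;> (rfl')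
private noncomputable def _root_.Cfsg.Agent.KO7489a3b.k7.{ku0} : type_of% @List.append.{ku0} := @(fun x0 x1 x2 => @List.rec.{(ku0+1), ku0} @x0 @(fun x3 => (@List.{ku0} @x0) → @List.{ku0} @x0) @(fun x3 => @x3) @(fun x3 x4 x5 x6 => @x3 :: (@x5 @x6)) @x1 @x2)
private theorem _root_.Cfsg.Agent.KO7489a3b.e7.{ku0} : @List.append.{ku0} = @_root_.Cfsg.Agent.KO7489a3b.k7.{ku0} := by delta _root_.Cfsg.Agent.KO7489a3b.k7; funext a0 a1 a2; refine (congrFun (_root_.Cfsg.Agent.KO7489a3b.e0 (fun a1 a2 => @List.append.{ku0} a0 a1 a2) ?_ (fun c0 c1 => ?_) a1) a2 :) <;> (rfl')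
private noncomputable def _root_.Cfsg.Agent.KO7489a3b.k8.{ku0} : type_of% @List.flatten.{ku0} := @(fun x0 x1 => @List.rec.{(ku0+1), ku0} (@List.{ku0} @x0) @(fun x2 => @List.{ku0} @x0) [] @(fun x2 x3 x4 => @Cfsg.Agent.KO7489a3b.k7.{ku0} _ @x2 @x4) @x1)
private theorem _root_.Cfsg.Agent.KO7489a3b.e8.{ku0} : @List.flatten.{ku0} = @_root_.Cfsg.Agent.KO7489a3b.k8.{ku0} := by delta _root_.Cfsg.Agent.KO7489a3b.k8; rewrite [← Cfsg.Agent.KO7489a3b.e7.{ku0}]; funext a0 a1; refine (_root_.Cfsg.Agent.KO7489a3b.e0 (fun a1 => @List.flatten.{ku0} a0 a1) ?_ (fun c0 c1 => ?_) a1 :) <;> (rfl')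
private noncomputable def _root_.Cfsg.Agent.KO7489a3b.k9.{ku0, ku1} : type_of% @List.map.{ku0, ku1} := @(fun x0 x1 x2 x3 => @List.rec.{(ku1+1), ku0} @x0 @(fun x4 => @List.{ku1} @x1) [] @(fun x4 x5 x6 => (@x2 @x4) :: @x6) @x3)
private theorem _root_.Cfsg.Agent.KO7489a3b.e9.{ku0, ku1} : @List.map.{ku0, ku1} = @_root_.Cfsg.Agent.KO7489a3b.k9.{ku0, ku1} := by delta _root_.Cfsg.Agent.KO7489a3b.k9; funext a0 a1 a2 a3; refine (_root_.Cfsg.Agent.KO7489a3b.e0 (fun a3 => @List.map.{ku0, ku1} a0 a1 a2 a3) ?_ (fun c0 c1 => ?_) a3 :) <;> (rfl')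
private noncomputable def _root_.Cfsg.Agent.KO7489a3b.k10 : (by first | exact type_of% @Cfsg.Agent.H943.Cert.digs | exact Unit : Sort _) := by first | (refine @Subtype.val _ (fun g => @Cfsg.Agent.H943.Cert.digs = @g) (@Subtype.mk _ _ (@(fun x0 x1 => @Nat.rec.{1} @(fun x2 => ℕ → @List.{0} ℕ) @(fun x2 => (nat_lit 0) :: []) @(fun x2 x3 x4 => @Cfsg.Agent.KO7489a3b.k8.{0} _ (@Cfsg.Agent.KO7489a3b.k9.{0, 0} _ _ @(fun x5 => @Cfsg.Agent.KO7489a3b.k9.{0, 0} _ _ @(fun x6 => @Nat.add (@Nat.mul (nat_lit 3) @x5) @x6) (@Cfsg.Agent.KO7489a3b.k3 (@Nat.add (@Nat.mod @x4 (nat_lit 3)) (nat_lit 1)) [])) (@x3 (@Nat.div @x4 (nat_lit 3))))) @x0 @x1)) ?_); rewrite [← Cfsg.Agent.KO7489a3b.e3, ← Cfsg.Agent.KO7489a3b.e9.{0, 0}, ← Cfsg.Agent.KO7489a3b.e8.{0}]; funext a0 a1; refine (congrFun (_root_.Cfsg.Agent.KO7489a3b.e2 (fun a0 a1 => @Cfsg.Agent.H943.Cert.digs a0 a1) ?_ (fun c0 => ?_) a0) a1 :) <;> (rfl')) | exact @Cfsg.Agent.H943.Cert.digs | exact ()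
private theorem _root_.Cfsg.Agent.KO7489a3b.e10 : (by first | exact @Cfsg.Agent.H943.Cert.digs = @_root_.Cfsg.Agent.KO7489a3b.k10 | exact True : Prop) := by first | (delta _root_.Cfsg.Agent.KO7489a3b.k10; exact @Subtype.property _ (fun g => @Cfsg.Agent.H943.Cert.digs = @g) _) | rfl | trivial
private noncomputable def _root_.Cfsg.Agent.KO7489a3b.k11 : type_of% @Bool.or := @(fun x0 x1 => @Bool.rec.{1} @(fun x2 => @Bool) @x1 @Bool.true @x0)
private theorem _root_.Cfsg.Agent.KO7489a3b.e11 : @Bool.or = @_root_.Cfsg.Agent.KO7489a3b.k11 := by delta _root_.Cfsg.Agent.KO7489a3b.k11; rfl'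
private noncomputable def _root_.Cfsg.Agent.KO7489a3b.k12 : type_of% @Nat.decEq := @(fun x0 x1 => @Bool.rec.{1} @(fun x2 => (@Eq.{1} _ (@Nat.beq @x0 @x1) @x2) → @Decidable (@Eq.{1} _ @x0 @x1)) @(fun x2 => @Decidable.isFalse _ (@Nat.ne_of_beq_eq_false _ _ @x2)) @(fun x2 => @Decidable.isTrue _ (@Nat.eq_of_beq_eq_true _ _ @x2)) (@Nat.beq @x0 @x1) (@Eq.refl.{1} _ (@Nat.beq @x0 @x1)))
private theorem _root_.Cfsg.Agent.KO7489a3b.e12 : @Nat.decEq = @_root_.Cfsg.Agent.KO7489a3b.k12 := by delta _root_.Cfsg.Agent.KO7489a3b.k12; rfl'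
private noncomputable def _root_.Cfsg.Agent.KO7489a3b.k13 : (by first | exact type_of% @Cfsg.Agent.H943.Cert.CC | exact Unit : Sort _) := by first | (refine @Subtype.val _ (fun g => @Cfsg.Agent.H943.Cert.CC = @g) (@Subtype.mk _ _ (@(fun x0 => @Decidable.rec.{1} _ @(fun x1 => ℕ) @(fun x1 => @Decidable.rec.{1} _ @(fun x2 => ℕ) @(fun x2 => @Decidable.rec.{1} _ @(fun x3 => ℕ) @(fun x3 => nat_lit 30) @(fun x3 => @Eq.rec.{1, 1} ℕ (nat_lit 2) @(fun x4 x5 => ℕ) (nat_lit 2604) @x0 (@Eq.symm.{1} _ _ _ @x3)) (@Cfsg.Agent.KO7489a3b.k12 @x0 (nat_lit 2))) @(fun x2 => @Eq.rec.{1, 1} ℕ (nat_lit 1) @(fun x3 x4 => ℕ) (nat_lit 366) @x0 (@Eq.symm.{1} _ _ _ @x2)) (@Cfsg.Agent.KO7489a3b.k12 @x0 (nat_lit 1))) @(fun x1 => @Eq.rec.{1, 1} ℕ (nat_lit 0) @(fun x2 x3 => ℕ) (nat_lit 1169) @x0 (@Eq.symm.{1} _ _ _ @x1)) (@Cfsg.Agent.KO7489a3b.k12 @x0 (nat_lit 0)))) ?_); rewrite [← Cfsg.Agent.KO7489a3b.e12]; rfl') | exact @Cfsg.Agent.H943.Cert.CC | exact ()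
private theorem _root_.Cfsg.Agent.KO7489a3b.e13 : (by first | exact @Cfsg.Agent.H943.Cert.CC = @_root_.Cfsg.Agent.KO7489a3b.k13 | exact True : Prop) := by first | (delta _root_.Cfsg.Agent.KO7489a3b.k13; exact @Subtype.property _ (fun g => @Cfsg.Agent.H943.Cert.CC = @g) _) | rfl | trivial
private noncomputable def _root_.Cfsg.Agent.KO7489a3b.k14 : (by first | exact type_of% @Cfsg.Agent.H943.Cert.tb | exact Unit : Sort _) := by first | (refine @Subtype.val _ (fun g => @Cfsg.Agent.H943.Cert.tb = @g) (@Subtype.mk _ _ (@(fun x0 x1 => @Nat.mod (@Nat.shiftRight @x0 (@Nat.mul (nat_lit 16) @x1)) (nat_lit 65536))) ?_); rfl') | exact @Cfsg.Agent.H943.Cert.tb | exact ()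
private theorem _root_.Cfsg.Agent.KO7489a3b.e14 : (by first | exact @Cfsg.Agent.H943.Cert.tb = @_root_.Cfsg.Agent.KO7489a3b.k14 | exact True : Prop) := by first | (delta _root_.Cfsg.Agent.KO7489a3b.k14; exact @Subtype.property _ (fun g => @Cfsg.Agent.H943.Cert.tb = @g) _) | rfl | trivial
private noncomputable def _root_.Cfsg.Agent.KO7489a3b.k15 : (by first | exact type_of% @Cfsg.Agent.H943.Cert.BY | exact Unit : Sort _) := by first | (refine @Subtype.val _ (fun g => @Cfsg.Agent.H943.Cert.BY = @g) (@Subtype.mk _ _ (@(fun x0 => @Decidable.rec.{1} _ @(fun x1 => ℕ) @(fun x1 => @Decidable.rec.{1} _ @(fun x2 => ℕ) @(fun x2 => @Decidable.rec.{1} _ @(fun x3 => ℕ) @(fun x3 => nat_lit 83215497805762411739845402107705239551830302397531206974550465928717813967812975508634670372917848303679608506760084712798941235251254660253179661219120969443306270649864724514122825900512382675577625984205758216195332119060039630174406265774091088559823674146387900704404497725928582143076081044909608438682334071065255568969446285397870544299295328475384413002265736237834307561921045135414)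 @(fun x3 => @Eq.rec.{1, 1} ℕ (nat_lit 2) @(fun x4 x5 => ℕ) (nat_lit 5789615945699257182282150045198998441280559587883925330462785982503291629703673408917498567140700137007240968104310958053196632727980939083777598856547556341651342275091910802923184404920522141529347243076900830621337589582706600619787660144818863080761113177830959139203388994044829753640471738582072203405898180492062288674723954900831995627279871548626393768505781117428151907007643847493876) @x0 (@Eq.symm.{1} _ _ _ @x3)) (@Cfsg.Agent.KO7489a3b.k12 @x0 (nat_lit 2))) @(fun x2 => @Eq.rec.{1, 1} ℕ (nat_lit 1) @(fun x3 x4 => ℕ) (nat_lit 594786181037908273681975096990224049323911822979866068649526076790719116098955883672388371360047902848513840962242175194868494937924074245618992750147229715939972651981413612113851012501142628014900865131333438421297394893928721178838418340203431150122038208934117871630408193959054051353150187697493987996849156264808514569028461766415288403398560519314340629007110103812116116727757041566062)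 @x0 (@Eq.symm.{1} _ _ _ @x2)) (@Cfsg.Agent.KO7489a3b.k12 @x0 (nat_lit 1))) @(fun x1 => @Eq.rec.{1, 1} ℕ (nat_lit 0) @(fun x2 x3 => ℕ) (nat_lit 2709278338397437503301684728973895123558716232301511568479981323230704150460508091968232854156085928153460901850850996783069678463620650732309256683794178576753357822325060911904763643366749703176216301049386000346521647887062771136821647698562580221630648178539033470617056294873868479194648192758869959171719192168188347345576677189716053364453239539858595995916482118227501916860820647707793) @x0 (@Eq.symm.{1} _ _ _ @x1)) (@Cfsg.Agent.KO7489a3b.k12 @x0 (nat_lit 0)))) ?_); rewrite [← Cfsg.Agent.KO7489a3b.e12]; rfl') | exact @Cfsg.Agent.H943.Cert.BY | exact ()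
private theorem _root_.Cfsg.Agent.KO7489a3b.e15 : (by first | exact @Cfsg.Agent.H943.Cert.BY = @_root_.Cfsg.Agent.KO7489a3b.k15 | exact True : Prop) := by first | (delta _root_.Cfsg.Agent.KO7489a3b.k15; exact @Subtype.property _ (fun g => @Cfsg.Agent.H943.Cert.BY = @g) _) | rfl | trivial
private noncomputable def _root_.Cfsg.Agent.KO7489a3b.k16 : (by first | exact type_of% @Cfsg.Agent.H943.Cert.BG | exact Unit : Sort _) := by first | (refine @Subtype.val _ (fun g => @Cfsg.Agent.H943.Cert.BG = @g) (@Subtype.mk _ _ (@(fun x0 => @Decidable.rec.{1} _ @(fun x1 => ℕ) @(fun x1 => @Decidable.rec.{1} _ @(fun x2 => ℕ) @(fun x2 => @Decidable.rec.{1} _ @(fun x3 => ℕ) @(fun x3 => nat_lit 1688849860657164) @(fun x3 => @Eq.rec.{1, 1} ℕ (nat_lit 2) @(fun x4 x5 => ℕ) (nat_lit 43910096377086264) @x0 (@Eq.symm.{1} _ _ _ @x3)) (@Cfsg.Agent.KO7489a3b.k12 @x0 (nat_lit 2))) @(fun x2 => @Eq.rec.{1, 1} ℕ (nat_lit 1) @(fun x3 x4 => ℕ) (nat_lit 51511492708073472) @x0 (@Eq.symm.{1} _ _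 _ @x2)) (@Cfsg.Agent.KO7489a3b.k12 @x0 (nat_lit 1))) @(fun x1 => @Eq.rec.{1, 1} ℕ (nat_lit 0) @(fun x2 x3 => ℕ) (nat_lit 0) @x0 (@Eq.symm.{1} _ _ _ @x1)) (@Cfsg.Agent.KO7489a3b.k12 @x0 (nat_lit 0)))) ?_); rewrite [← Cfsg.Agent.KO7489a3b.e12]; rfl') | exact @Cfsg.Agent.H943.Cert.BG | exact ()
private theorem _root_.Cfsg.Agent.KO7489a3b.e16 : (by first | exact @Cfsg.Agent.H943.Cert.BG = @_root_.Cfsg.Agent.KO7489a3b.k16 | exact True : Prop) := by first | (delta _root_.Cfsg.Agent.KO7489a3b.k16; exact @Subtype.property _ (fun g => @Cfsg.Agent.H943.Cert.BG = @g) _) | rfl | trivial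
private noncomputable def _root_.Cfsg.Agent.KO7489a3b.k17 : (by first | exact type_of% @Cfsg.Agent.H943.Cert.fp | exact Unit : Sort _) := by first | (refine @Subtype.val _ (fun g => @Cfsg.Agent.H943.Cert.fp = @g) (@Subtype.mk _ _ (@(fun x0 x1 => @Nat.add (@Cfsg.Agent.KO7489a3b.k14 (@Cfsg.Agent.KO7489a3b.k15 @x0) (@Nat.mod @x1 (nat_lit 91))) (@Cfsg.Agent.KO7489a3b.k14 (@Cfsg.Agent.KO7489a3b.k16 @x0) (@Nat.mod @x1 (nat_lit 4))))) ?_); rewrite [← Cfsg.Agent.KO7489a3b.e16, ← Cfsg.Agent.KO7489a3b.e15, ← Cfsg.Agent.KO7489a3b.e14]; (try delta Cfsg.Agent.H943.Cert.fp); (try generalize @Cfsg.Agent.H943.Cert.tb = g0); (try generalize @Cfsg.Agent.H943.Cert.BY = g1); (try generalize @Cfsg.Agent.H943.Cert.BG = g2); rfl') | exact @Cfsg.Agent.H943.Cert.fp | exact ()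
private theorem _root_.Cfsg.Agent.KO7489a3b.e17 : (by first | exact @Cfsg.Agent.H943.Cert.fp = @_root_.Cfsg.Agent.KO7489a3b.k17 | exact True : Prop) := by first | (delta _root_.Cfsg.Agent.KO7489a3b.k17; exact @Subtype.property _ (fun g => @Cfsg.Agent.H943.Cert.fp = @g) _) | rfl | trivial
private noncomputable def _root_.Cfsg.Agent.KO7489a3b.k18 : (by first | exact type_of% @Cfsg.Agent.H943.Cert.ls | exact Unit : Sort _) := by first | (refine @Subtype.val _ (fun g => @Cfsg.Agent.H943.Cert.ls = @g) (@Subtype.mk _ _ (@(fun x0 x1 => @List.rec.{1, 0} ℕ @(fun x2 => ℕ) (nat_lit 0) @(fun x2 x3 x4 => @Nat.add (@Cfsg.Agent.KO7489a3b.k5 _ @x2 (@Cfsg.Agent.KO7489a3b.k17 @x0)) @x4) @x1)) ?_); rewrite [← Cfsg.Agent.KO7489a3b.e17, ← Cfsg.Agent.KO7489a3b.e5]; (try delta Cfsg.Agent.H943.Cert.ls); (try generalize @Cfsg.Agent.H943.Cert.frc = g0); (try generalize @Cfsg.Agent.H943.Cert.fp = g1); rfl') | exact @Cfsg.Agent.H943.Cert.ls | exact ()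
private theorem _root_.Cfsg.Agent.KO7489a3b.e18 : (by first | exact @Cfsg.Agent.H943.Cert.ls = @_root_.Cfsg.Agent.KO7489a3b.k18 | exact True : Prop) := by first | (delta _root_.Cfsg.Agent.KO7489a3b.k18; exact @Subtype.property _ (fun g => @Cfsg.Agent.H943.Cert.ls = @g) _) | rfl | trivial
private noncomputable def _root_.Cfsg.Agent.KO7489a3b.k19 : (by first | exact type_of% @Cfsg.Agent.H943.Cert.wl | exact Unit : Sort _) := by first | (refine @Subtype.val _ (fun g => @Cfsg.Agent.H943.Cert.wl = @g) (@Subtype.mk _ _ (@(fun x0 => @Cfsg.Agent.KO7489a3b.k9.{0, 0} _ _ @(fun x1 => @Nat.mod (@Nat.add @x1 (@Nat.mul (nat_lit 727) (@Nat.sub @x0 @x1))) (nat_lit 728)) (@Cfsg.Agent.KO7489a3b.k10 (nat_lit 6) @x0))) ?_); rewrite [← Cfsg.Agent.KO7489a3b.e10, ← Cfsg.Agent.KO7489a3b.e9.{0, 0}]; (try delta Cfsg.Agent.H943.Cert.wl); (try generalize @Cfsg.Agent.H943.Cert.digs = g0); rfl') | exact @Cfsg.Agent.H943.Cert.wl | exact ()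
private theorem _root_.Cfsg.Agent.KO7489a3b.e19 : (by first | exact @Cfsg.Agent.H943.Cert.wl = @_root_.Cfsg.Agent.KO7489a3b.k19 | exact True : Prop) := by first | (delta _root_.Cfsg.Agent.KO7489a3b.k19; exact @Subtype.property _ (fun g => @Cfsg.Agent.H943.Cert.wl = @g) _) | rfl | trivial

private theorem chk_all : ((List.range 365).all fun i => frc (2 * i) fun b => frc (digs 6 b).length fun n =>
    Nat.blt 248 n || [0, 1, 2, 3].all fun c => Nat.ble (CC c * n) (ls c (wl b))) = true := by (first | (rewrite [Cfsg.Agent.KO7489a3b.e1.{0}, Cfsg.Agent.KO7489a3b.e4, Cfsg.Agent.KO7489a3b.e5, Cfsg.Agent.KO7489a3b.e6.{0}, Cfsg.Agent.KO7489a3b.e10, Cfsg.Agent.KO7489a3b.e11, Cfsg.Agent.KO7489a3b.e13, Cfsg.Agent.KO7489a3b.e18, Cfsg.Agent.KO7489a3b.e19]; decide +kernel) | decide +kernel)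

private theorem chk_of {c : ℕ} (hc : c ∈ [0, 1, 2, 3]) : ((List.range 365).all fun i => chk1 c (2 * i)) = true := by
  have h := chk_all
  simp only [frc_eq, ls_eq, List.all_eq_true, Bool.or_eq_true] at h
  exact List.all_eq_true.2 fun i hi => Bool.or_eq_true_iff.2 ((h i hi).imp_right fun h => h c hc)

theorem chk_all0 : ((List.range 365).all fun i => chk1 0 (2 * i)) = true := chk_of (by decide)

theorem chk_all1 : ((List.range 365).all fun i => chk1 1 (2 * i)) = true := chk_of (by decide)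

theorem chk_all2 : ((List.range 365).all fun i => chk1 2 (2 * i)) = true := chk_of (by decide)

theorem chk_all3 : ((List.range 365).all fun i => chk1 3 (2 * i)) = true := chk_of (by decide)

theorem fc_nonneg {k : Type*} [Field k] [DecidableEq k] [CharP k 3] {c : ℕ} (hc : c < 4) {b : ℕ} (hb : b ≤ 728)
    (he : Even b) (hd : (SL2Mod.Bf k b).card ≤ 248) : 0 ≤ ∑ m ∈ SL2Mod.Bf k b, fc c (SL2Mod.wtOf 728 b m) := by
  have hb3 : b < 3 ^ 6 := by norm_num; omega
  have hnd := nodup_digs 6 b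
  rw [Bf_eq hb3] at hd ⊢
  rw [List.toFinset_card_of_nodup hnd] at hd
  rw [List.sum_toFinset _ hnd]
  have h1 : chk1 c b = true := by
    obtain ⟨i, rfl⟩ := he
    have hi : i ∈ List.range 365 := by rw [List.mem_range]; omega
    have e : i + i = 2 * i := by ring
    rw [e]
    interval_cases c
    · exact List.all_eq_true.1 chk_all0 i hi
    · exact List.all_eq_true.1 chk_all1 i hi
    · exact List.all_eq_true.1 chk_all2 i hi
    · exact List.all_eq_true.1 chk_all3 i hi
  rw [chk1, Bool.or_eq_true] at h1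
  rcases h1 with h1 | h1
  · have h2 : 248 < (digs 6 b).length := by simpa [Nat.blt_eq] using h1
    omega
  · rw [Nat.ble_eq, lsum_eq] at h1
    have h2 : ∀ L : List ℕ, ((L.map fun m => fc c (SL2Mod.wtOf 728 b m)).sum : ℤ) =
        (((L.map fun m => fp c (SL2Mod.wtOf 728 b m)).sum : ℕ) : ℤ) - CC c * L.length := by
      intro L
      induction L with
      | nil => simp
      | cons a L ih =>
        rw [List.map_cons, List.sum_cons, ih, List.map_cons, List.sum_cons, List.length_cons]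
        unfold fc
        push_cast
        ring
    rw [h2]
    have h3 : ((CC c * (digs 6 b).length : ℕ) : ℤ) ≤ (((digs 6 b).map fun m => fp c (SL2Mod.wtOf 728 b m)).sum : ℕ) := by
      exact_mod_cast h1
    push_cast at h3
    push_cast
    linarith

end Cfsg.Agent.H943.Cert

private theorem dce_84f31875a609 : _root_.True := by
  try have : _root_.True := by simp only [_root_.Cfsg.Agent.H943.Cert.lsum.eq_2]
  try have : _root_.True := by simp only [_root_.Cfsg.Agent.H943.Cert.digs.eq_def]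
  try have : _root_.True := by simp only [_root_.Cfsg.Agent.H943.Cert.digs.eq_2]
  try have : _root_.True := by simp only [_root_.Cfsg.Agent.H943.Cert.lsum.eq_def]
  try have : _root_.True := by simp only [_root_.Cfsg.Agent.H943.Cert.chk1.eq_1]
  try have : _root_.True := by simp only [_root_.Cfsg.Agent.H943.Cert.lsum.eq_1]
  try have : _root_.True := by simp only [_root_.Cfsg.Agent.H943.Cert.digs.eq_1]
  exact _root_.True.intro
end

-- part: H943/L243
section
prune_inst 0x7f00000000000000000000000000000000000000000000000000000000000000000000000000000000000000000000000000000000000000000000000000000000000000000000000000000000000000003fffffffffffffffffffffffffffbeffbdffffffff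
set_option linter.all false
open scoped Cfsg.Agent.FastGrp

-- part: H943/SL2St
section
/-!
# The Steinberg type (helper943)

* `finrank_inv` : the functions invariant under an involution without fixed points;
* `st_of_type` : `D` fixed by the torus and `S = -1` on `D`: the module has dimension `q`, and if `-1` is not a square
  the fixed space of `w` has dimension `(q - 1) / 2`.
-/

set_option autoImplicit false
set_option linter.unusedSectionVars false

namespace Cfsg.Agent.H943.SL2Mod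

open Matrix Cfsg.Agent.H943.SL2Rel Cfsg.Agent.H943.RepAdd

/-- the functions invariant under an involution without fixed points -/
theorem finrank_inv {k : Type*} [Field k] {X : Type*} [Fintype X] (σ : X → X) (h1 : ∀ x, σ (σ x) = x)
    (h2 : ∀ x, σ x ≠ x) (C : Submodule k (X → k)) (hC : ∀ f, f ∈ C ↔ ∀ x, f (σ x) = f x) :
    2 * Module.finrank k C = Fintype.card X := by
  classical
  let e := Fintype.equivFin X
  let S : Finset X := Finset.univ.filter fun x => e x < e (σ x)
  have hS : ∀ x, x ∈ S ↔ e x < e (σ x) := fun x => by simp only [S, _root_.Finset.mem_filter, _root_.Finset.mem_univ, _root_.true_and]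
  have hS2 : ∀ x, x ∉ S ↔ σ x ∈ S := by
    intro x
    rw [hS, hS, h1, not_lt]
    constructor
    · intro h
      exact lt_of_le_of_ne h fun h0 => h2 x (e.injective h0)
    · exact le_of_lt
  have hcard : 2 * S.card = Fintype.card X := by
    have h3 : S.card = Sᶜ.card := by
      refine Finset.card_bij (fun x _ => σ x) ?_ ?_ ?_
      · intro x hx
        rw [Finset.mem_compl, hS2, h1]
        exact hx
      · intro x _ y _ h
        rw [← h1 x, h, h1]
      · intro y hy
        exact ⟨σ y, (hS2 y).1 (Finset.mem_compl.1 hy), h1 y⟩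
    have h4 := Finset.card_add_card_compl S
    omega
  let r : C →ₗ[k] (S → k) :=
    { toFun := fun f s => (f : X → k) s
      map_add' := fun f g => rfl
      map_smul' := fun c f => rfl }
  have hr : Function.Bijective r := by
    constructor
    · intro f g h
      apply Subtype.ext
      funext x
      by_cases hx : x ∈ S
      · exact congrFun h ⟨x, hx⟩
      · have h3 := congrFun h ⟨σ x, (hS2 x).1 hx⟩
        have h4 : (f : X → k) (σ x) = (g : X → k) (σ x) := h3
        rwa [(hC _).1 f.2, (hC _).1 g.2] at h4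
    · intro g
      refine ⟨⟨fun x => if hx : x ∈ S then g ⟨x, hx⟩ else g ⟨σ x, (hS2 x).1 hx⟩, ?_⟩, ?_⟩
      · rw [hC]
        intro x
        by_cases hx : x ∈ S
        · have hσ : σ x ∉ S := by rw [hS2, h1]; exact hx
          have e1 : (⟨σ (σ x), (hS2 (σ x)).1 hσ⟩ : S) = ⟨x, hx⟩ := Subtype.ext (h1 x)
          rw [dif_pos hx, dif_neg hσ, e1]
        · have hσ : σ x ∈ S := (hS2 x).1 hx
          rw [dif_neg hx, dif_pos hσ]
      · funext s
        show (if hx : (s : X) ∈ S then g ⟨s, hx⟩ else _) = g s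
        rw [dif_pos s.2]
  rw [LinearEquiv.finrank_eq (LinearEquiv.ofBijective r hr), Module.finrank_fintype_fun_eq_card, Fintype.card_coe,
    hcard]

variable {k : Type*} [Field k] {F : Type*} [Field F] [Fintype F] [DecidableEq F]
variable {V : Type*} [AddCommGroup V] [Module k V] (ρ : Representation k (_root_.Matrix.SpecialLinearGroup (Fin 2) F) V)
variable (p : ℕ) [Fact p.Prime] [CharP k p] [CharP F p]

/-- the map `c ↦ ∑ c(t) u(t) w d` -/
def stMap (d : V) : (F → k) →ₗ[k] V where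
  toFun c := ∑ t, c t • ρ (u t) (ρ w d)
  map_add' c c' := by
    rw [← Finset.sum_add_distrib]
    exact Finset.sum_congr rfl fun t _ => add_smul _ _ _
  map_smul' a c := by
    rw [RingHom.id_apply, Finset.smul_sum]
    exact Finset.sum_congr rfl fun t _ => by rw [Pi.smul_apply, smul_eq_mul, mul_smul]

theorem stMap_apply (d : V) (c : F → k) : stMap ρ d c = ∑ t, c t • ρ (u t) (ρ w d) := rfl

/-- translations -/
def trn (s : F) : (F → k) →ₗ[k] (F → k) where
  toFun c t := c (t - s)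
  map_add' _ _ := rfl
  map_smul' _ _ := rfl

theorem stMap_trn (d : V) (s : F) (c : F → k) : stMap ρ d (trn s c) = ρ (u s) (stMap ρ d c) := by
  rw [stMap_apply, stMap_apply, map_sum]
  symm
  refine Fintype.sum_equiv (Equiv.addRight s) _ _ fun t => ?_
  rw [map_smul, apply_mul, ← u_add, add_comm s t]
  show _ = (trn s c) (t + s) • ρ (u (t + s)) (ρ w d)
  congr 1
  show c t = c (t + s - s)
  rw [add_sub_cancel_right]

include p in
theorem stMap_injective {d : V} (hd : SS ρ d ≠ 0) : Function.Injective (stMap ρ d) := by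
  rw [← LinearMap.ker_eq_bot]
  by_contra hne
  set K := LinearMap.ker (stMap ρ d) with hK
  have hnt : Nontrivial K := Submodule.nontrivial_iff_ne_bot.2 hne
  have hst : ∀ (s : F), ∀ c ∈ K, trn s c ∈ K := by
    intro s c hc
    rw [hK, LinearMap.mem_ker] at hc ⊢
    rw [stMap_trn, hc, map_zero]
  have hpow : ∀ (s : F) (n : ℕ) (x : K), (((((trn (k := k) s).restrict (hst s)) ^ n) x : K) : F → k) =
      fun t => (x : F → k) (t - n * s) := by
    intro s n
    induction n with
    | zero => intro x; funext t; simp only [_root_.pow_zero, _root_.Module.End.one_apply, _root_.Nat.cast_zero, _root_.MulZeroClass.zero_mul, _root_.sub_zero]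
    | succ n ih =>
      intro x
      rw [pow_succ', Module.End.mul_apply]
      funext t
      show (((((trn (k := k) s).restrict (hst s)) ^ n) x : K) : F → k) (t - s) = _
      rw [ih]
      have e1 : t - s - (n : F) * s = t - ((n + 1 : ℕ) : F) * s := by push_cast; ring
      exact congrArg (x : F → k) e1
  obtain ⟨c, hc, hfix⟩ := SL2Fix.exists_fixed p (k := k) (V := K) (fun s : F => (trn (k := k) s).restrict (hst s))
    (by
      intro s s'
      refine LinearMap.ext fun x => Subtype.ext (funext fun t => ?_)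
      have e1 : t - s - s' = t - s' - s := by ring
      exact congrArg (x : F → k) e1)
    (by
      intro s
      refine LinearMap.ext fun x => Subtype.ext ?_
      rw [hpow]
      funext t
      rw [CharP.cast_eq_zero, zero_mul, sub_zero]
      rfl) Finset.univ
  have h1 : ∀ t, (c : F → k) t = (c : F → k) 0 := by
    intro t
    have h2 := congrArg (fun y : K => (y : F → k) t) (hfix t (Finset.mem_univ t))
    have h3 : (c : F → k) (t - t) = (c : F → k) t := h2
    rw [← h3, sub_self]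
  have h4 : stMap ρ d c = 0 := c.2
  rw [stMap_apply, Finset.sum_congr rfl fun t _ => by rw [h1 t], ← Finset.smul_sum, ← SS_apply] at h4
  rcases smul_eq_zero.1 h4 with h5 | h5
  · apply hc
    apply Subtype.ext
    funext t
    rw [h1 t, h5]
    rfl
  · exact hd h5

include p in
/-- **the Steinberg type** -/
theorem st_of_type (hI : Irr ρ) {D : Submodule k V} (G : Good ρ D (-1)) (hD : TSimple ρ D)
    (hT : ∀ a, ∀ d ∈ D, ρ (h a) d = d) (hsq : ∀ x : F, x ^ 2 ≠ -1) (h2 : (2 : k) ≠ 0) :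
    Module.finrank k V = Fintype.card F ∧ 2 * Module.finrank k (eig ρ w 1) + 1 = Fintype.card F := by
  obtain ⟨d, hd, hd0⟩ := Submodule.exists_mem_ne_zero_of_ne_bot hD.1
  have hDspan : D = Submodule.span k {d} := by
    rcases hD.2.2 (Submodule.span k {d}) (by simpa using hd) (by
      intro a x hx
      rw [hT a x ((Submodule.span_le.2 (by simpa using hd)) hx)]
      exact hx) with h0 | h0
    · exact absurd (Submodule.span_singleton_eq_bot.1 h0) hd0
    · exact h0.symm
  have hSd : SS ρ d = -d := by rw [G.ss d hd, neg_one_smul]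
  have hinj : Function.Injective (stMap ρ d) := stMap_injective ρ p (by rw [hSd]; exact neg_ne_zero.2 hd0)
  have hsurj : Function.Surjective (stMap ρ d) := by
    rw [← LinearMap.range_eq_top, eq_top_iff, ← MM_eq_top ρ G hD.1 hI]
    refine Submodule.span_le.2 ?_
    rintro _ ⟨t, x, hx, rfl⟩
    rw [hDspan] at hx
    obtain ⟨a, rfl⟩ := Submodule.mem_span_singleton.1 hx
    refine ⟨Pi.single t a, ?_⟩
    rw [stMap_apply, Finset.sum_eq_single t]
    · rw [Pi.single_eq_same, map_smul, map_smul]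
    · intro s _ hs
      rw [Pi.single_eq_of_ne hs, zero_smul]
    · intro h0
      exact absurd (Finset.mem_univ t) h0
  let e := LinearEquiv.ofBijective (stMap ρ d) ⟨hinj, hsurj⟩
  have hw : ∀ c : F → k, ρ w (stMap ρ d c) = stMap ρ d (fun t => (if t = 0 then 0 else c (-t⁻¹)) - c 0) := by
    intro c
    rw [stMap_apply, map_sum, ← Finset.add_sum_erase _ _ (Finset.mem_univ (0 : F)), stMap_apply]
    have h1 : ρ w (c 0 • ρ (u 0) (ρ w d)) = - ∑ t : F, c 0 • ρ (u t) (ρ w d) := by
      rw [← Finset.smul_sum, ← SS_apply, hSd, smul_neg, neg_neg, map_smul, u_zero, map_one, Module.End.one_apply, ww,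
        hT _ d hd]
    have h3 : ∑ t : F, ((if t = 0 then 0 else c (-t⁻¹)) - c 0) • ρ (u t) (ρ w d) =
        (∑ t : F, (if t = 0 then 0 else c (-t⁻¹)) • ρ (u t) (ρ w d)) - ∑ t : F, c 0 • ρ (u t) (ρ w d) := by
      rw [← Finset.sum_sub_distrib]
      exact Finset.sum_congr rfl fun t _ => sub_smul _ _ _
    rw [h1, h3, ← sub_eq_neg_add]
    congr 1
    rw [← Finset.add_sum_erase Finset.univ (fun t => (if t = 0 then 0 else c (-t⁻¹)) • ρ (u t) (ρ w d))
      (Finset.mem_univ (0 : F)), if_pos rfl, zero_smul, zero_add]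
    refine Finset.sum_bij (fun t _ => -t⁻¹) ?_ ?_ ?_ ?_
    · intro t ht
      exact Finset.mem_erase.2 ⟨neg_ne_zero.2 (inv_ne_zero (Finset.ne_of_mem_erase ht)), Finset.mem_univ _⟩
    · intro s _ t _ h4
      exact inv_injective (neg_injective h4)
    · intro t ht
      have ht0 := Finset.ne_of_mem_erase ht
      exact ⟨-t⁻¹, Finset.mem_erase.2 ⟨neg_ne_zero.2 (inv_ne_zero ht0), Finset.mem_univ _⟩, by
        rw [inv_neg, inv_inv, neg_neg]⟩
    · intro t ht
      have ht0 := Finset.ne_of_mem_erase ht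
      rw [map_smul, wuw ρ G.ufix ht0 hd, hT _ d hd, if_neg (neg_ne_zero.2 (inv_ne_zero ht0)), inv_neg, inv_inv, neg_neg]
  have hfr : Module.finrank k V = Fintype.card F := by
    rw [← LinearEquiv.finrank_eq e, Module.finrank_fintype_fun_eq_card]
  refine ⟨hfr, ?_⟩
  -- the fixed space
  have hfix : ∀ c : F → k, stMap ρ d c ∈ eig ρ w 1 ↔ c 0 = 0 ∧ ∀ t, t ≠ 0 → c (-t⁻¹) = c t := by
    intro c
    rw [mem_eig, one_smul, hw]
    constructor
    · intro h1
      have h3 := hinj h1
      have h4 := congrFun h3 0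
      have h5 : (0 : k) - c 0 = c 0 := by simpa using h4
      have h6 : c 0 = 0 := by
        have h7 : (2 : k) * c 0 = 0 := by rw [two_mul]; nth_rewrite 1 [← h5]; ring
        exact (mul_eq_zero.1 h7).resolve_left h2
      refine ⟨h6, fun t ht => ?_⟩
      have h8 := congrFun h3 t
      have h9 : (if t = 0 then 0 else c (-t⁻¹)) - c 0 = c t := h8
      rwa [if_neg ht, h6, sub_zero] at h9
    · rintro ⟨h6, h7⟩
      congr 1
      funext t
      by_cases ht : t = 0
      · rw [if_pos ht, ht, h6, sub_zero]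
      · rw [if_neg ht, h6, sub_zero, h7 t ht]
  -- functions on the units
  let σ : Fˣ → Fˣ := fun a => -a⁻¹
  let C : Submodule k (Fˣ → k) :=
    { carrier := {f | ∀ x, f (σ x) = f x}
      zero_mem' := fun x => rfl
      add_mem' := fun {f g} hf hg x => by rw [Pi.add_apply, Pi.add_apply, hf x, hg x]
      smul_mem' := fun c f hf x => by rw [Pi.smul_apply, Pi.smul_apply, hf x] }
  have hC := finrank_inv (k := k) σ (fun x => by simp [σ]) (fun x hx => by
    have h3 : (-(x : F)⁻¹) = x := by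
      have := congrArg Units.val hx
      simpa [σ] using this
    have hx0 : (x : F) ≠ 0 := x.ne_zero
    apply hsq x
    have h4 : (x : F) * (-(x : F)⁻¹) = x * x := by rw [h3]
    rw [mul_neg, mul_inv_cancel₀ hx0] at h4
    rw [sq, ← h4]) C (fun f => Iff.rfl)
  have heq : Module.finrank k (eig ρ w 1) = Module.finrank k C := by
    let f : C →ₗ[k] eig ρ w 1 :=
      { toFun := fun c => ⟨stMap ρ d (fun t => if ht : t = 0 then 0 else (c : Fˣ → k) (Units.mk0 t ht)), by
          rw [hfix]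
          refine ⟨dif_pos rfl, fun t ht => ?_⟩
          have ht' : -t⁻¹ ≠ 0 := neg_ne_zero.2 (inv_ne_zero ht)
          rw [dif_neg ht, dif_neg ht']
          have h3 := c.2 (Units.mk0 t ht)
          rw [← h3]
          have e1 : Units.mk0 (-t⁻¹) ht' = σ (Units.mk0 t ht) := by
            apply Units.ext
            simp [σ]
          exact congrArg (c : Fˣ → k) e1⟩
        map_add' := fun c c' => by
          apply Subtype.ext
          show stMap ρ d _ = stMap ρ d _ + stMap ρ d _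
          rw [← map_add]
          congr 1
          funext t
          by_cases ht : t = 0
          · simp [ht]
          · simp only [ht, ↓ _root_.reduceDIte, _root_.Submodule.coe_add, _root_.Pi.add_apply]
        map_smul' := fun a c => by
          apply Subtype.ext
          show stMap ρ d _ = a • stMap ρ d _
          rw [← map_smul]
          congr 1
          funext t
          by_cases ht : t = 0
          · simp [ht]
          · simp [ht] }
    symm
    refine LinearEquiv.finrank_eq (LinearEquiv.ofBijective f ⟨?_, ?_⟩)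
    · intro c c' h3
      have h4 := hinj (congrArg Subtype.val h3)
      apply Subtype.ext
      funext x
      have h5 := congrFun h4 (x : F)
      rw [dif_neg x.ne_zero, dif_neg x.ne_zero] at h5
      have h6 : Units.mk0 (x : F) x.ne_zero = x := Units.ext rfl
      rwa [h6] at h5
    · rintro ⟨y, hy⟩
      obtain ⟨c, rfl⟩ := hsurj y
      rw [hfix] at hy
      refine ⟨⟨fun x => c x, fun x => ?_⟩, ?_⟩
      · have h3 := hy.2 x x.ne_zero
        have h4 : ((σ x : Fˣ) : F) = -(x : F)⁻¹ := by simp [σ]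
        show c ((σ x : Fˣ) : F) = c x
        rw [h4, h3]
      · apply Subtype.ext
        show stMap ρ d _ = stMap ρ d c
        congr 1
        funext t
        by_cases ht : t = 0
        · rw [dif_pos ht, ht, hy.1]
        · rw [dif_neg ht]
          rfl
  rw [heq, hC, Fintype.card_units]
  have := Fintype.card_pos (α := F)
  omega

end Cfsg.Agent.H943.SL2Mod
end

-- part: H943/SL2Five
section
/-!
# Representations of `PSL(2, 243)` over the field with three elements (helper943)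

`five` : `dim V = a + 243 s + 5 m`, `dim C_V(w) = a + 121 s + 5 m'` with `m' ≤ m`.
-/

set_option autoImplicit false
set_option linter.unusedSectionVars false

namespace Cfsg.Agent.H943.SL2Mod

open Matrix Cfsg.Agent.H943.SL2Rel Cfsg.Agent.H943.RepAdd

theorem five_dvd_of_pow {n : ℕ} (h : 3 ^ n ≡ 1 [MOD 11]) : 5 ∣ n := by
  have h1 : (3 ^ 5) ^ (n / 5) * 3 ^ (n % 5) = 3 ^ n := by rw [← pow_mul, ← pow_add, Nat.div_add_mod]
  have h2 : (3 ^ 5) ^ (n / 5) * 3 ^ (n % 5) ≡ 3 ^ (n % 5) [MOD 11] := by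
    have h3 : 3 ^ 5 ≡ 1 [MOD 11] := by decide
    have h4 := (h3.pow (n / 5)).mul_right (3 ^ (n % 5))
    rwa [one_pow, one_mul] at h4
  rw [h1] at h2
  have h5 : 3 ^ (n % 5) ≡ 1 [MOD 11] := h2.symm.trans h
  have h6 : n % 5 < 5 := Nat.mod_lt _ (by norm_num)
  have h7 : n % 5 = 0 := by
    generalize n % 5 = r at h5 h6
    interval_cases r
    · rfl
    · exact absurd h5 (by decide)
    · exact absurd h5 (by decide)
    · exact absurd h5 (by decide)
    · exact absurd h5 (by decide)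
  exact Nat.dvd_of_mod_eq_zero h7

section

variable {k : Type*} [Field k] [Fintype k] [CharP k 3] {F : Type*} [Field F] [Fintype F] [DecidableEq F] [CharP F 3]

theorem finrank_five {V : Type*} [AddCommGroup V] [Module k V] [FiniteDimensional k V] (hk : Fintype.card k = 3)
    {ρ : Representation k (_root_.Matrix.SpecialLinearGroup (Fin 2) F) V} (hI : Irr ρ) {D : Submodule k V} {c : k}
    (G : Good ρ D c) (hD : TSimple ρ D) (h1 : ρ (h (-1)) = 1) (hF : Fintype.card F = 243) {b : Fˣ}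
    (hb : ∃ d ∈ D, ρ (h b) d ≠ d) (g : _root_.Matrix.SpecialLinearGroup (Fin 2) F) (μ : k) :
    5 ∣ Module.finrank k (eig ρ g μ) := by
  have : Fact (Nat.Prime 3) := ⟨by norm_num⟩
  have : Fact (Nat.Prime 11) := ⟨by norm_num⟩
  obtain ⟨α, hα, hαD⟩ := exists_end ρ 3 hI G hD b
  have hpow : ∀ n : ℕ, (∀ g x, (α ^ n) (ρ g x) = ρ g ((α ^ n) x)) ∧ ∀ x ∈ D, (α ^ n) x = ρ (h (b ^ n)) x := by
    intro n
    induction n with
    | zero =>
      refine ⟨fun g x => rfl, fun x _ => ?_⟩
      rw [pow_zero, pow_zero, h_one, map_one]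
      rfl
    | succ n ih =>
      constructor
      · intro g x
        rw [pow_succ']
        show α ((α ^ n) (ρ g x)) = ρ g (α ((α ^ n) x))
        rw [ih.1, hα]
      · intro x hx
        rw [pow_succ', pow_succ']
        show α ((α ^ n) x) = _
        rw [ih.2 x hx, hαD _ (G.tinv _ _ hx), apply_mul, ← h_mul]
  have hcard : Fintype.card Fˣ = 242 := by rw [Fintype.card_units, hF]
  have hb1 : ρ (h (b ^ 121)) = 1 := by
    have h2 : (b ^ 121) ^ 2 = 1 := by
      rw [← pow_mul]
      have := pow_card_eq_one (x := b)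
      rwa [hcard] at this
    have h3 : ((b ^ 121 : Fˣ) : F) ^ 2 = 1 := by
      rw [← Units.val_pow_eq_pow_val, h2, Units.val_one]
    rcases mul_self_eq_one_iff.1 ((sq _).symm.trans h3) with h4 | h4
    · rw [show b ^ 121 = 1 from Units.ext h4, h_one, map_one]
    · rw [show b ^ 121 = -1 from Units.ext h4, h1]
  obtain ⟨d0, hd0, hd0'⟩ := Submodule.exists_mem_ne_zero_of_ne_bot hD.1
  -- `α ^ 121 = 1`
  have h121 : ∀ x, (α ^ 121) x = x := by
    rcases ker_eq ρ hI (((α ^ 121 : V ≃ₗ[k] V) : Module.End k V) - 1) (by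
      intro g x
      show (α ^ 121) (ρ g x) - ρ g x = ρ g ((α ^ 121) x - x)
      rw [(hpow 121).1, map_sub]) with h2 | h2
    · exfalso
      have h3 : d0 ∈ LinearMap.ker (((α ^ 121 : V ≃ₗ[k] V) : Module.End k V) - 1) := by
        rw [LinearMap.mem_ker]
        show (α ^ 121) d0 - d0 = 0
        rw [(hpow 121).2 d0 hd0, hb1]
        exact sub_self _
      rw [h2] at h3
      exact hd0' ((Submodule.mem_bot k).1 h3)
    · intro x
      have h3 := LinearMap.congr_fun h2 x
      have h4 : (α ^ 121) x - x = 0 := h3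
      exact sub_eq_zero.1 h4
  have hα1 : ¬ ∀ x, α x = x := by
    intro h2
    obtain ⟨d, hd, hd'⟩ := hb
    exact hd' (by rw [← hαD d hd, h2])
  -- an automorphism of order `11`
  obtain ⟨β, hβ, hβ11, hβ1⟩ : ∃ β : V ≃ₗ[k] V, (∀ g x, β (ρ g x) = ρ g (β x)) ∧ (∀ x, (β ^ 11) x = x) ∧
      ¬ ∀ x, β x = x := by
    by_cases h11 : ∀ x, (α ^ 11) x = x
    · exact ⟨α, hα, h11, hα1⟩
    · refine ⟨α ^ 11, (hpow 11).1, fun x => ?_, h11⟩
      rw [← pow_mul]
      exact h121 x
  have hβf : ∀ x, β x = x → x = 0 := by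
    rcases ker_eq ρ hI ((β : Module.End k V) - 1) (by
      intro g x
      show β (ρ g x) - ρ g x = ρ g (β x - x)
      rw [hβ, map_sub]) with h2 | h2
    · intro x hx
      have h3 : x ∈ LinearMap.ker ((β : Module.End k V) - 1) := by
        rw [LinearMap.mem_ker]
        show β x - x = 0
        rw [hx, sub_self]
      rw [h2] at h3
      exact (Submodule.mem_bot k).1 h3
    · exfalso
      apply hβ1
      intro x
      have h3 : β x - x = 0 := LinearMap.congr_fun h2 x
      exact sub_eq_zero.1 h3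
  have : Finite (eig ρ g μ) := Module.finite_of_finite k
  have hmod := card_modEq_one (k := k) (l := 11) β hβ11 hβf (eig ρ g μ) (fun x hx => by
    rw [mem_eig] at hx ⊢
    rw [← hβ, hx, map_smul])
  apply five_dvd_of_pow
  rw [Module.natCard_eq_pow_finrank (K := k), Nat.card_eq_fintype_card, hk] at hmod
  exact hmod

theorem not_sq (hF : Fintype.card F = 243) (x : F) : x ^ 2 ≠ -1 := by
  intro hx
  have hx0 : x ≠ 0 := by
    rintro rfl
    rw [zero_pow two_ne_zero] at hx
    exact one_ne_zero (neg_eq_zero.1 hx.symm)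
  have h1 := FiniteField.pow_card_sub_one_eq_one x hx0
  rw [hF] at h1
  have h2 : x ^ 242 = (x ^ 2) ^ 121 := by rw [← pow_mul]
  rw [h2, hx] at h1
  have h3 : (-1 : F) ^ 121 = -1 := Odd.neg_one_pow (by decide)
  rw [h3] at h1
  have h4 : (2 : F) = 0 := by linear_combination -h1
  have h5 : ((2 : ℕ) : F) = 0 := by exact_mod_cast h4
  rw [CharP.cast_eq_zero_iff F 3] at h5
  omega

theorem two_ne (k : Type*) [Field k] [CharP k 3] : (2 : k) ≠ 0 := by
  intro h4
  have h5 : ((2 : ℕ) : k) = 0 := by exact_mod_cast h4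
  rw [CharP.cast_eq_zero_iff k 3] at h5
  omega

theorem irr_five {V : Type*} [AddCommGroup V] [Module k V] [FiniteDimensional k V] (hk : Fintype.card k = 3)
    {ρ : Representation k (_root_.Matrix.SpecialLinearGroup (Fin 2) F) V} (hI : Irr ρ) (h1 : ρ (h (-1)) = 1)
    (hF : Fintype.card F = 243) : ∃ a s m m' : ℕ, Module.finrank k V = a + 243 * s + 5 * m ∧
      Module.finrank k (eig ρ w 1) = a + 121 * s + 5 * m' ∧ m' ≤ m := by
  have : Fact (Nat.Prime 3) := ⟨by norm_num⟩
  obtain ⟨D, c, G, hD, hc⟩ := exists_type ρ 3 hI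
  rcases hc with rfl | ⟨rfl, hT⟩
  · by_cases hT : ∀ a, ∀ d ∈ D, ρ (h a) d = d
    · obtain ⟨h2, h3⟩ := triv_of_type ρ hI G hD hT 3
      refine ⟨1, 0, 0, 0, by rw [h3], ?_, le_rfl⟩
      have h4 : eig ρ w 1 = ⊤ := by
        rw [eq_top_iff]
        intro x _
        rw [mem_eig, h2, one_smul]
      rw [h4, finrank_top, h3]
    · push Not at hT
      obtain ⟨b, d, hd, hd'⟩ := hT
      have h2 := finrank_five hk hI G hD h1 hF ⟨d, hd, hd'⟩
      have h3 : eig ρ 1 1 = ⊤ := by
        rw [eq_top_iff]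
        intro x _
        rw [mem_eig, map_one, one_smul]
        rfl
      obtain ⟨m, hm⟩ := h2 1 1
      rw [h3, finrank_top] at hm
      obtain ⟨m', hm'⟩ := h2 w 1
      refine ⟨0, 0, m, m', by omega, by omega, ?_⟩
      have h4 := Submodule.finrank_le (eig ρ w 1)
      omega
  · obtain ⟨h2, h3⟩ := st_of_type ρ 3 hI G hD hT (not_sq hF) (two_ne k)
    rw [hF] at h2 h3
    exact ⟨0, 1, 0, 0, by omega, by omega, le_rfl⟩

end

section

universe v

variable {k : Type*} [Field k] [Fintype k] [CharP k 3] {F : Type*} [Field F] [Fintype F] [DecidableEq F] [CharP F 3]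

/-- subrepresentations of minimal dimension are irreducible -/
theorem irr_subRep {k : Type*} [Field k] {F : Type*} [Field F] {V : Type*} [AddCommGroup V] [Module k V]
    (ρ : Representation k (_root_.Matrix.SpecialLinearGroup (Fin 2) F) V) {W : Submodule k V} (hW : ∀ g, ∀ x ∈ W, ρ g x ∈ W)
    (h0 : W ≠ ⊥) (hmin : ∀ W' ≤ W, (∀ g, ∀ x ∈ W', ρ g x ∈ W') → W' = ⊥ ∨ W' = W) : Irr (subRep ρ W hW) := by
  refine ⟨Submodule.nontrivial_iff_ne_bot.2 h0, fun W' hW' => ?_⟩
  rcases hmin (W'.map W.subtype) (Submodule.map_subtype_le _ _) (by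
    rintro g _ ⟨x, hx, rfl⟩
    exact ⟨_, hW' g x hx, rfl⟩) with h1 | h1
  · left
    rw [eq_bot_iff]
    intro x hx
    have h2 : (x : V) ∈ W'.map W.subtype := ⟨x, hx, rfl⟩
    rw [h1] at h2
    exact (Submodule.mem_bot k).2 (Subtype.ext ((Submodule.mem_bot k).1 h2))
  · right
    rw [eq_top_iff]
    intro x _
    have h2 : (x : V) ∈ W'.map W.subtype := by rw [h1]; exact x.2
    obtain ⟨y, hy, e⟩ := h2
    rwa [← Subtype.ext (p := fun z => z ∈ W) e]

/-- **representations of `PSL(2, 243)` in characteristic three** -/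
theorem five (hk : Fintype.card k = 3) (hF : Fintype.card F = 243) (n : ℕ) :
    ∀ (V : Type v) [AddCommGroup V] [Module k V] [FiniteDimensional k V]
      (ρ : Representation k (_root_.Matrix.SpecialLinearGroup (Fin 2) F) V) (_ : ρ (h (-1)) = 1) (_ : Module.finrank k V = n),
      ∃ a s m m' : ℕ, Module.finrank k V = a + 243 * s + 5 * m ∧
        Module.finrank k (eig ρ w 1) = a + 121 * s + 5 * m' ∧ m' ≤ m := by
  induction n using Nat.strong_induction_on with
  | _ n ih =>
    intro V _ _ _ ρ h1 hn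
    rcases subsingleton_or_nontrivial V with hV | hV
    · refine ⟨0, 0, 0, 0, ?_, ?_, le_rfl⟩
      · exact Module.finrank_zero_of_subsingleton
      · exact Module.finrank_zero_of_subsingleton
    · obtain ⟨W, hW, hW0, hmin⟩ := exists_irr_sub ρ
      have hIW := irr_subRep ρ hW hW0 hmin
      have e1 : subRep ρ W hW (h (-1)) = 1 := by
        refine LinearMap.ext fun x => Subtype.ext ?_
        rw [coe_subRep, h1]
        rfl
      have e2 : quotRep ρ W hW (h (-1)) = 1 := by
        refine LinearMap.ext fun x => ?_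
        obtain ⟨y, rfl⟩ := W.mkQ_surjective x
        rw [quotRep_mk, h1]
        rfl
      have hpos : 0 < Module.finrank k W := by
        have := hIW.1
        exact Module.finrank_pos
      have hadd := Submodule.finrank_quotient_add_finrank W
      obtain ⟨a, s, m, m', i1, i2, i3⟩ := irr_five hk hIW e1 hF
      obtain ⟨a', s', l, l', j1, j2, j3⟩ := ih (Module.finrank k (V ⧸ W)) (by omega) (V ⧸ W) (quotRep ρ W hW) e2 rfl
      have hww : ρ w ^ 2 = 1 := by
        rw [sq, ← map_mul, w_w, h1]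
      have h2 : ((2 : ℕ) : k) ≠ 0 := by
        have := two_ne k
        exact_mod_cast this
      have hE := finrank_eig ρ W hW hww h2 (one_pow 2) one_ne_zero
      exact ⟨a + a', s + s', m + l, m' + l', by omega, by omega, by omega⟩

end

end Cfsg.Agent.H943.SL2Mod
end

-- part: H943/L243
section
/-!
# No subgroup `L2(243)` in `E8(3)` (helper943)
-/

set_option autoImplicit false

namespace Cfsg.Agent.H943.L243

open Matrix Cfsg.Agent.H943.SL2Rel Cfsg.Agent.H943.PSLHom Cfsg.Agent.H943.RepAdd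
open Cfsg.Lie
open Cfsg.Agent.H943.TorDim Cfsg.Agent.H943.E8Tab
open Cfsg.Agent.H944.RootVals

/-- **the dimension of the fixed space of an involution of `E8(3)`** -/
theorem finrank_invol {x : ↥(chevE8.group (ZMod 3))} (hx : x ^ 2 = 1) (hx1 : x ≠ 1) :
    Module.finrank (ZMod 3) (LinearMap.ker (Matrix.toLin' (((x : ↥(chevE8.group (ZMod 3))) : GL chevE8.Idx (ZMod 3)) :
        Matrix chevE8.Idx chevE8.Idx (ZMod 3)) - (1 : ZMod 3) • (1 : Module.End (ZMod 3) (chevE8.Idx → ZMod 3)))) = 136 ∨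
    Module.finrank (ZMod 3) (LinearMap.ker (Matrix.toLin' (((x : ↥(chevE8.group (ZMod 3))) : GL chevE8.Idx (ZMod 3)) :
        Matrix chevE8.Idx chevE8.Idx (ZMod 3)) - (1 : ZMod 3) • (1 : Module.End (ZMod 3) (chevE8.Idx → ZMod 3)))) = 120 := by
  classical
  have : Fact (Nat.Prime 3) := ⟨Nat.prime_three⟩
  have hch : CharP (AlgebraicClosure (ZMod 3)) 3 :=
    charP_of_injective_algebraMap (algebraMap (ZMod 3) (AlgebraicClosure (ZMod 3))).injective 3
  have h2 : (2 : AlgebraicClosure (ZMod 3)) ≠ 0 := by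
    intro h0
    have h1 : ((2 : ℕ) : AlgebraicClosure (ZMod 3)) = 0 := by exact_mod_cast h0
    rw [CharP.cast_eq_zero_iff _ 3] at h1
    omega
  have hζ : IsPrimitiveRoot (-1 : AlgebraicClosure (ZMod 3)) 2 := by
    refine IsPrimitiveRoot.neg_one 3 ?_
    norm_num
  obtain ⟨v, hv, hdim⟩ := exists_vals_dim e8T 3 (F := ZMod 3) (x := x) (N := 2) (by norm_num) (by norm_num) hx hζ
  have hv0 : v ≠ 0 := by
    intro h0
    refine hx1 ?_
    have h1 := (hv.ord 1).1 (fun i => by rw [h0, Pi.zero_apply, mul_zero])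
    rwa [pow_one] at h1
  have hc := count_two hv0
  have hd := hdim 1
  have e1 : (Multiset.replicate chevE8.rank (1 : AlgebraicClosure (ZMod 3)) +
      (ms chevE8 8 v).map (fun b => (-1 : AlgebraicClosure (ZMod 3)) ^ b.val)).count 1 = 8 + (ms chevE8 8 v).count 0 := by
    rw [Multiset.count_add, Multiset.count_replicate_self]
    congr 1
    rw [Multiset.count_map, Multiset.count_eq_card_filter_eq]
    congr 1
    refine Multiset.filter_congr fun b _ => ?_
    have hb : ∀ b : ZMod 2, b = 0 ∨ b = 1 := by decide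
    rcases hb b with rfl | rfl
    · simp
    · rw [show (1 : ZMod 2).val = 1 from rfl, pow_one]
      constructor
      · intro h
        exfalso
        refine h2 ?_
        linear_combination h
      · intro h
        exact absurd h (by decide)
  rw [e1] at hd
  -- base change
  set A : Matrix chevE8.Idx chevE8.Idx (ZMod 3) := (((x : ↥(chevE8.group (ZMod 3))) : GL chevE8.Idx (ZMod 3)) :
        Matrix chevE8.Idx chevE8.Idx (ZMod 3)) with hA
  have key : ∀ {K : Type} [Field K] (B : Matrix chevE8.Idx chevE8.Idx K),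
      (B - 1).rank + Module.finrank K (LinearMap.ker (Matrix.toLin' B - (1 : K) • (1 : Module.End K (chevE8.Idx → K)))) =
        Fintype.card chevE8.Idx := by
    intro K _ B
    have e2 : Matrix.toLin' B - (1 : K) • (1 : Module.End K (chevE8.Idx → K)) = Matrix.toLin' (B - 1) := by
      rw [map_sub, Matrix.toLin'_one, one_smul]
      rfl
    rw [e2]
    have := LinearMap.finrank_range_add_finrank_ker (Matrix.toLin' (B - 1))
    rw [Module.finrank_fintype_fun_eq_card] at this
    rw [← this]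
    rfl
  have k1 := key A
  have k2 := key (A.map (algebraMap (ZMod 3) (AlgebraicClosure (ZMod 3))))
  have k3 : (A.map (algebraMap (ZMod 3) (AlgebraicClosure (ZMod 3))) - 1).rank = (A - 1).rank := by
    rw [← Cfsg.Agent.H593.RobinsonRank.rank_map (algebraMap (ZMod 3) (AlgebraicClosure (ZMod 3))) (A - 1)]
    congr 1
    rw [Matrix.map_sub _ (map_sub _), Matrix.map_one _ (map_zero _) (map_one _)]
  rw [k3, hd] at k2
  (clear * - hc k1 k2; omega)

theorem card_idx : Fintype.card chevE8.Idx = 248 := by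
  show Fintype.card (Fin chevE8.rank ⊕ Fin chevE8.nroots) = 248
  rw [Fintype.card_sum, Fintype.card_fin, Fintype.card_fin]
  rfl

/-- **no `L2(243)` in `E8(3)`** -/
theorem no_L243 {F : Type*} [Field F] [Fintype F] (hF : Fintype.card F = 243)
    (H : Subgroup ↥(chevE8.group (ZMod 3))) : IsEmpty (↥H ≃* ProjectiveSpecialLinearGroup (Fin 2) F) := by
  classical
  refine ⟨fun e => ?_⟩
  have : Fact (Nat.Prime 3) := ⟨Nat.prime_three⟩
  have hchF : CharP F 3 := by
    obtain ⟨⟨m, hm⟩, hp', hcard⟩ := FiniteField.card F (ringChar F)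
    rw [hF] at hcard
    have h1 : ringChar F ∣ 3 ^ 5 := by
      rw [show (3 : ℕ) ^ 5 = 243 by norm_num, hcard]
      exact dvd_pow_self _ (by simpa using hm.ne')
    have h2 := (Nat.prime_dvd_prime_iff_eq hp' Nat.prime_three).1 (hp'.dvd_of_dvd_pow h1)
    exact h2 ▸ ringChar.charP F
  obtain ⟨φ, hφ⟩ := exists_hom H e
  let ρ := rep (RingHom.id (ZMod 3)) φ
  have h1 : φ (h (-1)) = 1 := (hφ _).2 (h_mem_center.2 (by rw [neg_one_sq]))
  have h2 : φ w ^ 2 = 1 := by rw [pow_two, ← map_mul, w_w, h1]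
  have h3 : φ w ≠ 1 := fun h0 => w_not_mem_center ((hφ _).1 h0)
  obtain ⟨a, s, m, m', e1, e2, e3⟩ := Cfsg.Agent.H943.SL2Mod.five (k := ZMod 3) (by rw [ZMod.card]) hF
    (Module.finrank (ZMod 3) (chevE8.Idx → ZMod 3)) (chevE8.Idx → ZMod 3) ρ (rep_eq_one _ _ h1) rfl
  rw [Module.finrank_fintype_fun_eq_card, card_idx] at e1
  have h4 := finrank_invol h2 h3
  have e4 : ρ w = Matrix.toLin' (((φ w : ↥(chevE8.group (ZMod 3))) : GL chevE8.Idx (ZMod 3)) :
        Matrix chevE8.Idx chevE8.Idx (ZMod 3)) := by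
    show Matrix.toLin' ((((φ w : ↥(chevE8.group (ZMod 3))) : GL chevE8.Idx (ZMod 3)) :
        Matrix chevE8.Idx chevE8.Idx (ZMod 3)).map (RingHom.id (ZMod 3))) = _
    congr 1
  unfold eig at e2
  rw [e4] at e2
  rcases h4 with h4 | h4
  · rw [h4] at e2
    omega
  · rw [h4] at e2
    omega

end Cfsg.Agent.H943.L243
end
end

-- part: H943/L729
section
set_option linter.all false
open scoped Cfsg.Agent.FastGrp

namespace Cfsg.Agent
section
open Cfsg.Agent.H944.Tab (dotN sumH invB hh)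

private noncomputable def fS (x : ℕ) (f : ℕ → ℕ) : ℕ := Nat.rec (f 0) (fun n _ => f (Nat.succ n)) x

private noncomputable def zpS (B : ℕ) (r : List ℕ) : List ℕ → List ℕ :=
  List.rec (fun c => c.map (Nat.mul B)) (fun a _ ih c => Nat.add a (Nat.mul B (c.headD 0)) :: ih c.tail) r

private noncomputable def colS (B : ℕ) (R : List (List ℕ)) : List ℕ := List.rec [] (fun r _ ih => zpS B r ih) R

private noncomputable def pkS (B : ℕ) (y : List ℕ) (R : List (List ℕ)) : ℕ :=
  List.rec 0 (fun r _ ih => dotN r y + B * ih) R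

private noncomputable def dgS (h : ℕ → ℕ) (R : List (List ℕ)) : ℕ → ℕ :=
  List.rec (fun _ => 0) (fun _ _ ih D => Nat.add (fS (Nat.mod D 1048576) h) (ih (Nat.div D 1048576))) R

private noncomputable def sumS (h : ℕ → ℕ) (R : List (List ℕ)) (y : List ℕ) : ℕ :=
  cond (Nat.blt (dotN (colS 1 R) y) 1048576) (dgS h R (dotN (colS 1048576 R) y)) (sumH h R y)

private def gS (N q t : ℕ) : ℕ := Nat.add (hh N t) (Nat.mul 2305843009213693950 (hh N (q * t)))

private noncomputable def invS (N q : ℕ) (R : List (List ℕ)) (y : List ℕ) : Bool :=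
  cond (Nat.beq (Nat.mod (sumS (gS N q) R y) 2305843009213693951) 0)
    (Nat.beq (sumS (hh N) R y) (sumS (fun t => hh N (q * t)) R y)) false

private theorem zpS_dot (B : ℕ) (r : List ℕ) : ∀ c y : List ℕ, dotN (zpS B r c) y = dotN r y + B * dotN c y := by
  have d0 : ∀ y, dotN [] y = 0 := fun y => by cases y <;> rfl
  have d1 : ∀ y, dotN y [] = 0 := fun y => by cases y <;> rfl
  have h0 : ∀ (B : ℕ) (c y : List ℕ), dotN (c.map (Nat.mul B)) y = B * dotN c y := fun B c => by
    induction c with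
    | nil => exact fun y => (d0 y).trans (by rw [d0]; rfl)
    | cons b c ih =>
      intro y
      cases y with
      | nil => exact (d1 _).trans (by rw [d1]; rfl)
      | cons x y =>
        show B * b * x + dotN (c.map (Nat.mul B)) y = B * (b * x + dotN c y)
        rw [ih, Nat.mul_add, Nat.mul_assoc]
  induction r with
  | nil => exact fun c y => (h0 B c y).trans (by rw [d0, Nat.zero_add])
  | cons a r ih =>
    intro c y
    cases y with
    | nil => rw [d1, d1, d1]; rfl
    | cons x y =>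
      show (a + B * c.headD 0) * x + dotN (zpS B r c.tail) y = a * x + dotN r y + B * dotN c (x :: y)
      rw [ih]
      cases c with
      | nil =>
        show (a + B * 0) * x + (dotN r y + B * dotN [] y) = a * x + dotN r y + B * 0
        rw [d0, Nat.mul_zero, Nat.add_zero, Nat.add_zero, Nat.add_zero]
      | cons b c =>
        show (a + B * b) * x + (dotN r y + B * dotN c y) = a * x + dotN r y + B * (b * x + dotN c y)
        rw [Nat.add_mul, Nat.mul_add, Nat.mul_assoc, Nat.add_add_add_comm]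

private theorem sumS_eq : sumH = sumS := by
  have h2 : ∀ (B : ℕ) (y : List ℕ) (R : List (List ℕ)), dotN (colS B R) y = pkS B y R := fun B y R => by
    induction R with
    | nil => cases y <;> rfl
    | cons r R ih => exact (zpS_dot B r (colS B R) y).trans (congrArg (fun z => dotN r y + B * z) ih)
  have h3 : ∀ (h : ℕ → ℕ) (y : List ℕ) (R : List (List ℕ)), pkS 1 y R < 1048576 →
      sumH h R y = dgS h R (pkS 1048576 y R) := fun h y R => by
    induction R with
    | nil => exact fun _ => rfl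
    | cons r R ih =>
      intro hl
      have e0 : dotN r y + 1 * pkS 1 y R < 1048576 := hl
      have e1 : (dotN r y + 1048576 * pkS 1048576 y R) % 1048576 = dotN r y := by omega
      have e2 : (dotN r y + 1048576 * pkS 1048576 y R) / 1048576 = pkS 1048576 y R := by omega
      show h (dotN r y) + sumH h R y = fS ((dotN r y + 1048576 * pkS 1048576 y R) % 1048576) h +
        dgS h R ((dotN r y + 1048576 * pkS 1048576 y R) / 1048576)
      rw [e1, e2, ih (by omega)]
      cases dotN r y <;> rfl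
  funext h R y
  delta sumS
  rw [h2, h2]
  cases e : Nat.blt (pkS 1 y R) 1048576 with
  | false => rfl
  | true => exact h3 h y R (Nat.blt_eq.mp e)

private theorem invS_eq : invB = invS := by
  have h0 : ∀ (N q : ℕ) (y : List ℕ) (R : List (List ℕ)), sumH (gS N q) R y =
      sumH (hh N) R y + 2305843009213693950 * sumH (fun t => hh N (q * t)) R y := fun N q y R => by
    induction R with
    | nil => rfl
    | cons r R ih =>
      show hh N (dotN r y) + 2305843009213693950 * hh N (q * dotN r y) + sumH (gS N q) R y =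
        hh N (dotN r y) + sumH (hh N) R y + 2305843009213693950 * (hh N (q * dotN r y) + sumH (fun t => hh N (q * t)) R y)
      rw [ih, Nat.mul_add, Nat.add_add_add_comm]
  funext N q R y
  delta invS invB
  rw [← sumS_eq, h0]
  cases e : Nat.beq (sumH (hh N) R y) (sumH (fun t => hh N (q * t)) R y) with
  | false => exact (Bool.cond_self _ _).symm
  | true =>
    rw [Nat.eq_of_beq_eq_true e]
    generalize sumH (fun t => hh N (q * t)) R y = s
    rw [show Nat.mod (s + 2305843009213693950 * s) 2305843009213693951 = 0 from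
      (show (s + 2305843009213693950 * s) % 2305843009213693951 = 0 by omega)]
    rfl

end

section
open Cfsg.Agent.H944.Tab (dotN allLt)

private noncomputable def alS (n : ℕ) (p : ℕ → Bool) : Bool :=
  Nat.rec true (fun i r => @Bool.rec (fun _ => Bool) false r (p i)) n

private noncomputable def stS (x : ℕ) (S : List (ℕ × List ℕ)) : List (ℕ × List ℕ) :=
  List.rec [] (fun sc _ ih => @Prod.rec _ _ (fun _ => List (ℕ × List ℕ))
    (fun s c => (Nat.add s (Nat.mul (c.headD 0) x), c.tail) :: ih) sc) S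

private noncomputable def zrS (m : ℕ) (c : List ℕ) : Bool :=
  List.rec true (fun a _ ih => @Bool.rec (fun _ => Bool) false ih (Nat.beq (Nat.mod a m) 0)) c

private noncomputable def hdS (m : ℕ) (S : List (ℕ × List ℕ)) (k : List (ℕ × List ℕ) → Bool) : Bool :=
  List.rec (k []) (fun sc T _ => @Bool.rec (fun _ => Bool) (k S)
    (@Bool.rec (fun _ => Bool) true (k T) (Nat.beq (Nat.mod sc.1 m) 0)) (zrS m sc.2)) S

private noncomputable def lpS (m n : ℕ) : List (ℕ × List ℕ) → (List ℕ → Bool) → Bool :=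
  Nat.rec (fun S p => hdS m S fun _ => p [])
    (fun _ ih S p => hdS m S fun T => alS m fun x => ih (stS x T) fun y => p (x :: y)) n

private noncomputable def alcS (θ : List ℕ) : ℕ → (List ℕ → Bool) → Bool :=
  List.rec (fun _ p => p []) (fun t _ ih N p => alS (Nat.succ (Nat.div N t)) fun x =>
    ih (Nat.sub N (Nat.mul t x)) fun y => p (x :: y)) θ

private theorem alS_eq (k : ℕ) (p : ℕ → Bool) : (List.range k).all p = alS k p := by
  induction k with
  | zero => rfl
  | succ k ih =>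
    rw [List.range_succ, List.all_append, ih, List.all_cons, List.all_nil]
    show _ = @Bool.rec (fun _ => Bool) false (alS k p) (p k)
    cases p k <;> cases alS k p <;> rfl

private theorem alcS_eq : Cfsg.Agent.H944.Tab.allAlc = alcS := by
  funext θ
  induction θ with
  | nil => rfl
  | cons t θ ih =>
    funext N p
    show (List.range (N / t + 1)).all (fun x => Cfsg.Agent.H944.Tab.allAlc θ (N - t * x) fun y => p (x :: y)) = _
    rw [alS_eq, ih]
    rfl

private theorem lpS_of (m n : ℕ) : ∀ (S : List (ℕ × List ℕ)) (p : List ℕ → Bool), lpS m n S p = true →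
    (∀ y, p y = true ∨ ∀ c ∈ S, (c.1 + dotN c.2 y) % m = 0) → allLt m n p = true := by
  have h0 : ∀ (k : ℕ) (p : ℕ → Bool), (List.range k).all p = alS k p := fun k p => by
    induction k with
    | zero => rfl
    | succ k ih =>
      rw [List.range_succ, List.all_append, ih, List.all_cons, List.all_nil]
      show _ = @Bool.rec (fun _ => Bool) false (alS k p) (p k)
      cases p k <;> cases alS k p <;> rfl
  have h1 : ∀ (n : ℕ) (p : List ℕ → Bool), (∀ y, p y = true) → allLt m n p = true := fun n => by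
    induction n with
    | zero => exact fun p h => h []
    | succ n ih => exact fun p h => List.all_eq_true.2 fun x _ => ih _ fun y => h _
  have h2 : ∀ c y : List ℕ, zrS m c = true → dotN c y % m = 0 := fun c => by
    induction c with
    | nil => exact fun y _ => by cases y <;> exact Nat.zero_mod m
    | cons a c ih =>
      intro y h
      have h' : @Bool.rec (fun _ => Bool) false (zrS m c) (Nat.beq (a % m) 0) = true := h
      cases e : Nat.beq (a % m) 0 with
      | false => rw [e] at h'; exact absurd h' Bool.false_ne_true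
      | true =>
        rw [e] at h'
        cases y with
        | nil => exact Nat.zero_mod m
        | cons x y =>
          show (a * x + dotN c y) % m = 0
          rw [Nat.add_mod, ih y h', Nat.mul_mod, Nat.eq_of_beq_eq_true e, Nat.zero_mul, Nat.zero_mod]
          exact Nat.zero_mod m
  have h3 : ∀ (S : List (ℕ × List ℕ)) (k : List (ℕ × List ℕ) → Bool) (p : List ℕ → Bool), hdS m S k = true →
      (∀ y, p y = true ∨ ∀ c ∈ S, (c.1 + dotN c.2 y) % m = 0) → (∀ y, p y = true) ∨
        ∃ T, k T = true ∧ ∀ y, p y = true ∨ ∀ c ∈ T, (c.1 + dotN c.2 y) % m = 0 := fun S k p h H => by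
    cases S with
    | nil => exact Or.inr ⟨_, h, H⟩
    | cons a T =>
      have h' : @Bool.rec (fun _ => Bool) (k (a :: T))
        (@Bool.rec (fun _ => Bool) true (k T) (Nat.beq (a.1 % m) 0)) (zrS m a.2) = true := h
      cases e : zrS m a.2 with
      | false => rw [e] at h'; exact Or.inr ⟨_, h', H⟩
      | true =>
        rw [e] at h'
        cases e' : Nat.beq (a.1 % m) 0 with
        | true =>
          rw [e'] at h'
          exact Or.inr ⟨T, h', fun y => (H y).imp_right fun g c hc => g c (List.mem_cons_of_mem _ hc)⟩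
        | false =>
          refine Or.inl fun y => (H y).resolve_right fun g => ?_
          have g1 := g a List.mem_cons_self
          rw [Nat.add_mod, h2 _ y e, Nat.add_zero, Nat.mod_mod] at g1
          rw [g1] at e'
          exact absurd e' (by decide)
  have h4 : ∀ (x : ℕ) (y : List ℕ) (T : List (ℕ × List ℕ)), (∀ c ∈ T, (c.1 + dotN c.2 (x :: y)) % m = 0) →
      ∀ c ∈ stS x T, (c.1 + dotN c.2 y) % m = 0 := fun x y T => by
    induction T with
    | nil => exact fun _ c hc => absurd hc List.not_mem_nil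
    | cons a T ih =>
      obtain ⟨s, d⟩ := a
      intro g c hc
      rcases List.mem_cons.1 (show c ∈ (s + d.headD 0 * x, d.tail) :: stS x T from hc) with rfl | hc
      · have g1 := g (s, d) List.mem_cons_self
        cases d with
        | nil =>
          show (s + 0 * x + dotN [] y) % m = 0
          rw [Nat.zero_mul, show dotN [] y = 0 by cases y <;> rfl]
          exact g1
        | cons b d =>
          show (s + b * x + dotN d y) % m = 0
          rw [Nat.add_assoc]
          exact g1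
      · exact ih (fun c hc => g c (List.mem_cons_of_mem _ hc)) c hc
  induction n with
  | zero =>
    intro S p h H
    rcases h3 S (fun _ => p []) p h H with g | ⟨T, g, -⟩
    · exact g []
    · exact g
  | succ n ih =>
    intro S p h H
    rcases h3 S (fun T => alS m fun x => lpS m n (stS x T) fun y => p (x :: y)) p h H with g | ⟨T, g, G⟩
    · exact h1 _ p g
    · refine List.all_eq_true.2 fun x hx => ih (stS x T) _ (List.all_eq_true.1 ((h0 m _).trans g) x hx) fun y => ?_
      exact (G (x :: y)).imp_right (h4 x y T)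

end
end Cfsg.Agent

-- part: H943/E91a
section
/-!
# The second stage of the classification of vectors modulo `7 * 13` for `E8` (helper943)
-/

set_option autoImplicit false
set_option maxRecDepth 100000

namespace Cfsg.Agent.H943.E91

open Cfsg.Agent.ChevalleyStructure.CoxeterGeom Cfsg.Agent.Tits.Roots
  Cfsg.Agent.Nodes.RGDChev
open Cfsg.Lie Cfsg.Agent.ChevalleyStructure Cfsg.Agent.ChevalleyStructure.Elts
  Cfsg.Agent.ChevalleyStructure.RootVec Cfsg.Agent.ChevalleyStructure.RootVecTab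
  Cfsg.Agent.ChevalleyStructure.NPerm Cfsg.Agent.ChevalleyStructure.CoxeterGeomTypes
open Cfsg.Agent.H944.RootVals Cfsg.Agent.H944.Kac Cfsg.Agent.H944.Tab
open Cfsg.Agent.H943.E8Tab
open Cfsg.Agent.H943.Alc (A8 sv dot toF srL bv Q exists_min le_of_min perm_of_list)

/-- reduction modulo 7 -/
abbrev p₁ : ZMod (7 * 13) →+* ZMod 7 := ZMod.castHom (Dvd.intro _ rfl) (ZMod 7)

/-- reduction modulo 13 -/
abbrev p₂ : ZMod (7 * 13) →+* ZMod 13 := ZMod.castHom (Dvd.intro_left _ rfl) (ZMod 13)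

/-- invariance under the multiplication by 3 -/
def Inv3 (v : Fin 8 → ZMod (7 * 13)) : Prop :=
  ms chevE8 8 v = (ms chevE8 8 v).map (fun a => ((3 : ℕ) : ZMod (7 * 13)) * a)

theorem cartan_A8 : ∀ i j : Fin 8, cartanOf chevE8 8 j i = A8 i j := by decide +kernel

theorem srefl_int {N : ℕ} (j : Fin 8) (t : Fin 8 → ℤ) :
    srefl chevE8 8 j (fun i => ((t i : ℤ) : ZMod N)) = fun i => ((sv A8 j t i : ℤ) : ZMod N) := by
  funext i
  unfold srefl sv
  rw [cartan_A8]
  push_cast
  rfl

/-- **minimal second components** -/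
theorem stageB (Y : List ℕ) (J : Finset (Fin 8)) (RJ : List (List ℤ)) (r : Fin 8 → ℕ)
    (hJY : ∀ j ∈ J, Y.getD (j : ℕ) 0 = 0) (hlen : ∀ a ∈ RJ, a.length = 8)
    (h1 : ∀ j ∈ J, (RJ.map (srL (j : Fin 8))).Perm RJ)
    (h2 : ∀ j ∈ J, (Pi.single j 1 : Fin 8 → ℤ) ∈ RJ.map toF) (h3 : ∀ a ∈ RJ.map toF, ∀ i, i ∉ J → a i = 0)
    (h4 : ∀ j ∈ J, ∑ i, (r i : ℤ) * A8 i j = 2) (h5 : ∀ i, i ∉ J → r i = 0)
    {v : Fin 8 → ZMod (7 * 13)} (hv : (fun i => p₁ (v i)) = vecOf 7 Y) (h13 : (fun i => p₂ (v i)) ≠ 0) :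
    ∃ u : Fin 8 → ℕ, (∀ i, i ∉ J → u i < 13) ∧ (∃ v' : Fin 8 → ZMod (7 * 13), (fun i => p₁ (v' i)) = vecOf 7 Y ∧
      (fun i => p₂ (v' i)) = (fun i => ((u i : ℕ) : ZMod 13)) ∧ ms chevE8 8 v' = ms chevE8 8 v ∧
      (fun i => p₂ (v' i)) ≠ 0) ∧
      ∀ d : Fin 8 → ℤ, 2 * dot (bv (RJ.map toF) d) (fun i => (u i : ℤ)) ≤ 13 * Q (RJ.map toF) d := by
  let T : (Fin 8 → ℤ) → Prop := fun t => ∃ v' : Fin 8 → ZMod (7 * 13), (fun i => p₁ (v' i)) = vecOf 7 Y ∧
      (fun i => p₂ (v' i)) = (fun i => ((t i : ℤ) : ZMod 13)) ∧ ms chevE8 8 v' = ms chevE8 8 v ∧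
      (fun i => p₂ (v' i)) ≠ 0
  have hne : ∃ t, T t := by
    refine ⟨fun i => ((p₂ (v i)).val : ℤ), v, hv, ?_, rfl, h13⟩
    funext i
    push_cast
    exact (ZMod.natCast_zmod_val _).symm
  have hs : ∀ j ∈ J, ∀ t, T t → T (sv A8 j t) := by
    rintro j hj t ⟨v', e1, e2, e3, e4⟩
    refine ⟨srefl chevE8 8 j v', ?_, ?_, ?_, ?_⟩
    · rw [← srefl_map, e1]
      funext i
      have hz : vecOf 7 Y j = 0 := by
        unfold vecOf
        rw [hJY j hj, Nat.cast_zero]
      unfold srefl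
      rw [hz, mul_zero, sub_zero]
    · rw [← srefl_map, e2, srefl_int]
    · rw [ms_srefl e8T, e3]
    · intro h0
      rw [← srefl_map] at h0
      exact e4 (srefl_eq_zero e8T h0)
  have ht : ∀ t d, T t → T (t + (13 : ℤ) • d) := by
    rintro t d ⟨v', e1, e2, e3, e4⟩
    refine ⟨v', e1, ?_, e3, e4⟩
    rw [e2]
    funext i
    rw [Pi.add_apply, Pi.smul_apply, smul_eq_mul]
    push_cast
    have : (13 : ZMod 13) = 0 := by decide
    rw [this, zero_mul, add_zero]
  obtain ⟨t, ⟨v', e1, e2, e3, e4⟩, hJ, hnJ, hmin⟩ := exists_min A8 J (RJ.map toF) r (N := 13) (by norm_num)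
    (fun j hj => perm_of_list hlen j (h1 j hj)) h2 h3 h4 h5 T hne hs ht
  have hpos : ∀ i, 0 ≤ t i := by
    intro i
    by_cases hi : i ∈ J
    · exact hJ i hi
    · exact (hnJ i hi).1
  have htn : ∀ i, (((t i).toNat : ℕ) : ℤ) = t i := fun i => Int.toNat_of_nonneg (hpos i)
  refine ⟨fun i => (t i).toNat, fun i hi => ?_, ⟨v', e1, ?_, e3, e4⟩, fun d => ?_⟩
  · have h6 := (hnJ i hi).2
    have h7 := htn i
    have h8 : (((t i).toNat : ℕ) : ℤ) < 13 := by rw [h7]; exact h6
    exact_mod_cast h8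
  · rw [e2]
    funext i
    conv_lhs => rw [← htn i]
    push_cast
    rfl
  · have h6 := le_of_min (by norm_num) hmin d
    have h7 : (fun i => (((t i).toNat : ℕ) : ℤ)) = t := funext htn
    rw [h7]
    exact h6

/-- the invariance of the part with trivial first component -/
theorem invJ_of {v : Fin 8 → ZMod (7 * 13)} (hq : Inv3 v) {Y U : List ℕ} (hY : (fun i => p₁ (v i)) = vecOf 7 Y)
    (hU : (fun i => p₂ (v i)) = vecOf 13 U) :
    sumH (hh 13) (R8.filter fun r => Nat.beq (dotN r Y % 7) 0) U =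
      sumH (fun t => hh 13 (3 * t)) (R8.filter fun r => Nat.beq (dotN r Y % 7) 0) U := by
  have h1 := sum_inv tab8 hq (fun a => if p₁ a = 0 then 256 ^ (p₂ a).val else 0)
  have hd1 : ∀ r ∈ R8, p₁ (dotF r v) = ((dotN r Y : ℕ) : ZMod 7) := by
    intro r hr
    rw [← dotF_vecOf (len8 r hr), ← hY]
    unfold dotF
    rw [map_sum]
    exact Finset.sum_congr rfl fun i _ => by rw [map_mul, map_natCast]
  have hd2 : ∀ r ∈ R8, p₂ (dotF r v) = ((dotN r U : ℕ) : ZMod 13) := by
    intro r hr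
    rw [← dotF_vecOf (len8 r hr), ← hU]
    unfold dotF
    rw [map_sum]
    exact Finset.sum_congr rfl fun i _ => by rw [map_mul, map_natCast]
  have h2 : ∀ t : ℕ, 256 ^ (t : ZMod 13).val + 256 ^ (-(t : ZMod 13)).val = hh 13 t := by
    intro t
    rw [hh, ZMod.val_natCast]
    rfl
  have h7 : ∀ t : ℕ, ((t : ZMod 7) = 0) ↔ Nat.beq (t % 7) 0 = true := by
    intro t
    rw [ZMod.natCast_eq_zero_iff, Nat.dvd_iff_mod_eq_zero, Nat.beq_eq]
  have h37 : ∀ t : ZMod 7, ((3 : ℕ) : ZMod 7) * t = 0 ↔ t = 0 := by decide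
  have key : ∀ (h : ℕ → ℕ) (R : List (List ℕ)), sumH h (R.filter fun r => Nat.beq (dotN r Y % 7) 0) U =
      (R.map fun r => if ((dotN r Y : ℕ) : ZMod 7) = 0 then h (dotN r U) else 0).sum := by
    intro h R
    induction R with
    | nil => rfl
    | cons r R ih =>
      rw [List.map_cons, List.sum_cons, ← ih]
      by_cases hr : ((dotN r Y : ℕ) : ZMod 7) = 0
      · rw [if_pos hr, List.filter_cons_of_pos (p := fun r => Nat.beq (dotN r Y % 7) 0) ((h7 _).1 hr)]
        rfl
      · rw [if_neg hr, List.filter_cons_of_neg (p := fun r => Nat.beq (dotN r Y % 7) 0) (fun h' => hr ((h7 _).2 h')),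
          zero_add]
  rw [key, key]
  have e1 : (R8.map fun r => ((if p₁ (dotF r v) = 0 then 256 ^ (p₂ (dotF r v)).val else 0) +
      (if p₁ (-dotF r v) = 0 then 256 ^ (p₂ (-dotF r v)).val else 0))) =
      R8.map fun r => if ((dotN r Y : ℕ) : ZMod 7) = 0 then hh 13 (dotN r U) else 0 := by
    refine List.map_congr_left fun r hr => ?_
    rw [map_neg, map_neg, hd1 r hr, hd2 r hr]
    simp only [neg_eq_zero]
    split_ifs
    · exact h2 _
    · rfl
  have e2 : (R8.map fun r => ((if p₁ (((3 : ℕ) : ZMod (7 * 13)) * dotF r v) = 0 then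
        256 ^ (p₂ (((3 : ℕ) : ZMod (7 * 13)) * dotF r v)).val else 0) +
      (if p₁ (-(((3 : ℕ) : ZMod (7 * 13)) * dotF r v)) = 0 then
        256 ^ (p₂ (-(((3 : ℕ) : ZMod (7 * 13)) * dotF r v))).val else 0))) =
      R8.map fun r => if ((dotN r Y : ℕ) : ZMod 7) = 0 then hh 13 (3 * dotN r U) else 0 := by
    refine List.map_congr_left fun r hr => ?_
    rw [map_neg, map_neg, map_mul, map_mul, hd1 r hr, hd2 r hr, map_natCast p₁, map_natCast p₂, ← Nat.cast_mul 3 (dotN r U)]
    simp only [neg_eq_zero, h37]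
    split_ifs
    · exact h2 _
    · rfl
  rw [← e1, ← e2]
  exact h1

/-- the vector from its two components -/
theorem eq_crt {v : Fin 8 → ZMod (7 * 13)} {Y U : List ℕ} (hYl : Y.length = U.length)
    (hY : (fun i => p₁ (v i)) = vecOf 7 Y) (hU : (fun i => p₂ (v i)) = vecOf 13 U) :
    v = vecOf (7 * 13) (crt 78 14 91 Y U) := by
  have hco : Nat.Coprime 7 13 := by norm_num
  funext i
  unfold vecOf
  rw [crt_getD 78 14 91 Y U hYl]
  have hmod : (((78 * Y.getD (i : ℕ) 0 + 14 * U.getD (i : ℕ) 0) % 91 : ℕ) : ZMod (7 * 13)) =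
      ((78 * Y.getD (i : ℕ) 0 + 14 * U.getD (i : ℕ) 0 : ℕ) : ZMod (7 * 13)) := ZMod.natCast_mod _ (7 * 13)
  rw [hmod]
  apply (ZMod.chineseRemainder hco).injective
  have h5 : ∀ z : ZMod (7 * 13), ZMod.chineseRemainder hco z = (p₁ z, p₂ z) := by
    intro z
    apply Prod.ext
    · exact RingHom.congr_fun (Subsingleton.elim ((RingHom.fst _ _).comp (ZMod.chineseRemainder hco).toRingHom) p₁) z
    · exact RingHom.congr_fun (Subsingleton.elim ((RingHom.snd _ _).comp (ZMod.chineseRemainder hco).toRingHom) p₂) z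
  rw [h5, h5]
  have hy := congrFun hY i
  have hu := congrFun hU i
  have e1 : ((78 : ℕ) : ZMod 7) = 1 := by decide
  have e2 : ((14 : ℕ) : ZMod 7) = 0 := by decide
  have e3 : ((78 : ℕ) : ZMod 13) = 0 := by decide
  have e4 : ((14 : ℕ) : ZMod 13) = 1 := by decide
  apply Prod.ext
  · show p₁ _ = p₁ _
    rw [map_natCast, Nat.cast_add, Nat.cast_mul, Nat.cast_mul, e1, e2, zero_mul, add_zero, one_mul]
    exact hy
  · show p₂ _ = p₂ _
    rw [map_natCast, Nat.cast_add, Nat.cast_mul, Nat.cast_mul, e3, e4, zero_mul, zero_add, one_mul]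
    exact hu

theorem invB_crt {v : Fin 8 → ZMod (7 * 13)} (hq : Inv3 v) {Y U : List ℕ} (hYl : Y.length = U.length)
    (hY : (fun i => p₁ (v i)) = vecOf 7 Y) (hU : (fun i => p₂ (v i)) = vecOf 13 U) :
    invB 91 3 R8 (crt 78 14 91 Y U) = true := by
  refine invB_of (N := 91) (by norm_num) tab8 len8 ?_
  have h1 := eq_crt hYl hY hU
  have h2 : Inv3 (vecOf (7 * 13) (crt 78 14 91 Y U)) := by rw [← h1]; exact hq
  exact h2

end Cfsg.Agent.H943.E91
end

-- part: H943/E91b
section
/-!
# The vectors modulo `7 * 13` with root values invariant under the multiplication by 3, for `E8` (helper943)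
-/

set_option autoImplicit false
set_option maxRecDepth 100000
set_option maxHeartbeats 1000000

namespace Cfsg.Agent.H943.E91

open Cfsg.Agent.ChevalleyStructure.CoxeterGeom Cfsg.Agent.Tits.Roots
  Cfsg.Agent.Nodes.RGDChev
open Cfsg.Lie Cfsg.Agent.ChevalleyStructure Cfsg.Agent.ChevalleyStructure.Elts
  Cfsg.Agent.ChevalleyStructure.RootVec Cfsg.Agent.ChevalleyStructure.RootVecTab
  Cfsg.Agent.ChevalleyStructure.NPerm Cfsg.Agent.ChevalleyStructure.CoxeterGeomTypes
open Cfsg.Agent.H944.RootVals Cfsg.Agent.H944.Kac Cfsg.Agent.H944.Tab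
open Cfsg.Agent.H943.E8Tab Cfsg.Agent.H943.Cert
open Cfsg.Agent.H943.Alc (A8 sv dot toF srL bv Q)

/-- the first alcove point modulo 7 -/
def s38 : List ℕ := [1, 0, 0, 0, 0, 1, 0, 0]

/-- the second alcove point modulo 7 -/
def s80 : List ℕ := [0, 0, 0, 0, 0, 0, 1, 1]

theorem check7 : allAlc th8 7 (fun y => bif invB 7 3 R8 y then
    (y == s38 || y == s80 || y == [0, 0, 0, 0, 0, 0, 0, 0]) else true) = true := by
  rw [invS_eq]
  decide +kernel

/-! ### the certificates -/

/-- the value of a positive functional on a root and its negative -/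
def hY (c t : ℕ) : ℕ := tb (BY c) (t % 91) + tb (BY c) ((91 - t % 91) % 91)

/-- the value of a positive functional -/
def cval (c : ℕ) (V : List ℕ) : ℕ := 8 * tb (BY c) 0 + sumH (hY c) R8 V

/-- negative value of a functional -/
def negB (c n : ℕ) (V : List ℕ) : Bool :=
  Nat.blt (cval c V + (tb (BG c) 0 * n + tb (BG c) 2 * (248 - n))) (248 * CC c)

/-- some functional is negative, for each type of involution -/
def certOK (V : List ℕ) : Bool :=
  (negB 0 136 V || negB 1 136 V || negB 2 136 V || negB 3 136 V) &&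
  (negB 0 120 V || negB 1 120 V || negB 2 120 V || negB 3 120 V)

/-! ### the checks of the second stage -/

/-- linear conditions -/
def B38 : List (ℕ × List ℕ) :=
  [(1, [0, 2, 2, 4, 4, 4, 7, 10]), (2, [4, 4, 6, 8, 6, 4, 7, 10]), (3, [4, 6, 8, 12, 10, 8, 1, 7])]

/-- linear conditions -/
def B80 : List (ℕ × List ℕ) :=
  [(1, [1, 8, 2, 3, 9, 2, 8, 11]), (2, [5, 1, 10, 2, 6, 10, 1, 12]), (3, [6, 9, 12, 5, 2, 12, 9, 10])]

theorem chkB38 : chkB 7 13 3 8 R8 s38 B38 = true := by decide +kernel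

theorem chkB80 : chkB 7 13 3 8 R8 s80 B80 = true := by decide +kernel

/-- the final test -/
def fin (Y : List ℕ) (B : List (ℕ × List ℕ)) (U : List ℕ) : Bool :=
  bif B.all (fun cb => Nat.beq (dotN cb.2 U % 13) 0) then
    (bif isZ U then true else (bif invB 91 3 R8 (crt 78 14 91 Y U) then certOK (crt 78 14 91 Y U) else true)) else true

/-- assembly of the coordinates -/
def asm38 (a b c : List ℕ) : List ℕ :=
  [c.getD 0 0, a.getD 0 0, a.getD 1 0, a.getD 2 0, a.getD 3 0, c.getD 1 0, b.getD 0 0, b.getD 1 0]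

/-- assembly of the coordinates -/
def asm80 (a c : List ℕ) : List ℕ :=
  [a.getD 0 0, a.getD 1 0, a.getD 2 0, a.getD 3 0, a.getD 4 0, a.getD 5 0, c.getD 0 0, c.getD 1 0]

/-- positive roots of `D4` -/
def RD : List (List ℕ) :=
  [[0, 0, 0, 1], [0, 0, 1, 0], [0, 0, 1, 1], [0, 1, 0, 0], [0, 1, 1, 0], [0, 1, 1, 1], [1, 0, 0, 0], [1, 0, 1, 0],
    [1, 0, 1, 1], [1, 1, 1, 0], [1, 1, 1, 1], [1, 1, 2, 1]]

/-- positive roots of `A2` -/
def RA : List (List ℕ) := [[0, 1], [1, 0], [1, 1]]

/-- positive roots of `E6` -/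
def RE : List (List ℕ) :=
  [[0, 0, 0, 0, 0, 1], [0, 0, 0, 0, 1, 0], [0, 0, 0, 0, 1, 1], [0, 0, 0, 1, 0, 0], [0, 0, 0, 1, 1, 0],
    [0, 0, 0, 1, 1, 1], [0, 0, 1, 0, 0, 0], [0, 0, 1, 1, 0, 0], [0, 0, 1, 1, 1, 0], [0, 0, 1, 1, 1, 1],
    [0, 1, 0, 0, 0, 0], [0, 1, 0, 1, 0, 0], [0, 1, 0, 1, 1, 0], [0, 1, 0, 1, 1, 1], [0, 1, 1, 1, 0, 0],
    [0, 1, 1, 1, 1, 0], [0, 1, 1, 1, 1, 1], [0, 1, 1, 2, 1, 0], [0, 1, 1, 2, 1, 1], [0, 1, 1, 2, 2, 1],
    [1, 0, 0, 0, 0, 0], [1, 0, 1, 0, 0, 0], [1, 0, 1, 1, 0, 0], [1, 0, 1, 1, 1, 0], [1, 0, 1, 1, 1, 1],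
    [1, 1, 1, 1, 0, 0], [1, 1, 1, 1, 1, 0], [1, 1, 1, 1, 1, 1], [1, 1, 1, 2, 1, 0], [1, 1, 1, 2, 1, 1],
    [1, 1, 1, 2, 2, 1], [1, 1, 2, 2, 1, 0], [1, 1, 2, 2, 1, 1], [1, 1, 2, 2, 2, 1], [1, 1, 2, 3, 2, 1],
    [1, 2, 2, 3, 2, 1]]

/-- positive roots of `D4A2` -/
def RJ38 : List (List ℕ) :=
  [[0, 0, 0, 0, 0, 0, 0, 1], [0, 0, 0, 0, 0, 0, 1, 0], [0, 0, 0, 0, 0, 0, 1, 1], [0, 0, 0, 0, 1, 0, 0, 0],
    [0, 0, 0, 1, 0, 0, 0, 0], [0, 0, 0, 1, 1, 0, 0, 0], [0, 0, 1, 0, 0, 0, 0, 0], [0, 0, 1, 1, 0, 0, 0, 0],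
    [0, 0, 1, 1, 1, 0, 0, 0], [0, 1, 0, 0, 0, 0, 0, 0], [0, 1, 0, 1, 0, 0, 0, 0], [0, 1, 0, 1, 1, 0, 0, 0],
    [0, 1, 1, 1, 0, 0, 0, 0], [0, 1, 1, 1, 1, 0, 0, 0], [0, 1, 1, 2, 1, 0, 0, 0]]

/-- positive roots of `E6` -/
def RJ80 : List (List ℕ) :=
  [[0, 0, 0, 0, 0, 1, 0, 0], [0, 0, 0, 0, 1, 0, 0, 0], [0, 0, 0, 0, 1, 1, 0, 0], [0, 0, 0, 1, 0, 0, 0, 0],
    [0, 0, 0, 1, 1, 0, 0, 0], [0, 0, 0, 1, 1, 1, 0, 0], [0, 0, 1, 0, 0, 0, 0, 0], [0, 0, 1, 1, 0, 0, 0, 0],
    [0, 0, 1, 1, 1, 0, 0, 0], [0, 0, 1, 1, 1, 1, 0, 0], [0, 1, 0, 0, 0, 0, 0, 0], [0, 1, 0, 1, 0, 0, 0, 0],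
    [0, 1, 0, 1, 1, 0, 0, 0], [0, 1, 0, 1, 1, 1, 0, 0], [0, 1, 1, 1, 0, 0, 0, 0], [0, 1, 1, 1, 1, 0, 0, 0],
    [0, 1, 1, 1, 1, 1, 0, 0], [0, 1, 1, 2, 1, 0, 0, 0], [0, 1, 1, 2, 1, 1, 0, 0], [0, 1, 1, 2, 2, 1, 0, 0],
    [1, 0, 0, 0, 0, 0, 0, 0], [1, 0, 1, 0, 0, 0, 0, 0], [1, 0, 1, 1, 0, 0, 0, 0], [1, 0, 1, 1, 1, 0, 0, 0],
    [1, 0, 1, 1, 1, 1, 0, 0], [1, 1, 1, 1, 0, 0, 0, 0], [1, 1, 1, 1, 1, 0, 0, 0], [1, 1, 1, 1, 1, 1, 0, 0],
    [1, 1, 1, 2, 1, 0, 0, 0], [1, 1, 1, 2, 1, 1, 0, 0], [1, 1, 1, 2, 2, 1, 0, 0], [1, 1, 2, 2, 1, 0, 0, 0],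
    [1, 1, 2, 2, 1, 1, 0, 0], [1, 1, 2, 2, 2, 1, 0, 0], [1, 1, 2, 3, 2, 1, 0, 0], [1, 2, 2, 3, 2, 1, 0, 0]]

theorem filter38 : (R8.filter fun r => Nat.beq (dotN r s38 % 7) 0) = RJ38 := by decide +kernel

theorem filter80 : (R8.filter fun r => Nat.beq (dotN r s80 % 7) 0) = RJ80 := by decide +kernel

theorem split38 (h : ℕ → ℕ) (c0 a0 a1 a2 a3 c1 b0 b1 : ℕ) :
    sumH h RJ38 [c0, a0, a1, a2, a3, c1, b0, b1] = sumH h RD [a0, a1, a2, a3] + sumH h RA [b0, b1] := by
  simp only [RJ38, RD, RA, sumH, dotN, zero_mul, zero_add, add_zero, one_mul]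
  ring

theorem split80 (h : ℕ → ℕ) (a0 a1 a2 a3 a4 a5 c0 c1 : ℕ) :
    sumH h RJ80 [a0, a1, a2, a3, a4, a5, c0, c1] = sumH h RE [a0, a1, a2, a3, a4, a5] := by
  simp only [RJ80, RE, sumH, dotN, zero_mul, zero_add, add_zero, one_mul]

/-- the code of a triple value -/
def h3 (t : ℕ) : ℕ := hh 13 (3 * t)

private noncomputable def in38 (a b : List ℕ) : Bool :=
  lpS 13 2 [(2 * a.getD 0 0 + 4 * a.getD 1 0 + 4 * a.getD 2 0 + 2 * a.getD 3 0, [4]),
    (2 * a.getD 0 0 + 2 * a.getD 1 0 + 4 * a.getD 2 0 + 4 * a.getD 3 0 + 7 * b.getD 0 0 + 10 * b.getD 1 0, [0, 4])]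
    (fun c => fin s38 B38 (asm38 a b c)) || allLt 13 2 (fun c => fin s38 B38 (asm38 a b c))

private noncomputable def in80 (a : List ℕ) : Bool :=
  lpS 13 2 [(11 * a.getD 0 0 + 10 * a.getD 1 0 + 9 * a.getD 2 0 + 7 * a.getD 3 0 + 8 * a.getD 4 0 + 9 * a.getD 5 0, [10]),
    (1 * a.getD 0 0 + 8 * a.getD 1 0 + 2 * a.getD 2 0 + 3 * a.getD 3 0 + 9 * a.getD 4 0 + 2 * a.getD 5 0, [8, 11])]
    (fun c => fin s80 B80 (asm80 a c)) || allLt 13 2 (fun c => fin s80 B80 (asm80 a c))

private theorem dot12 (p q : ℕ) (y : List ℕ) :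
    dotN [p] y = p * y.getD 0 0 ∧ dotN [p, q] y = p * y.getD 0 0 + q * y.getD 1 0 := by
  rcases y with _ | ⟨x, _ | ⟨z, y⟩⟩
  · exact ⟨rfl, rfl⟩
  · exact ⟨rfl, rfl⟩
  · exact ⟨rfl, by cases y <;> rfl⟩

private theorem or_of {a b : Bool} (h : a = true → b = true) : b = (a || b) := by
  cases a
  · rfl
  · exact h rfl

private theorem fin_or (Y : List ℕ) (r s t : ℕ × List ℕ) (U : List ℕ) :
    fin Y [r, s, t] U = true ∨ dotN r.2 U % 13 = 0 ∧ dotN s.2 U % 13 = 0 := by
  delta fin
  cases e : [r, s, t].all (fun cb => Nat.beq (dotN cb.2 U % 13) 0) with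
  | false => exact Or.inl rfl
  | true =>
    rw [List.all_cons, List.all_cons, Bool.and_eq_true, Bool.and_eq_true] at e
    exact Or.inr ⟨Nat.eq_of_beq_eq_true e.1, Nat.eq_of_beq_eq_true e.2.1⟩

private theorem md13 {x y z u v w : ℕ} (h1 : x % 13 = 0) (h2 : y % 13 = 0) (h : z + 13 * w = u * x + v * y) : z % 13 = 0 := by
  rw [← Nat.add_mul_mod_self_left z 13 w, h, Nat.add_mod, Nat.mul_mod, h1, Nat.mul_mod v, h2]
  rfl

private theorem in38_eq (a b : List ℕ) : allLt 13 2 (fun c => fin s38 B38 (asm38 a b c)) = in38 a b := by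
  refine or_of fun h => lpS_of 13 2 _ _ h fun y => (fin_or _ _ _ _ _).imp_right fun g c hc => ?_
  have g1 : (0 * y.getD 0 0 + (2 * a.getD 0 0 + (2 * a.getD 1 0 + (4 * a.getD 2 0 + (4 * a.getD 3 0 + (4 * y.getD 1 0 +
    (7 * b.getD 0 0 + (10 * b.getD 1 0 + 0)))))))) % 13 = 0 := g.1
  have g2 : (4 * y.getD 0 0 + (4 * a.getD 0 0 + (6 * a.getD 1 0 + (8 * a.getD 2 0 + (6 * a.getD 3 0 + (4 * y.getD 1 0 +
    (7 * b.getD 0 0 + (10 * b.getD 1 0 + 0)))))))) % 13 = 0 := g.2
  rcases List.mem_cons.1 hc with rfl | hc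
  · rw [(dot12 4 0 y).1]
    exact md13 (u := 12) (v := 1) (w := 2 * a.getD 0 0 + 2 * a.getD 1 0 + 4 * a.getD 2 0 + 4 * a.getD 3 0 + 4 * y.getD 1 0 +
      7 * b.getD 0 0 + 10 * b.getD 1 0) g1 g2 (by (clear * -; solve | lia | omega))
  · rw [List.mem_singleton.1 hc, (dot12 0 4 y).2]
    exact md13 (u := 1) (v := 0) (w := 0) g1 g2 (by (clear * -; solve | lia | omega))

private theorem in80_eq (a : List ℕ) : allLt 13 2 (fun c => fin s80 B80 (asm80 a c)) = in80 a := by
  refine or_of fun h => lpS_of 13 2 _ _ h fun y => (fin_or _ _ _ _ _).imp_right fun g c hc => ?_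
  have g1 : (1 * a.getD 0 0 + (8 * a.getD 1 0 + (2 * a.getD 2 0 + (3 * a.getD 3 0 + (9 * a.getD 4 0 + (2 * a.getD 5 0 +
    (8 * y.getD 0 0 + (11 * y.getD 1 0 + 0)))))))) % 13 = 0 := g.1
  have g2 : (5 * a.getD 0 0 + (1 * a.getD 1 0 + (10 * a.getD 2 0 + (2 * a.getD 3 0 + (6 * a.getD 4 0 + (10 * a.getD 5 0 +
    (1 * y.getD 0 0 + (12 * y.getD 1 0 + 0)))))))) % 13 = 0 := g.2
  rcases List.mem_cons.1 hc with rfl | hc
  · rw [(dot12 10 0 y).1]
    exact md13 (u := 6) (v := 1) (w := 3 * a.getD 1 0 + a.getD 2 0 + a.getD 3 0 + 4 * a.getD 4 0 + a.getD 5 0 +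
      3 * y.getD 0 0 + 6 * y.getD 1 0) g1 g2 (by (clear * -; solve | lia | omega))
  · rw [List.mem_singleton.1 hc, (dot12 8 11 y).2]
    exact md13 (u := 1) (v := 0) (w := 0) g1 g2 (by (clear * -; solve | lia | omega))

theorem chk38 : (allAlc [2, 1, 2, 1] 13 fun a => bif (Nat.ble (dotN [1, 2, 2, 1] a) 13 && Nat.ble (dotN [1, 1, 2, 2] a) 13) then
    (allAlc [2, 1] 13 fun b => bif Nat.ble (dotN [1, 2] b) 13 then
      (bif Nat.beq (sumH (hh 13) RD a + sumH (hh 13) RA b) (sumH h3 RD a + sumH h3 RA b) then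
        allLt 13 2 (fun c => fin s38 B38 (asm38 a b c)) else true) else true) else true) = true := by
  simp only [in38_eq]
  delta in38 fin certOK negB cval
  rw [invS_eq, sumS_eq, alcS_eq]
  decide +kernel

theorem chk80 : (allAlc [1, 2, 2, 3, 2, 1] 13 fun a => bif (Nat.ble (dotN [4, 3, 5, 6, 4, 2] a) 26 &&
      Nat.ble (dotN [2, 3, 4, 6, 5, 4] a) 26) then
    (bif Nat.beq (sumH (hh 13) RE a) (sumH h3 RE a) then
        allLt 13 2 (fun c => fin s80 B80 (asm80 a c)) else true) else true) = true := by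
  simp only [in80_eq]
  delta in80 fin certOK negB cval
  rw [invS_eq, sumS_eq, alcS_eq]
  decide +kernel

end Cfsg.Agent.H943.E91
end

-- part: H943/E91c
section
/-!
# The classification of the vectors modulo `7 * 13` (helper943)
-/

set_option autoImplicit false
set_option maxRecDepth 100000
set_option maxHeartbeats 1000000

namespace Cfsg.Agent.H943.E91

open Cfsg.Agent.ChevalleyStructure.CoxeterGeom Cfsg.Agent.Tits.Roots
  Cfsg.Agent.Nodes.RGDChev
open Cfsg.Lie Cfsg.Agent.ChevalleyStructure Cfsg.Agent.ChevalleyStructure.Elts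
  Cfsg.Agent.ChevalleyStructure.RootVec Cfsg.Agent.ChevalleyStructure.RootVecTab
  Cfsg.Agent.ChevalleyStructure.NPerm Cfsg.Agent.ChevalleyStructure.CoxeterGeomTypes
open Cfsg.Agent.H944.RootVals Cfsg.Agent.H944.Kac Cfsg.Agent.H944.Tab
open Cfsg.Agent.H943.E8Tab Cfsg.Agent.H943.Cert
open Cfsg.Agent.H943.Alc (A8 sv dot toF srL bv Q)

/-- roots of `D4A2` -/
def RZ38 : List (List ℤ) := Alc.R8.filter fun a => (a.getD 0 0 == 0) && (a.getD 5 0 == 0)

/-- roots of `E6` -/
def RZ80 : List (List ℤ) := Alc.R8.filter fun a => (a.getD 6 0 == 0) && (a.getD 7 0 == 0)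

/-- zero nodes -/
def J38 : Finset (Fin 8) := {1, 2, 3, 4, 6, 7}

/-- zero nodes -/
def J80 : Finset (Fin 8) := {0, 1, 2, 3, 4, 5}

/-- sum of the positive roots -/
def r38 : Fin 8 → ℕ := ![0, 6, 6, 10, 6, 0, 2, 2]

/-- sum of the positive roots -/
def r80 : Fin 8 → ℕ := ![16, 22, 30, 42, 30, 16, 0, 0]

theorem con {RJ : List (Fin 8 → ℤ)} {u : Fin 8 → ℕ} {d b : Fin 8 → ℤ} {c : ℤ} (hb : bv RJ d = b) (hc : Q RJ d = c)
    (h : 2 * dot (bv RJ d) (fun i => (u i : ℤ)) ≤ 13 * Q RJ d) :
    2 * (b 0 * u 0 + b 1 * u 1 + b 2 * u 2 + b 3 * u 3 + b 4 * u 4 + b 5 * u 5 + b 6 * u 6 + b 7 * u 7) ≤ 13 * c := by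
  rw [hb, hc] at h
  unfold dot at h
  rw [Fin.sum_univ_eight] at h
  exact h

theorem vecOf_list {N : ℕ} (u : Fin 8 → ℕ) :
    (fun i => ((u i : ℕ) : ZMod N)) = vecOf N [u 0, u 1, u 2, u 3, u 4, u 5, u 6, u 7] := by
  funext i
  fin_cases i <;> rfl

/-- the final test is passed -/
theorem fin_of {Y U : List ℕ} {B : List (ℕ × List ℕ)} (hB : chkB 7 13 3 8 R8 Y B = true)
    (hYl : Y.length = U.length) {v : Fin 8 → ZMod (7 * 13)} (hq : Inv3 v) (hY : (fun i => p₁ (v i)) = vecOf 7 Y)
    (hU : (fun i => p₂ (v i)) = vecOf 13 U) (h13 : (fun i => p₂ (v i)) ≠ 0) (h : fin Y B U = true) :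
    certOK (crt 78 14 91 Y U) = true := by
  unfold fin at h
  have h1 : B.all (fun cb => Nat.beq (dotN cb.2 U % 13) 0) = true := by
    rw [List.all_eq_true]
    intro cb hcb
    rw [Nat.beq_eq]
    have hlen : cb.2.length ≤ 8 := by
      rw [chkB, List.all_eq_true] at hB
      have hB1 := hB cb hcb
      rw [Bool.and_eq_true, Bool.and_eq_true, decide_eq_true_iff, decide_eq_true_iff] at hB1
      exact hB1.1.2
    have h2 := lin_of (N₁ := 7) (N₂ := 13) (by norm_num) tab8 len8 hq (fun i => congrFun hY i) hB cb hcb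
    refine Nat.mod_eq_zero_of_dvd ((ZMod.natCast_eq_zero_iff _ _).1 ?_)
    rw [dotN_eq 8 _ _ hlen, ← h2]
    push_cast
    refine Finset.sum_congr rfl fun i _ => ?_
    (with_reducible congr 1)
    exact (congrFun hU i).symm
  rw [h1, cond_true, invB_crt hq hYl hY hU, cond_true] at h
  cases hz : isZ U with
  | true =>
    exfalso
    refine h13 ?_
    rw [hU]
    funext i
    unfold vecOf
    have h2 : U.getD (i : ℕ) 0 = 0 := by
      by_cases hi : (i : ℕ) < U.length
      · rw [List.getD_eq_getElem _ _ hi]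
        exact isZ_spec U hz _ (List.getElem_mem _)
      · rw [List.getD_eq_default _ _ (by omega)]
    rw [h2, Nat.cast_zero]
    rfl
  | false =>
    rw [hz, cond_false] at h
    exact h

theorem case38 {v : Fin 8 → ZMod (7 * 13)} (hq : Inv3 v) (hv : (fun i => p₁ (v i)) = vecOf 7 s38)
    (h13 : (fun i => p₂ (v i)) ≠ 0) :
    ∃ V : List ℕ, certOK V = true ∧ ms chevE8 8 (vecOf (7 * 13) V) = ms chevE8 8 v := by
  obtain ⟨u, hu13, ⟨v', e1, e2, e3, e4⟩, hmin⟩ := stageB s38 J38 RZ38 r38 (by decide +kernel) (by decide +kernel)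
    (by decide +kernel) (by decide +kernel) (by decide +kernel) (by decide +kernel) (by decide +kernel) hv h13
  have hq' : Inv3 v' := by
    unfold Inv3
    rw [e3]
    exact hq
  have c1 : 2 * ((0 : ℤ) * u 0 + 12 * u 1 + 6 * u 2 + 12 * u 3 + 6 * u 4 + 0 * u 5 + 0 * u 6 + 0 * u 7) ≤ 13 * 12 :=
    con (d := toF [0, 1, 0, 0, 0, 0, 0, 0]) (b := toF [0, 12, 6, 12, 6, 0, 0, 0]) (by decide +kernel) (by decide +kernel)
      (hmin _)
  have c2 : 2 * ((0 : ℤ) * u 0 + 6 * u 1 + 12 * u 2 + 12 * u 3 + 6 * u 4 + 0 * u 5 + 0 * u 6 + 0 * u 7) ≤ 13 * 12 :=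
    con (d := toF [0, 0, 1, 0, 0, 0, 0, 0]) (b := toF [0, 6, 12, 12, 6, 0, 0, 0]) (by decide +kernel) (by decide +kernel)
      (hmin _)
  have c3 : 2 * ((0 : ℤ) * u 0 + 6 * u 1 + 6 * u 2 + 12 * u 3 + 12 * u 4 + 0 * u 5 + 0 * u 6 + 0 * u 7) ≤ 13 * 12 :=
    con (d := toF [0, 0, 0, 0, 1, 0, 0, 0]) (b := toF [0, 6, 6, 12, 12, 0, 0, 0]) (by decide +kernel) (by decide +kernel)
      (hmin _)
  have c4 : 2 * ((0 : ℤ) * u 0 + 0 * u 1 + 0 * u 2 + 0 * u 3 + 0 * u 4 + 0 * u 5 + 4 * u 6 + 2 * u 7) ≤ 13 * 4 :=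
    con (d := toF [0, 0, 0, 0, 0, 0, 1, 0]) (b := toF [0, 0, 0, 0, 0, 0, 4, 2]) (by decide +kernel) (by decide +kernel)
      (hmin _)
  have c5 : 2 * ((0 : ℤ) * u 0 + 0 * u 1 + 0 * u 2 + 0 * u 3 + 0 * u 4 + 0 * u 5 + 2 * u 6 + 4 * u 7) ≤ 13 * 4 :=
    con (d := toF [0, 0, 0, 0, 0, 0, 0, 1]) (b := toF [0, 0, 0, 0, 0, 0, 2, 4]) (by decide +kernel) (by decide +kernel)
      (hmin _)
  have f0 : u 0 < 13 := hu13 0 (by decide)
  have f5 : u 5 < 13 := hu13 5 (by decide)
  rw [vecOf_list u] at e2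
  have hJ := invJ_of hq' e1 e2
  rw [filter38, split38, split38] at hJ
  have h1 := allAlc_spec [2, 1, 2, 1] 13 _ (by decide) chk38 [u 1, u 2, u 3, u 4] rfl (by simp only [dotN]; (clear * - c1; solve | lia | omega))
  have g1 : Nat.ble (dotN [1, 2, 2, 1] [u 1, u 2, u 3, u 4]) 13 = true := by
    rw [Nat.ble_eq]; simp only [dotN]; (clear * - c2; solve | lia | omega)
  have g2 : Nat.ble (dotN [1, 1, 2, 2] [u 1, u 2, u 3, u 4]) 13 = true := by
    rw [Nat.ble_eq]; simp only [dotN]; (clear * - c3; solve | lia | omega)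
  rw [g1, g2, Bool.and_self, cond_true] at h1
  have h2 := allAlc_spec [2, 1] 13 _ (by decide) h1 [u 6, u 7] rfl (by simp only [dotN]; omega)
  have g3 : Nat.ble (dotN [1, 2] [u 6, u 7]) 13 = true := by
    rw [Nat.ble_eq]; simp only [dotN]; (clear * - c5; solve | lia | omega)
  have g4 : Nat.beq (sumH (hh 13) RD [u 1, u 2, u 3, u 4] + sumH (hh 13) RA [u 6, u 7])
      (sumH h3 RD [u 1, u 2, u 3, u 4] + sumH h3 RA [u 6, u 7]) = true := by
    rw [Nat.beq_eq]; exact hJ
  rw [g3, cond_true, g4, cond_true] at h2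
  have h4 := allLt_spec 13 2 _ h2 [u 0, u 5] rfl (by
    intro x hx
    simp only [List.mem_cons, List.not_mem_nil, or_false] at hx
    rcases hx with rfl | rfl
    · exact f0
    · exact f5)
  refine ⟨crt 78 14 91 s38 [u 0, u 1, u 2, u 3, u 4, u 5, u 6, u 7], ?_, ?_⟩
  · exact fin_of chkB38 rfl hq' e1 e2 e4 h4
  · rw [← e3, ← eq_crt (Y := s38) (U := [u 0, u 1, u 2, u 3, u 4, u 5, u 6, u 7]) rfl e1 e2]

theorem case80 {v : Fin 8 → ZMod (7 * 13)} (hq : Inv3 v) (hv : (fun i => p₁ (v i)) = vecOf 7 s80)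
    (h13 : (fun i => p₂ (v i)) ≠ 0) :
    ∃ V : List ℕ, certOK V = true ∧ ms chevE8 8 (vecOf (7 * 13) V) = ms chevE8 8 v := by
  obtain ⟨u, hu13, ⟨v', e1, e2, e3, e4⟩, hmin⟩ := stageB s80 J80 RZ80 r80 (by decide +kernel) (by decide +kernel)
    (by decide +kernel) (by decide +kernel) (by decide +kernel) (by decide +kernel) (by decide +kernel) hv h13
  have hq' : Inv3 v' := by
    unfold Inv3
    rw [e3]
    exact hq
  have c1 : 2 * ((24 : ℤ) * u 0 + 48 * u 1 + 48 * u 2 + 72 * u 3 + 48 * u 4 + 24 * u 5 + 0 * u 6 + 0 * u 7) ≤ 13 * 48 :=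
    con (d := toF [0, 1, 0, 0, 0, 0, 0, 0]) (b := toF [24, 48, 48, 72, 48, 24, 0, 0]) (by decide +kernel)
      (by decide +kernel) (hmin _)
  have c2 : 2 * ((32 : ℤ) * u 0 + 24 * u 1 + 40 * u 2 + 48 * u 3 + 32 * u 4 + 16 * u 5 + 0 * u 6 + 0 * u 7) ≤ 13 * 32 :=
    con (d := toF [1, 0, 0, 0, 0, 0, 0, 0]) (b := toF [32, 24, 40, 48, 32, 16, 0, 0]) (by decide +kernel)
      (by decide +kernel) (hmin _)
  have c3 : 2 * ((16 : ℤ) * u 0 + 24 * u 1 + 32 * u 2 + 48 * u 3 + 40 * u 4 + 32 * u 5 + 0 * u 6 + 0 * u 7) ≤ 13 * 32 :=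
    con (d := toF [0, 0, 0, 0, 0, 1, 0, 0]) (b := toF [16, 24, 32, 48, 40, 32, 0, 0]) (by decide +kernel)
      (by decide +kernel) (hmin _)
  have f6 : u 6 < 13 := hu13 6 (by decide)
  have f7 : u 7 < 13 := hu13 7 (by decide)
  rw [vecOf_list u] at e2
  have hJ := invJ_of hq' e1 e2
  rw [filter80, split80, split80] at hJ
  have h1 := allAlc_spec [1, 2, 2, 3, 2, 1] 13 _ (by decide) chk80 [u 0, u 1, u 2, u 3, u 4, u 5] rfl
    (by simp only [dotN]; omega)
  have g1 : Nat.ble (dotN [4, 3, 5, 6, 4, 2] [u 0, u 1, u 2, u 3, u 4, u 5]) 26 = true := by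
    rw [Nat.ble_eq]; simp only [dotN]; (clear * - c2; solve | lia | omega)
  have g2 : Nat.ble (dotN [2, 3, 4, 6, 5, 4] [u 0, u 1, u 2, u 3, u 4, u 5]) 26 = true := by
    rw [Nat.ble_eq]; simp only [dotN]; (clear * - c3; solve | lia | omega)
  have g4 : Nat.beq (sumH (hh 13) RE [u 0, u 1, u 2, u 3, u 4, u 5]) (sumH h3 RE [u 0, u 1, u 2, u 3, u 4, u 5]) =
      true := by
    rw [Nat.beq_eq]; exact hJ
  rw [g1, g2, Bool.and_self, cond_true, g4, cond_true] at h1
  have h4 := allLt_spec 13 2 _ h1 [u 6, u 7] rfl (by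
    intro x hx
    simp only [List.mem_cons, List.not_mem_nil, or_false] at hx
    rcases hx with rfl | rfl
    · exact f6
    · exact f7)
  refine ⟨crt 78 14 91 s80 [u 0, u 1, u 2, u 3, u 4, u 5, u 6, u 7], ?_, ?_⟩
  · exact fin_of chkB80 rfl hq' e1 e2 e4 h4
  · rw [← e3, ← eq_crt (Y := s80) (U := [u 0, u 1, u 2, u 3, u 4, u 5, u 6, u 7]) rfl e1 e2]

/-- **The classification.** -/
theorem class91 {v : Fin 8 → ZMod (7 * 13)} (hq : Inv3 v) (h7 : (fun i => p₁ (v i)) ≠ 0)
    (h13 : (fun i => p₂ (v i)) ≠ 0) :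
    ∃ V : List ℕ, certOK V = true ∧ ms chevE8 8 (vecOf (7 * 13) V) = ms chevE8 8 v := by
  let P : (Fin 8 → ZMod 7) → Prop := fun w => ∃ v' : Fin 8 → ZMod (7 * 13), (fun i => p₁ (v' i)) = w ∧
    ms chevE8 8 v' = ms chevE8 8 v ∧ w ≠ 0 ∧ (fun i => p₂ (v' i)) ≠ 0
  have hP0 : P (fun i => p₁ (v i)) := ⟨v, rfl, rfl, h7, h13⟩
  have hPs : ∀ w j, P w → P (srefl chevE8 8 j w) := by
    rintro w j ⟨v', hvw, hf, hw0, hv0⟩
    refine ⟨srefl chevE8 8 j v', ?_, ?_, ?_, ?_⟩
    · rw [← srefl_map, hvw]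
    · rw [ms_srefl e8T, hf]
    · intro h; exact hw0 (srefl_eq_zero e8T h)
    · intro h
      rw [← srefl_map] at h
      exact hv0 (srefl_eq_zero e8T h)
  obtain ⟨Y, hYl, hYθ, v', e1, e2, hY0, e4⟩ := alcove8 (N := 7) (by norm_num) P hPs hP0
  have hq' : Inv3 v' := by
    unfold Inv3
    rw [e2]
    exact hq
  have h2 := allAlc_spec th8 7 _ (by decide) check7 Y hYl hYθ
  have h4 : invB 7 3 R8 Y = true := by
    refine invB_of (by norm_num) tab8 len8 ?_
    have h5 : ms chevE8 8 (fun i => p₁ (v' i)) = (ms chevE8 8 (fun i => p₁ (v' i))).map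
        (fun a => ((3 : ℕ) : ZMod 7) * a) := inv_map p₁ hq'
    rw [e1] at h5
    exact h5
  rw [h4, cond_true] at h2
  simp only [Bool.or_eq_true, beq_iff_eq] at h2
  rcases h2 with (h2 | h2) | h2
  · subst h2
    obtain ⟨V, hV, hV'⟩ := case38 hq' e1 e4
    exact ⟨V, hV, by rw [hV', e2]⟩
  · subst h2
    obtain ⟨V, hV, hV'⟩ := case80 hq' e1 e4
    exact ⟨V, hV, by rw [hV', e2]⟩
  · refine absurd ?_ hY0
    subst h2
    funext i
    fin_cases i <;> rfl

end Cfsg.Agent.H943.E91
end

-- part: H943/L729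
section
/-!
# No subgroup `L2(729)` in `E8(3)` (helper943)
-/

set_option autoImplicit false

namespace Cfsg.Agent.H943.L729

open Matrix Cfsg.Agent.H943.SL2Rel Cfsg.Agent.H943.PSLHom Cfsg.Agent.H943.RepAdd
open Cfsg.Lie
open Cfsg.Agent.H943.TorDim Cfsg.Agent.H943.E8Tab Cfsg.Agent.H943.E91 Cfsg.Agent.H943.Cert
open Cfsg.Agent.H944.RootVals Cfsg.Agent.H944.Kac Cfsg.Agent.H944.Tab
open Cfsg.Agent.H943.L243 (card_idx)

theorem sum_count (n : ℕ) (f : ℕ → ℤ) (S : Multiset ℕ) (hS : ∀ a ∈ S, a < n) :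
    ∑ κ ∈ Finset.range n, f κ * (S.count κ : ℤ) = (S.map f).sum := by
  induction S using Multiset.induction_on with
  | empty => simp
  | cons a S ih =>
    rw [Multiset.map_cons, Multiset.sum_cons, ← ih (fun b hb => hS b (Multiset.mem_cons_of_mem hb))]
    have ha : a < n := hS a (Multiset.mem_cons_self a S)
    have h1 : ∀ κ, f κ * ((Multiset.count κ (a ::ₘ S) : ℕ) : ℤ) = f κ * (S.count κ : ℤ) + if κ = a then f κ else 0 := by
      intro κ
      rw [Multiset.count_cons]
      split_ifs <;> push_cast <;> ring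
    rw [Finset.sum_congr rfl fun κ _ => h1 κ, Finset.sum_add_distrib, Finset.sum_ite_eq',
      if_pos (Finset.mem_range.2 ha), add_comm]

theorem count_pow {k : Type*} [Field k] [DecidableEq k] {z : k} {n : ℕ} (hz : IsPrimitiveRoot z n) (S : Multiset ℕ)
    (hS : ∀ a ∈ S, a < n) {κ : ℕ} (hκ : κ < n) : (S.map fun a => z ^ a).count (z ^ κ) = S.count κ := by
  rw [Multiset.count_map, Multiset.count_eq_card_filter_eq]
  congr 1
  refine Multiset.filter_congr fun a ha => ?_
  constructor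
  · intro h
    exact hz.pow_inj hκ (hS a ha) h
  · rintro rfl
    rfl

theorem ms_mul {R : Type*} [CommRing R] (a : R) (v : Fin 8 → R) :
    ms chevE8 8 (fun i => a * v i) = (ms chevE8 8 v).map fun b => a * b := by
  rw [ms_eq, ms_eq, Multiset.map_map]
  refine Multiset.map_congr rfl fun s _ => ?_
  simp only [Function.comp_apply]
  unfold rv
  rw [Finset.mul_sum]
  exact Finset.sum_congr rfl fun i _ => by ring

/-- reduction modulo 91 -/
abbrev c91 : ZMod 364 →+* ZMod (7 * 13) := ZMod.castHom (by norm_num) (ZMod (7 * 13))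

/-- reduction modulo 2 -/
abbrev c2 : ZMod 364 →+* ZMod 2 := ZMod.castHom (by norm_num) (ZMod 2)

theorem card_ms {R : Type*} [CommRing R] (v : Fin 8 → R) : (ms chevE8 8 v).card = 240 := by
  rw [ms_eq, Multiset.card_map]
  show (Finset.univ : Finset (Fin chevE8.nroots)).card = 240
  rw [Finset.card_univ, Fintype.card_fin]
  rfl

theorem sum_fc (c : ℕ) (S : Multiset ℕ) : (S.map (fc c)).sum = (((S.map fun κ => tb (BY c) (κ % 91)).sum : ℕ) : ℤ) +
    (((S.map fun κ => tb (BG c) (κ % 4)).sum : ℕ) : ℤ) - CC c * S.card := by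
  induction S using Multiset.induction_on with
  | empty => simp
  | cons a S ih =>
    simp only [Multiset.map_cons, Multiset.sum_cons, Multiset.card_cons, ih]
    unfold fc fp
    push_cast
    ring

theorem two_val_91 (b : ZMod 364) : (2 * b.val) % 91 = (2 * c91 b).val := by
  have h2 : c91 b = ((b.val : ℕ) : ZMod (7 * 13)) := by
    conv_lhs => rw [← ZMod.natCast_zmod_val b]
    rw [map_natCast]
  have h1 : (2 * c91 b) = (((2 * b.val : ℕ)) : ZMod (7 * 13)) := by
    rw [h2, Nat.cast_mul, Nat.cast_ofNat]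
  rw [h1, ZMod.val_natCast]

theorem two_val_4 (b : ZMod 364) : (2 * b.val) % 4 = if c2 b = 0 then 0 else 2 := by
  have h1 : c2 b = ((b.val : ℕ) : ZMod 2) := by
    conv_lhs => rw [← ZMod.natCast_zmod_val b]
    rw [map_natCast]
  rw [h1]
  have h2 : ((b.val : ℕ) : ZMod 2) = 0 ↔ b.val % 2 = 0 := by
    rw [ZMod.natCast_eq_zero_iff, Nat.dvd_iff_mod_eq_zero]
  by_cases h : b.val % 2 = 0
  · rw [if_pos (h2.2 h)]
    omega
  · rw [if_neg (fun h' => h (h2.1 h'))]
    omega

theorem sum_ite {R : Type*} (S : Multiset R) (P : R → Prop) [DecidablePred P] (a b : ℕ) :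
    (S.map fun x => if P x then a else b).sum = a * (S.filter P).card + b * (S.card - (S.filter P).card) := by
  induction S using Multiset.induction_on with
  | empty => simp
  | cons x S ih =>
    have hle := Multiset.card_le_card (Multiset.filter_le P S)
    rw [Multiset.map_cons, Multiset.sum_cons, ih]
    by_cases h : P x
    · rw [if_pos h, Multiset.filter_cons_of_pos _ h, Multiset.card_cons, Multiset.card_cons]
      have : S.card + 1 - ((S.filter P).card + 1) = S.card - (S.filter P).card := by omega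
      rw [this]
      ring
    · rw [if_neg h, Multiset.filter_cons_of_neg _ h, Multiset.card_cons]
      have : S.card + 1 - (S.filter P).card = (S.card - (S.filter P).card) + 1 := by omega
      rw [this]
      ring

theorem hY_sum (c : ℕ) (V : List ℕ) :
    ((ms chevE8 8 (vecOf (7 * 13) V)).map fun a => tb (BY c) a.val).sum = sumH (hY c) R8 V := by
  rw [sum_vecOf, sumH_eq]
  refine congrArg List.sum (List.map_congr_left fun r _ => ?_)
  unfold hY
  have h1 : (((dotN r V : ℕ)) : ZMod (7 * 13)).val = dotN r V % 91 := ZMod.val_natCast _ _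
  have h2 : (-((dotN r V : ℕ) : ZMod (7 * 13))).val = (91 - dotN r V % 91) % 91 := by
    have h3 : (-((dotN r V : ℕ) : ZMod (7 * 13))) = (((91 - dotN r V % 91) : ℕ) : ZMod (7 * 13)) := by
      have hlt : dotN r V % 91 ≤ 91 := (Nat.mod_lt _ (by norm_num)).le
      rw [Nat.cast_sub hlt]
      have h4 : ((91 : ℕ) : ZMod (7 * 13)) = 0 := by decide
      have h5 : ((dotN r V % 91 : ℕ) : ZMod (7 * 13)) = ((dotN r V : ℕ) : ZMod (7 * 13)) := ZMod.natCast_mod _ (7 * 13)
      rw [h4, h5, zero_sub]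
    rw [h3]
    exact ZMod.val_natCast _ _
  rw [h1, h2]

/-- the value of the functional -/
theorem value (c : ℕ) {v : Fin 8 → ZMod 364} {V : List ℕ}
    (hV : ms chevE8 8 (vecOf (7 * 13) V) = ms chevE8 8 (fun i => 2 * c91 (v i))) {n : ℕ}
    (hn : (ms chevE8 8 (fun i => c2 (v i))).count 0 + 8 = n) :
    (((Multiset.replicate 8 0 + (ms chevE8 8 v).map (fun b : ZMod 364 => 2 * b.val)).map (fc c)).sum : ℤ) =
      ((cval c V + (tb (BG c) 0 * n + tb (BG c) 2 * (248 - n)) : ℕ) : ℤ) - ((248 * CC c : ℕ) : ℤ) := by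
  have hcard := card_ms v
  have e1 : ((Multiset.replicate 8 0 + (ms chevE8 8 v).map (fun b : ZMod 364 => 2 * b.val)).map fun κ => tb (BY c) (κ % 91)).sum =
      cval c V := by
    rw [Multiset.map_add, Multiset.sum_add, Multiset.map_replicate, Multiset.sum_replicate, Multiset.map_map]
    unfold cval
    rw [Nat.zero_mod, smul_eq_mul, ← hY_sum, hV, ms_mul (2 : ZMod (7 * 13)) (fun i => c91 (v i)), ms_map,
      Multiset.map_map, Multiset.map_map]
    refine congrArg (fun z => 8 * tb (BY c) 0 + Multiset.sum z) ?_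
    refine Multiset.map_congr rfl fun b _ => ?_
    simp only [Function.comp_apply]
    rw [two_val_91]
  have hcount : ((ms chevE8 8 v).filter fun b => c2 b = 0).card = (ms chevE8 8 (fun i => c2 (v i))).count 0 := by
    rw [ms_map, Multiset.count_map]
    exact congrArg Multiset.card (Multiset.filter_congr fun b _ => eq_comm)
  have hle : ((ms chevE8 8 v).filter fun b => c2 b = 0).card ≤ 240 := by
    rw [← hcard]
    exact Multiset.card_le_card (Multiset.filter_le _ _)
  have e2 : ((Multiset.replicate 8 0 + (ms chevE8 8 v).map (fun b : ZMod 364 => 2 * b.val)).map fun κ => tb (BG c) (κ % 4)).sum =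
      tb (BG c) 0 * n + tb (BG c) 2 * (248 - n) := by
    rw [Multiset.map_add, Multiset.sum_add, Multiset.map_replicate, Multiset.sum_replicate, Multiset.map_map,
      Nat.zero_mod, smul_eq_mul]
    have h1 : ((ms chevE8 8 v).map ((fun κ => tb (BG c) (κ % 4)) ∘ fun b : ZMod 364 => 2 * b.val)) =
        (ms chevE8 8 v).map fun b => if c2 b = 0 then tb (BG c) 0 else tb (BG c) 2 := by
      refine Multiset.map_congr rfl fun b _ => ?_
      simp only [Function.comp_apply]
      rw [two_val_4]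
      split_ifs <;> rfl
    rw [h1, sum_ite, hcard, hcount]
    have h2 : 248 - n = 240 - (ms chevE8 8 (fun i => c2 (v i))).count 0 := by omega
    rw [h2, ← hn]
    ring
  rw [sum_fc, e1, e2, Multiset.card_add, Multiset.card_replicate, Multiset.card_map, hcard]
  push_cast
  ring

/-- some functional is negative -/
theorem exists_neg {V : List ℕ} (hV : certOK V = true) {n : ℕ} (hn : n = 136 ∨ n = 120) :
    ∃ c < 4, cval c V + (tb (BG c) 0 * n + tb (BG c) 2 * (248 - n)) < 248 * CC c := by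
  rw [certOK, Bool.and_eq_true] at hV
  simp only [Bool.or_eq_true] at hV
  have key : ∀ c, negB c n V = true → cval c V + (tb (BG c) 0 * n + tb (BG c) 2 * (248 - n)) < 248 * CC c := by
    intro c h
    unfold negB at h
    rwa [Nat.blt_eq] at h
  rcases hn with rfl | rfl
  · rcases hV.1 with ((h | h) | h) | h
    exacts [⟨0, by norm_num, key 0 h⟩, ⟨1, by norm_num, key 1 h⟩, ⟨2, by norm_num, key 2 h⟩, ⟨3, by norm_num, key 3 h⟩]
  · rcases hV.2 with ((h | h) | h) | h
    exacts [⟨0, by norm_num, key 0 h⟩, ⟨1, by norm_num, key 1 h⟩, ⟨2, by norm_num, key 2 h⟩, ⟨3, by norm_num, key 3 h⟩]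

/-- **no `L2(729)` in `E8(3)`** -/
theorem no_L729 {F : Type*} [Field F] [Fintype F] (hF : Fintype.card F = 729)
    (H : Subgroup ↥(chevE8.group (ZMod 3))) : IsEmpty (↥H ≃* ProjectiveSpecialLinearGroup (Fin 2) F) := by
  classical
  refine ⟨fun e => ?_⟩
  have : Fact (Nat.Prime 3) := ⟨Nat.prime_three⟩
  have hchF : CharP F 3 := by
    obtain ⟨⟨m, hm⟩, hp', hcard⟩ := FiniteField.card F (ringChar F)
    rw [hF] at hcard
    have h1 : ringChar F ∣ 3 ^ 6 := by
      rw [show (3 : ℕ) ^ 6 = 729 by norm_num, hcard]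
      exact dvd_pow_self _ (by simpa using hm.ne')
    have h2 := (Nat.prime_dvd_prime_iff_eq hp' Nat.prime_three).1 (hp'.dvd_of_dvd_pow h1)
    exact h2 ▸ ringChar.charP F
  have hchk : CharP (AlgebraicClosure (ZMod 3)) 3 :=
    charP_of_injective_algebraMap (algebraMap (ZMod 3) (AlgebraicClosure (ZMod 3))).injective 3
  let _ : Algebra (ZMod 3) F := ZMod.algebra F 3
  have hfin : Module.Finite (ZMod 3) F := inferInstance
  have halg : Algebra.IsAlgebraic (ZMod 3) F := Algebra.IsAlgebraic.of_finite (ZMod 3) F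
  let ι : F →+* AlgebraicClosure (ZMod 3) := (IsAlgClosed.lift (R := ZMod 3) (S := F)
    (M := AlgebraicClosure (ZMod 3)) : F →ₐ[ZMod 3] AlgebraicClosure (ZMod 3)).toRingHom
  have hι : Function.Injective ι := ι.injective
  have hodd : Odd (Fintype.card F) := by rw [hF]; decide
  obtain ⟨lam, hlam⟩ := IsCyclic.exists_generator (α := Fˣ)
  have hprim := Cfsg.Agent.H943.SL2Mod.primitive ι hι hlam
  rw [hF] at hprim
  have hordlam : orderOf lam = 728 := by
    rw [orderOf_eq_card_of_forall_mem_zpowers hlam, Nat.card_eq_fintype_card, Fintype.card_units, hF]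
  obtain ⟨φ, hφ⟩ := exists_hom H e
  have hcen : ∀ d : ℕ, φ (h lam) ^ d = 1 ↔ 364 ∣ d := by
    intro d
    rw [← map_pow, ← h_pow, hφ, h_mem_center, ← pow_mul, ← orderOf_dvd_iff_pow_eq_one, hordlam]
    constructor
    · rintro ⟨m, hm⟩
      exact ⟨m, by omega⟩
    · rintro ⟨m, hm⟩
      exact ⟨m, by omega⟩
  have hx : φ (h lam) ^ 364 = 1 := (hcen _).2 dvd_rfl
  have hζ : IsPrimitiveRoot (ι lam ^ 2) 364 := hprim.pow (by norm_num) (by norm_num)
  obtain ⟨v, hv, hdim⟩ := exists_vals_dim e8T 3 (F := ZMod 3) (x := φ (h lam)) (N := 364) (by norm_num) (by norm_num)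
    hx hζ
  -- the components are nontrivial
  have hne : ∀ (m d : ℕ), m * d = 364 → ¬ 364 ∣ d → ¬ ∀ i, m ∣ (v i).val := by
    intro m d hmd hd hcon
    refine hd ((hcen d).1 ((hv.ord d).1 fun i => ?_))
    obtain ⟨t, ht⟩ := hcon i
    rw [← ZMod.natCast_zmod_val (v i), ht, ← Nat.cast_mul, ZMod.natCast_eq_zero_iff]
    exact ⟨t, by rw [← hmd]; ring⟩
  have hval : ∀ (m : ℕ) (hm : m ∣ 364) (b : ZMod 364), ZMod.castHom hm (ZMod m) b = 0 ↔ m ∣ b.val := by
    intro m hm b
    rw [← ZMod.natCast_eq_zero_iff]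
    have : ZMod.castHom hm (ZMod m) b = ((b.val : ℕ) : ZMod m) := by
      conv_lhs => rw [← ZMod.natCast_zmod_val b]
      rw [map_natCast]
    rw [this]
  have h2 : (fun i => c2 (v i)) ≠ 0 := by
    intro h0
    exact hne 2 182 (by norm_num) (by norm_num) fun i => (hval 2 (by norm_num) (v i)).1 (congrFun h0 i)
  let w : Fin 8 → ZMod (7 * 13) := fun i => 2 * c91 (v i)
  have hp1 : ∀ b : ZMod 364, p₁ (2 * c91 b) = 0 → 7 ∣ b.val := by
    intro b hb
    have e1 : c91 b = ((b.val : ℕ) : ZMod (7 * 13)) := by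
      conv_lhs => rw [← ZMod.natCast_zmod_val b]
      rw [map_natCast]
    rw [e1, show (2 : ZMod (7 * 13)) = ((2 : ℕ) : ZMod (7 * 13)) from rfl, ← Nat.cast_mul, map_natCast,
      ZMod.natCast_eq_zero_iff] at hb
    omega
  have hp2 : ∀ b : ZMod 364, p₂ (2 * c91 b) = 0 → 13 ∣ b.val := by
    intro b hb
    have e1 : c91 b = ((b.val : ℕ) : ZMod (7 * 13)) := by
      conv_lhs => rw [← ZMod.natCast_zmod_val b]
      rw [map_natCast]
    rw [e1, show (2 : ZMod (7 * 13)) = ((2 : ℕ) : ZMod (7 * 13)) from rfl, ← Nat.cast_mul, map_natCast,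
      ZMod.natCast_eq_zero_iff] at hb
    (clear * - hb; solve | lia | omega)
  have h7 : (fun i => p₁ (w i)) ≠ 0 := by
    intro h0
    exact hne 7 52 (by norm_num) (by norm_num) fun i => hp1 _ (congrFun h0 i)
  have h13 : (fun i => p₂ (w i)) ≠ 0 := by
    intro h0
    exact hne 13 28 (by norm_num) (by norm_num) fun i => hp2 _ (congrFun h0 i)
  have hinv : Inv3 w := by
    have e1 := hv.frob
    rw [Nat.card_zmod] at e1
    have e2 := inv_map c91 e1
    unfold Inv3
    show ms chevE8 8 (fun i => 2 * c91 (v i)) = _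
    rw [ms_mul (2 : ZMod (7 * 13)) (fun i => c91 (v i))]
    conv_lhs => rw [e2]
    rw [Multiset.map_map, Multiset.map_map]
    refine Multiset.map_congr rfl fun b _ => ?_
    simp only [Function.comp_apply]
    ring
  obtain ⟨V, hV, hVms⟩ := class91 hinv h7 h13
  obtain ⟨n, hn, hn'⟩ : ∃ n, (ms chevE8 8 (fun i => c2 (v i))).count 0 + 8 = n ∧ (n = 136 ∨ n = 120) := by
    rcases count_two h2 with h | h
    · exact ⟨136, by rw [h], Or.inl rfl⟩
    · exact ⟨120, by rw [h], Or.inr rfl⟩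
  obtain ⟨c, hc4, hc⟩ := exists_neg hV hn'
  -- the functional
  let ρ := rep (algebraMap (ZMod 3) (AlgebraicClosure (ZMod 3))) φ
  have hh1 : φ (h (-1)) = 1 := (hφ _).2 (h_mem_center.2 (by rw [neg_one_sq]))
  have hfin := Cfsg.Agent.H943.SL2Mod.fun_nonneg ι 3 (by norm_num) hι hodd hlam (fc c) 248
    (fun b hb he hd => by
      rw [hF] at hb ⊢
      exact fc_nonneg hc4 hb he hd) 248 (chevE8.Idx → AlgebraicClosure (ZMod 3)) ρ (rep_eq_one _ _ hh1)
    (by rw [Module.finrank_fintype_fun_eq_card, card_idx]) le_rfl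
  unfold Cfsg.Agent.H943.SL2Mod.Phi at hfin
  rw [hF] at hfin
  let S : Multiset ℕ := Multiset.replicate 8 0 + (ms chevE8 8 v).map (fun b : ZMod 364 => 2 * b.val)
  have hS : ∀ a ∈ S, a < 728 := by
    intro a ha
    rcases Multiset.mem_add.1 ha with ha | ha
    · rw [Multiset.eq_of_mem_replicate ha]
      norm_num
    · obtain ⟨b, -, rfl⟩ := Multiset.mem_map.1 ha
      have := ZMod.val_lt b
      omega
  have hE : S.map (fun a => ι lam ^ a) = Multiset.replicate chevE8.rank (1 : AlgebraicClosure (ZMod 3)) +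
      (ms chevE8 8 v).map (fun b => (ι lam ^ 2) ^ b.val) := by
    show Multiset.map _ (Multiset.replicate 8 0 + (ms chevE8 8 v).map (fun b : ZMod 364 => 2 * b.val)) = _
    rw [Multiset.map_add, Multiset.map_replicate, pow_zero, Multiset.map_map]
    refine congrArg₂ (· + ·) rfl (Multiset.map_congr rfl fun b _ => ?_)
    simp only [Function.comp_apply]
    rw [pow_mul]
  have hsum : ∑ κ ∈ Finset.range (729 - 1), fc c κ * (Module.finrank (AlgebraicClosure (ZMod 3))
      (eig ρ (h lam) (ι lam ^ κ)) : ℤ) = (S.map (fc c)).sum := by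
    rw [← sum_count 728 (fc c) S hS]
    refine Finset.sum_congr rfl fun κ hκ => ?_
    have h5 := hdim (ι lam ^ κ)
    rw [← hE, count_pow hprim S hS (Finset.mem_range.1 hκ)] at h5
    rw [← h5]
    rfl
  rw [hsum, value c hVms hn] at hfin
  have h6 : ((cval c V + (tb (BG c) 0 * n + tb (BG c) 2 * (248 - n)) : ℕ) : ℤ) < ((248 * CC c : ℕ) : ℤ) := by
    exact_mod_cast hc
  linarith only [hfin, h6]

end Cfsg.Agent.H943.L729
end

private theorem dce_fe85bf6e2e13 : _root_.True := by
  try have : _root_.True := by simp only [_root_.Cfsg.Agent.H943.E91.RJ80.eq_1]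
  try have : _root_.True := by simp only [_root_.Cfsg.Agent.H943.E91.certOK.eq_1]
  try have : _root_.True := by simp only [_root_.Cfsg.Agent.H943.E91.RE.eq_1]
  try have : _root_.True := by simp only [_root_.Cfsg.Agent.H943.E91.RA.eq_1]
  try have : _root_.True := by simp only [_root_.Cfsg.Agent.H943.E91.RD.eq_1]
  try have : _root_.True := by simp only [_root_.Cfsg.Agent.H943.E91.RJ38.eq_1]
  exact _root_.True.intro
end
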