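import Cfsg.Agent.H540.E8C.Centre
import Cfsg.Agent.H597.E8Form
import Cfsg.Agent.H179.SLC.Coc_m3
import Cfsg.Agent.H943.PSLHom
import Cfsg.Agent.BpExc.AsmN_m3
import Cfsg.Agent.H942.CB.E8Tor
import Cfsg.Agent.H942.CB.Cell
import Cfsg.Agent.H942.E8Val
import Cfsg.Agent.H378.SmallTor_m3
import Cfsg.Agent.S1093
import Cfsg.Agent.H943.L729
import Cfsg.Agent.Lib.FinFast
import Mathlib
import Cfsg.Agent.H288.E8L.Brk
import Cfsg.Agent.KFacts.RgdBorelTits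
import Cfsg.Agent.KFacts.RgdFiltChev
import Cfsg.Agent.H857.E8L.Rep_mg_m3
import Cfsg.Agent.ChevFast.E8
import Cfsg.Agent.FastGrp
import Cfsg.Agent.Prune
set_option linter.all false

section
prune_inst 0x7ff0fdf8cbbcaddfffff7e7ffedadffc39b1dfffa6dff9437fe861ff0bdf038889e56b8d0de010fe1ed6e03610b87803fb7eeeffe86bdc7ffffd5ff41ffbee5ff5f7350851948c340fb80ff703f0778e7f3fffffffffffffffffffffffffffbeffbfffffffff

-- part: H525/E8L/Iface
section
prune_inst 0xf0003344040000000000000040003c60a2000490000b880049600a400f80244189000e20b0300202012080a4503c004811000029421000000a000400411800a088824200b2080000660009000080000000000000000000000000000000000000000000000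
set_option linter.all false
open scoped Cfsg.Agent.FastGrp

/-!
# `L₂(81)` in `E₈(3)` (S5921): the interface

`SL2 F` with `card F = 81`, `φ : SL2 F →* E₈(3)` with kernel the centre, `y = φ (h λ)` of order 40, `λ` a generator of
`Fˣ`, `ι : F → KK` an embedding in the algebraic closure, `ζ = ι λ ^ 2` of order 40.
-/

set_option autoImplicit false

namespace Cfsg.Agent.H525.E8L

open Matrix
open Cfsg Cfsg.Lie Cfsg.Lie.ChevalleyDatum
open Cfsg.Agent.ChevalleyStructure Cfsg.Agent.ChevalleyStructure.Elts Cfsg.Agent.ChevalleyStructure.CoxeterGeom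
  Cfsg.Agent.ChevalleyStructure.CoxeterGeomTypes Cfsg.Agent.ChevalleyStructure.NPerm
  Cfsg.Agent.ChevalleyStructure.RootVec Cfsg.Agent.ChevalleyStructure.RootVecTab
open Cfsg.Agent.Tits.Roots Cfsg.Agent.Nodes Cfsg.Agent.Nodes.Reps Cfsg.Agent.Nodes.BNOf
  Cfsg.Agent.Nodes.RGDChev
open Cfsg.Agent.KFacts.RgdChevCoord Cfsg.Agent.GpExc.Field Cfsg.Agent.BpExc.TowChev Cfsg.Agent.H129.TorusChar
open Cfsg.Agent.H942.E8Tab Cfsg.Agent.H942.E8Alc
open Cfsg.Agent.H943.SL2Rel (h u w)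

/-- `E₈(3)` -/
abbrev G8 : Type := ↥(chevE8.group (ZMod 3))

/-- the algebraic closure of the field with three elements -/
abbrev KK : Type := AlgebraicClosure (ZMod 3)

/-- `E₈` over the algebraic closure -/
abbrev GK : Type := ↥(chevE8.group KK)

/-- the embedding of `E₈(3)` in `E₈(K)` -/
noncomputable abbrev eK : G8 → GK := fun x => emb e8T.inList (algebraMap (ZMod 3) KK) x

/-- the torus data of an element of `E₈(3)` relative to a given `ζ` -/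
def TorZ (ζ : KK) (x : G8) (N : ℕ) (v : Fin 8 → ZMod N) : Prop :=
  ∃ z t : GK, z⁻¹ * eK x * z = t ∧ t ∈ TT chevE8 KK ∧ ∀ i, cX e8T t (sr i) = ζ ^ (v i).val

/-- the action of `E₈(3)` on its natural module -/
def act (g : G8) (v : chevE8.Idx → ZMod 3) : chevE8.Idx → ZMod 3 :=
  ((g : GL chevE8.Idx (ZMod 3)) : Matrix chevE8.Idx chevE8.Idx (ZMod 3)) *ᵥ v

/-- the classes of the elements of order 40 -/
def Y1 : List ℕ := [3, 0, 0, 0, 0, 1, 1, 7]
def Y2 : List ℕ := [7, 0, 0, 0, 0, 1, 2, 6]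
def Y3 : List ℕ := [5, 0, 0, 1, 0, 2, 0, 1]
def Y4 : List ℕ := [3, 0, 0, 3, 1, 0, 1, 0]
def Y5 : List ℕ := [3, 1, 1, 1, 1, 1, 1, 1]
def Y7 : List ℕ := [1, 1, 1, 1, 1, 3, 1, 2]

section

variable {F : Type} [Field F]

/-- the natural module over the algebraic closure as a representation of `SL2 F` -/
noncomputable def rK (φ : SpecialLinearGroup (Fin 2) F →* G8) :
    Representation KK (SpecialLinearGroup (Fin 2) F) (chevE8.Idx → KK) :=
  Cfsg.Agent.H943.PSLHom.rep (algebraMap (ZMod 3) KK) φ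

/-- the group setting: `φ` maps `SL2 F` onto the generalised Fitting subgroup `S` of the maximal subgroup `H` -/
structure Setting [Fintype F] (H : Subgroup G8) (φ : SpecialLinearGroup (Fin 2) F →* G8) : Prop where
  card : Fintype.card F = 81
  coatom : IsCoatom H
  ker : ∀ g, φ g = 1 ↔ g ∈ Subgroup.center (SpecialLinearGroup (Fin 2) F)
  le : φ.range ≤ H
  norm : ∀ g ∈ H, ∀ s ∈ φ.range, g * s * g⁻¹ ∈ φ.range
  /-- `N_G(S) = H` -/
  nrm : ∀ g : G8, (∀ s ∈ φ.range, g * s * g⁻¹ ∈ φ.range) → g ∈ H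
  /-- `C_G(S) = 1` -/
  cent : ∀ g : G8, (∀ s ∈ φ.range, g * s = s * g) → g = 1
  /-- `H / S` is abelian of exponent dividing 4 -/
  comm : ∀ a ∈ H, ∀ b ∈ H, a * b * a⁻¹ * b⁻¹ ∈ φ.range
  four : ∀ a ∈ H, a ^ 4 ∈ φ.range
  /-- the centraliser of `y = φ (h λ)` in `H` is cyclic of order dividing 80 -/
  cyc : ∀ lam : Fˣ, (∀ x, x ∈ Subgroup.zpowers lam) →
    IsCyclic ↥(H ⊓ Subgroup.centralizer {φ (h lam)}) ∧ Nat.card ↥(H ⊓ Subgroup.centralizer {φ (h lam)}) ∣ 80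

end

/-! ### the statements -/

/-- GROUP (helper434): the setting exists. -/
def GroupStmt : Prop := ∀ (F : Type) [Field F] [Fintype F] (_ : Fintype.card F = 81) (H : Subgroup G8)
  (_ : Nonempty (↥(Cfsg.generalizedFittingSubgroup ↥H) ≃* ProjectiveSpecialLinearGroup (Fin 2) F)) (_ : IsCoatom H),
  ∃ φ : SpecialLinearGroup (Fin 2) F →* G8, Setting H φ

/-- CENTRE (helper434): elements fixing a nonzero `H`-invariant space of `S`-fixed vectors are in `H`. -/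
def CentreStmt : Prop := ∀ (F : Type) [Field F] [Fintype F] (H : Subgroup G8)
  (φ : SpecialLinearGroup (Fin 2) F →* G8) (_ : Setting H φ) (A : Submodule (ZMod 3) (chevE8.Idx → ZMod 3))
  (_ : A ≠ ⊥) (_ : ∀ g ∈ H, ∀ a ∈ A, act g a ∈ A) (_ : ∀ s ∈ φ.range, ∀ a ∈ A, act s a = a) (g : G8)
  (_ : ∀ a ∈ A, act g a = a), g ∈ H

/-- CLASS (helper943): the classes of the elements of order 40. -/
def ClassStmt : Prop := ∀ (F : Type) [Field F] [Fintype F] (_ : Fintype.card F = 81) (ι : F →+* KK)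
  (φ : SpecialLinearGroup (Fin 2) F →* G8)
  (_ : ∀ g, φ g = 1 ↔ g ∈ Subgroup.center (SpecialLinearGroup (Fin 2) F))
  (lam : Fˣ) (_ : ∀ x, x ∈ Subgroup.zpowers lam),
  ∃ Y ∈ [Y1, Y2, Y3, Y4, Y5, Y7], TorZ (ι lam ^ 2) (φ (h lam)) 40 (vecL 40 Y)

/-- FIX (helper525): in the first four classes `S` has a fixed vector. -/
def FixStmt : Prop := ∀ (F : Type) [Field F] [Fintype F] (_ : Fintype.card F = 81) (ι : F →+* KK)
  (φ : SpecialLinearGroup (Fin 2) F →* G8)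
  (_ : ∀ g, φ g = 1 ↔ g ∈ Subgroup.center (SpecialLinearGroup (Fin 2) F))
  (lam : Fˣ) (_ : ∀ x, x ∈ Subgroup.zpowers lam) (Y : List ℕ) (_ : Y ∈ [Y1, Y2, Y3, Y4])
  (_ : TorZ (ι lam ^ 2) (φ (h lam)) 40 (vecL 40 Y)),
  ∃ a : chevE8.Idx → ZMod 3, a ≠ 0 ∧ ∀ s ∈ φ.range, act s a = a

/-- TORUS (helper237): involutions in the centre of the centraliser of `y`. -/
def TorusStmt : Prop := ∀ (ζ : KK) (_ : IsPrimitiveRoot ζ 40) (x : G8) (_ : x ^ 40 = 1) (Y : List ℕ)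
  (_ : Y ∈ [Y1, Y2, Y4]) (_ : TorZ ζ x 40 (vecL 40 Y)),
  ∃ g : G8, g ≠ 1 ∧ g * g = 1 ∧ g ≠ x ^ 20 ∧ g * x = x * g ∧ ∀ v, act x v = v → act g v = v

/-- P3 (helper280, helper948) -/
def P3Stmt : Prop := ∀ (F : Type) [Field F] [Fintype F] (ι : F →+* KK) (H : Subgroup G8)
  (φ : SpecialLinearGroup (Fin 2) F →* G8) (_ : Setting H φ) (lam : Fˣ) (_ : ∀ x, x ∈ Subgroup.zpowers lam)
  (_ : TorZ (ι lam ^ 2) (φ (h lam)) 40 (vecL 40 Y3))
  (_ : ∃ a : chevE8.Idx → ZMod 3, a ≠ 0 ∧ ∀ s ∈ φ.range, act s a = a), False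

/-- P57 (helper288): the regular classes -/
def P57Stmt : Prop := ∀ (F : Type) [Field F] [Fintype F] (_ : Fintype.card F = 81) (ι : F →+* KK)
  (φ : SpecialLinearGroup (Fin 2) F →* G8)
  (_ : ∀ g, φ g = 1 ↔ g ∈ Subgroup.center (SpecialLinearGroup (Fin 2) F))
  (lam : Fˣ) (_ : ∀ x, x ∈ Subgroup.zpowers lam) (Y : List ℕ) (_ : Y ∈ [Y5, Y7])
  (_ : TorZ (ι lam ^ 2) (φ (h lam)) 40 (vecL 40 Y)),
  ∃ g : G8, g ≠ 1 ∧ ∀ s ∈ φ.range, g * s = s * g

/-! ### the assembly -/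

theorem act_mul (g g' : G8) (v : chevE8.Idx → ZMod 3) : act (g * g') v = act g (act g' v) := by
  unfold act
  rw [Subgroup.coe_mul, Units.val_mul, Matrix.mulVec_mulVec]

theorem act_one (v : chevE8.Idx → ZMod 3) : act 1 v = v := by
  unfold act
  rw [Subgroup.coe_one, Units.val_one, Matrix.one_mulVec]

theorem act_add (g : G8) (v v' : chevE8.Idx → ZMod 3) : act g (v + v') = act g v + act g v' := Matrix.mulVec_add _ _ _

theorem act_smul (g : G8) (c : ZMod 3) (v : chevE8.Idx → ZMod 3) : act g (c • v) = c • act g v :=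
  Matrix.mulVec_smul _ _ _

/-- the vectors fixed by a subgroup -/
def fixA (S : Subgroup G8) : Submodule (ZMod 3) (chevE8.Idx → ZMod 3) where
  carrier := {a | ∀ s ∈ S, act s a = a}
  zero_mem' := fun s _ => Matrix.mulVec_zero _
  add_mem' := fun {x y} hx hy s hs => by rw [act_add, hx s hs, hy s hs]
  smul_mem' := fun c x hx s hs => by rw [act_smul, hx s hs]

theorem fixA_inv {S H : Subgroup G8} (hn : ∀ g ∈ H, ∀ s ∈ S, g * s * g⁻¹ ∈ S) :
    ∀ g ∈ H, ∀ a ∈ fixA S, act g a ∈ fixA S := by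
  intro g hg a ha s hs
  have h1 : g⁻¹ * s * g ∈ S := by
    have := hn g⁻¹ (H.inv_mem hg) s hs
    rwa [inv_inv] at this
  have h2 : s * g = g * (g⁻¹ * s * g) := by group
  rw [← act_mul, h2, act_mul, ha _ h1]

section Gen

variable {F : Type} [Field F] [Fintype F]

theorem orderOf_gen (hcard : Fintype.card F = 81) {lam : Fˣ} (hlam : ∀ x, x ∈ Subgroup.zpowers lam) :
    orderOf lam = 80 := by
  classical
  rw [orderOf_eq_card_of_forall_mem_zpowers hlam, Nat.card_eq_fintype_card, Fintype.card_units, hcard]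

theorem prim40 (hcard : Fintype.card F = 81) (ι : F →+* KK) {lam : Fˣ} (hlam : ∀ x, x ∈ Subgroup.zpowers lam) :
    IsPrimitiveRoot (ι lam ^ 2) 40 := by
  have h1 : IsPrimitiveRoot lam 80 := orderOf_gen hcard hlam ▸ IsPrimitiveRoot.orderOf lam
  have h2 : IsPrimitiveRoot (lam : F) 80 := IsPrimitiveRoot.coe_units_iff.2 h1
  exact (h2.map_of_injective ι.injective).pow (by norm_num) (by norm_num)

theorem pow_twenty {G : Type*} [Group G] {y : G} (hy : y ^ 40 = 1) : y ^ 20 * y ^ 20 = 1 := by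
  rw [← pow_add]; exact hy

theorem pow_comm' {G : Type*} [Group G] (y : G) (n : ℕ) : y ^ n * y = y * y ^ n := by
  rw [← pow_succ, ← pow_succ']

theorem y_pow (φ : SpecialLinearGroup (Fin 2) F →* G8)
    (hk : ∀ g, φ g = 1 ↔ g ∈ Subgroup.center (SpecialLinearGroup (Fin 2) F)) (hcard : Fintype.card F = 81)
    {lam : Fˣ} (hlam : ∀ x, x ∈ Subgroup.zpowers lam) : φ (h lam) ^ 40 = 1 ∧ φ (h lam) ^ 20 ≠ 1 := by
  have ho := orderOf_gen hcard hlam
  constructor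
  · rw [← map_pow, ← Cfsg.Agent.H943.SL2Rel.h_pow, hk, Cfsg.Agent.H943.PSLHom.h_mem_center, ← pow_mul]
    have := pow_orderOf_eq_one lam
    rwa [ho] at this
  · intro h0
    rw [← map_pow, ← Cfsg.Agent.H943.SL2Rel.h_pow, hk, Cfsg.Agent.H943.PSLHom.h_mem_center, ← pow_mul] at h0
    have h1 := orderOf_dvd_of_pow_eq_one h0
    rw [ho] at h1
    omega

end Gen

/-- a cyclic group has at most one involution -/
theorem invol_unique {G : Type*} [Group G] [Finite G] [IsCyclic G] {a b : G} (ha : a * a = 1) (hb : b * b = 1)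
    (ha1 : a ≠ 1) (hb1 : b ≠ 1) : a = b := by
  classical
  have := Fintype.ofFinite G
  by_contra hab
  have h1 := IsCyclic.card_pow_eq_one_le (α := G) (n := 2) (by norm_num)
  have h2 : ({1, a, b} : Finset G) ⊆ Finset.univ.filter fun x : G => x ^ 2 = 1 := by
    intro x hx
    simp only [Finset.mem_insert, Finset.mem_singleton] at hx
    rw [Finset.mem_filter]
    refine ⟨Finset.mem_univ _, ?_⟩
    rcases hx with rfl | rfl | rfl
    · exact one_pow _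
    · rw [pow_two, ha]
    · rw [pow_two, hb]
  have h3 := (Finset.card_le_card h2).trans h1
  rw [Finset.card_insert_of_notMem (by
      simp only [Finset.mem_insert, Finset.mem_singleton, not_or]
      exact ⟨ha1.symm, hb1.symm⟩), Finset.card_insert_of_notMem (by
      simp only [Finset.mem_singleton]
      exact hab), Finset.card_singleton] at h3
  omega

theorem invol_eq {G : Type*} [Group G] [Finite G] {H : Subgroup G} {y : G}
    (hc : IsCyclic ↥(H ⊓ Subgroup.centralizer {y})) {g z : G} (hg : g ∈ H) (hgy : g * y = y * g) (hz : z ∈ H)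
    (hzy : z * y = y * z) (hgg : g * g = 1) (hzz : z * z = 1) (hg1 : g ≠ 1) (hz1 : z ≠ 1) : g = z := by
  let g' : ↥(H ⊓ Subgroup.centralizer {y}) := ⟨g, hg, Subgroup.mem_centralizer_singleton_iff.2 hgy⟩
  let z' : ↥(H ⊓ Subgroup.centralizer {y}) := ⟨z, hz, Subgroup.mem_centralizer_singleton_iff.2 hzy⟩
  have e1 : g' = z' := invol_unique (Subtype.ext hgg) (Subtype.ext hzz)
    (fun h0 => hg1 (congrArg Subtype.val h0)) fun h0 => hz1 (congrArg Subtype.val h0)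
  exact congrArg Subtype.val e1

/-- **the assembly** -/
theorem no_L81_of (hG : GroupStmt) (hC : CentreStmt) (hK : ClassStmt) (hF : FixStmt) (hT : TorusStmt) (h3 : P3Stmt)
    (h57 : P57Stmt) (F : Type) [Field F] [Fintype F] (hcard : Fintype.card F = 81) (H : Subgroup G8)
    (hH : Nonempty (↥(Cfsg.generalizedFittingSubgroup ↥H) ≃* ProjectiveSpecialLinearGroup (Fin 2) F)) :
    ¬ IsCoatom H := by
  classical
  intro hmax
  obtain ⟨φ, st⟩ := hG F hcard H hH hmax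
  -- the embedding
  have h3' : Fact (Nat.Prime 3) := ⟨Nat.prime_three⟩
  have hchF : CharP F 3 := by
    obtain ⟨⟨m, hm⟩, hp', hc⟩ := FiniteField.card F (ringChar F)
    rw [hcard] at hc
    have h1 : ringChar F ∣ 3 ^ 4 := by
      rw [show (3 : ℕ) ^ 4 = 81 by norm_num, hc]
      exact dvd_pow_self _ (by simpa using hm.ne')
    have h2 := (Nat.prime_dvd_prime_iff_eq hp' Nat.prime_three).1 (hp'.dvd_of_dvd_pow h1)
    exact h2 ▸ ringChar.charP F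
  let _ : Algebra (ZMod 3) F := ZMod.algebra F 3
  have hint : Algebra.IsAlgebraic (ZMod 3) F := Algebra.IsAlgebraic.of_finite (ZMod 3) F
  let ι : F →+* KK := (IsAlgClosed.lift (R := ZMod 3) (S := F) (M := KK) : F →ₐ[ZMod 3] KK).toRingHom
  obtain ⟨lam, hlam⟩ := IsCyclic.exists_generator (α := Fˣ)
  obtain ⟨Y, hY, hTor⟩ := hK F hcard ι φ st.ker lam hlam
  set y := φ (h lam) with hy
  have hyS : y ∈ φ.range := ⟨_, rfl⟩
  obtain ⟨hy40, hy20⟩ := y_pow φ st.ker hcard hlam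
  -- the centre argument
  have key : Y ∈ [Y1, Y2, Y4] → False := by
    intro hY'
    have hY4 : Y ∈ [Y1, Y2, Y3, Y4] := by
      simp only [List.mem_cons, List.not_mem_nil, or_false] at hY' ⊢
      rcases hY' with h0 | h0 | h0
      · exact Or.inl h0
      · exact Or.inr (Or.inl h0)
      · exact Or.inr (Or.inr (Or.inr h0))
    obtain ⟨a, ha0, ha⟩ := hF F hcard ι φ st.ker lam hlam Y hY4 hTor
    obtain ⟨g, hg1, hgg, hgy, hgc, hgf⟩ := hT _ (prim40 hcard ι hlam) y hy40 Y hY' hTor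
    have hgH : g ∈ H := by
      refine hC F H φ st (fixA φ.range) ?_ (fixA_inv st.norm) (fun s hs a ha => ha s hs) g fun a ha => ?_
      · intro h0
        have h1 : a ∈ fixA φ.range := ha
        rw [h0] at h1
        exact ha0 ((Submodule.mem_bot _).1 h1)
      · exact hgf a (ha y hyS)
    obtain ⟨hcyc, -⟩ := st.cyc lam hlam
    have hyH : y ∈ H := st.le hyS
    have hy2 : y ^ 20 * y ^ 20 = 1 := pow_twenty hy40
    have hyc : y ^ 20 * y = y * y ^ 20 := pow_comm' y 20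
    have hzH : y ^ 20 ∈ H := H.pow_mem hyH 20
    generalize y ^ 20 = z at hy2 hyc hzH hy20 hgy
    have h80 := invol_eq hcyc hgH hgc hzH hyc hgg hy2 hg1 hy20
    exact hgy h80
  have key57 : Y ∈ [Y5, Y7] → False := by
    intro hY'
    obtain ⟨g, hg1, hg⟩ := h57 F hcard ι φ st.ker lam hlam Y hY' hTor
    exact hg1 (st.cent g hg)
  simp only [List.mem_cons, List.not_mem_nil, or_false] at hY key key57
  rcases hY with h0 | h0 | h0 | h0 | h0 | h0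
  · exact key (Or.inl h0)
  · exact key (Or.inr (Or.inl h0))
  · subst h0
    exact h3 F ι H φ st lam hlam hTor (hF F hcard ι φ st.ker lam hlam Y3 (by simp) hTor)
  · exact key (Or.inr (Or.inr h0))
  · exact key57 (Or.inl h0)
  · exact key57 (Or.inr h0)

end Cfsg.Agent.H525.E8L
end

-- part: H525/E8L/Dims_mg
section
set_option linter.all false
open scoped Cfsg.Agent.FastGrp

-- part: H525/E8L/Dims
section
/-!
# Multiplicities of the eigenvalues of an element with given torus data (helper525, S5921)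
-/

set_option autoImplicit false
set_option linter.unusedSectionVars false
set_option maxRecDepth 100000

namespace Cfsg.Agent.H525.E8L

open Matrix
open Cfsg Cfsg.Lie Cfsg.Lie.ChevalleyDatum
open Cfsg.Agent.ChevalleyStructure Cfsg.Agent.ChevalleyStructure.Elts Cfsg.Agent.ChevalleyStructure.CoxeterGeom
  Cfsg.Agent.ChevalleyStructure.CoxeterGeomTypes Cfsg.Agent.ChevalleyStructure.NPerm
  Cfsg.Agent.ChevalleyStructure.RootVec Cfsg.Agent.ChevalleyStructure.RootVecTab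
open Cfsg.Agent.Tits.Roots Cfsg.Agent.Nodes Cfsg.Agent.Nodes.Reps Cfsg.Agent.Nodes.BNOf
  Cfsg.Agent.Nodes.RGDChev
open Cfsg.Agent.KFacts.RgdChevCoord Cfsg.Agent.GpExc.Field Cfsg.Agent.BpExc.TowChev Cfsg.Agent.H129.TorusChar
open Cfsg.Agent.H942.E8Tab Cfsg.Agent.H942.E8Alc Cfsg.Agent.H944.Tab Cfsg.Agent.H944.RootVals
open Cfsg.Agent.H943.RepAdd

section

variable {ζ : KK} {N : ℕ} [NeZero N]

theorem zpow_val (hζ : IsPrimitiveRoot ζ N) (m : ℤ) : ζ ^ m = ζ ^ (m : ZMod N).val := by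
  have h0 : ζ ≠ 0 := hζ.ne_zero (NeZero.ne N)
  rw [← zpow_natCast, ZMod.val_intCast]
  have h1 : ζ ^ (N : ℤ) = 1 := by rw [zpow_natCast]; exact hζ.pow_eq_one
  conv_lhs => rw [← Int.emod_add_mul_ediv m N]
  rw [zpow_add₀ h0, _root_.zpow_mul, h1, _root_.one_zpow, mul_one]

theorem val_inj (hζ : IsPrimitiveRoot ζ N) {a b : ZMod N} : ζ ^ a.val = ζ ^ b.val ↔ a = b := by
  constructor
  · intro h
    exact ZMod.val_injective N (hζ.pow_inj (ZMod.val_lt a) (ZMod.val_lt b) h)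
  · rintro rfl
    rfl

/-- the values of the roots -/
theorem cX_vec_val (hζ : IsPrimitiveRoot ζ N) {t : GK} (ht : t ∈ TT chevE8 KK) {v : Fin 8 → ZMod N}
    (hv : ∀ i, cX e8T t (sr i) = ζ ^ (v i).val) (s : Fin chevE8.nroots) :
    cX e8T t (vec chevE8 8 s) = ζ ^ (∑ i, (vec chevE8 8 s i : ZMod N) * v i).val := by
  have h0 : ζ ≠ 0 := hζ.ne_zero (NeZero.ne N)
  have h1 := (isMC_cX e8T ht).eq_prod (vec chevE8 8 s)
  rw [h1]
  have h2 : ∏ i, cX e8T t (sr i) ^ (vec chevE8 8 s i) = ζ ^ (∑ i, vec chevE8 8 s i * ((v i).val : ℤ)) := by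
    have h3 : ∀ S : Finset (Fin 8), ∏ i ∈ S, cX e8T t (sr i) ^ (vec chevE8 8 s i) =
        ζ ^ (∑ i ∈ S, vec chevE8 8 s i * ((v i).val : ℤ)) := by
      intro S
      induction S using Finset.induction_on with
      | empty => simp
      | insert b S hb ih =>
        rw [Finset.prod_insert hb, Finset.sum_insert hb, zpow_add₀ h0, ih, hv b, mul_comm (vec chevE8 8 s b), _root_.zpow_mul,
          zpow_natCast]
    exact h3 _
  rw [h2, zpow_val hζ]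
  congr 2
  push_cast
  exact Finset.sum_congr rfl fun i _ => by rw [ZMod.natCast_zmod_val]

theorem univ_elim' {m : ℕ} {β K : Type*} [Fintype β] (c : K) (f : β → K) :
    (Finset.univ : Finset (Fin m ⊕ β)).val.map (Sum.elim (fun _ => c) f) =
      Multiset.replicate m c + (Finset.univ : Finset β).val.map f := by
  rw [← Finset.univ_disjSum_univ, Finset.val_disjSum, Multiset.disjSum, Multiset.map_add, Multiset.map_map,
    Multiset.map_map]
  congr 1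
  have : (Sum.elim (fun _ : Fin m => c) f ∘ Sum.inl) = fun _ => c := rfl
  rw [this, Multiset.map_const']
  congr 1
  exact Finset.card_fin m

/-- **the dimensions of the eigenspaces** -/
theorem TorZ.dims (hζ : IsPrimitiveRoot ζ N) {x : G8} {v : Fin 8 → ZMod N} (h : TorZ ζ x N v) (j : ZMod N) :
    Module.finrank KK (LinearMap.ker (Matrix.toLin' ((((x : G8) : GL chevE8.Idx (ZMod 3)) :
      Matrix chevE8.Idx chevE8.Idx (ZMod 3)).map (algebraMap (ZMod 3) KK)) -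
        (ζ ^ j.val) • (1 : Module.End KK (chevE8.Idx → KK)))) =
      (if j = 0 then 8 else 0) + (ms chevE8 8 v).count j := by
  classical
  obtain ⟨z, t, hzt, ht, hv⟩ := h
  have h1 : (((z⁻¹ : GK) : GL chevE8.Idx KK) : Matrix chevE8.Idx chevE8.Idx KK) *
      (((x : G8) : GL chevE8.Idx (ZMod 3)) : Matrix chevE8.Idx chevE8.Idx (ZMod 3)).map (algebraMap (ZMod 3) KK) *
      (((((z⁻¹ : GK) : GL chevE8.Idx KK))⁻¹ : GL chevE8.Idx KK) : Matrix chevE8.Idx chevE8.Idx KK) =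
      Matrix.diagonal (Sum.elim (fun _ => (1 : KK)) (fun s : Fin chevE8.nroots => cX e8T t (vec chevE8 8 s))) := by
    rw [← Cfsg.Agent.H942.CB.TT_diag' e8T ht, ← hzt, Subgroup.coe_mul, Subgroup.coe_mul, Units.val_mul, Units.val_mul,
      coe_emb, coe_glMap]
    congr 1
  rw [Cfsg.Agent.H943.TorDim.finrank_ker_conj_diag _ _ h1]
  have h2 : (Finset.univ.filter fun i : chevE8.Idx => Sum.elim (fun _ => (1 : KK))
      (fun s : Fin chevE8.nroots => cX e8T t (vec chevE8 8 s)) i = ζ ^ j.val) =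
      (Finset.univ.filter fun i : chevE8.Idx => Sum.elim (fun _ => (0 : ZMod N))
      (fun s : Fin chevE8.nroots => ∑ i, (vec chevE8 8 s i : ZMod N) * v i) i = j) := by
    refine Finset.filter_congr fun i _ => ?_
    rcases i with i | i
    · simp only [Sum.elim_inl]
      rw [← val_inj hζ (a := 0) (b := j), ZMod.val_zero, pow_zero]
    · simp only [Sum.elim_inr]
      rw [cX_vec_val hζ ht hv, val_inj hζ]
  rw [h2, Cfsg.Agent.H943.TorDim.card_filter_eq_count]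
  have h3 : (Finset.univ : Finset chevE8.Idx).val.map (Sum.elim (fun _ => (0 : ZMod N))
      (fun s : Fin chevE8.nroots => ∑ i, (vec chevE8 8 s i : ZMod N) * v i)) =
      Multiset.replicate 8 (0 : ZMod N) + ms chevE8 8 v := by
    exact univ_elim' (m := chevE8.rank) _ _
  rw [h3, Multiset.count_add, Multiset.count_replicate]
  congr 1
  by_cases hj : j = 0
  · rw [if_pos hj, if_pos hj.symm]
  · rw [if_neg hj, if_neg fun h => hj h.symm]

end

/-- the sum of a functional over the roots -/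
def rsum (f : ℕ → ℤ) (Y : List ℕ) : ℤ := (R8.map fun r => f (dotN r Y % 40) + f ((40 - dotN r Y % 40) % 40)).sum

theorem dotF_vecL {r Y : List ℕ} (hr : r.length ≤ 8) : dotF r (vecL 40 Y) = ((dotN r Y : ℕ) : ZMod 40) := by
  unfold dotF vecL
  rw [dotN_eq 8 r Y hr]
  push_cast
  rfl

/-- **the value of a functional** -/
theorem TorZ.sum {ζ : KK} (hζ : IsPrimitiveRoot ζ 40) {x : G8} {Y : List ℕ} (h : TorZ ζ x 40 (vecL 40 Y))
    (f : ℕ → ℤ) : ∑ j ∈ Finset.range 40, f j * (Module.finrank KK (LinearMap.ker (Matrix.toLin'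
      ((((x : G8) : GL chevE8.Idx (ZMod 3)) : Matrix chevE8.Idx chevE8.Idx (ZMod 3)).map (algebraMap (ZMod 3) KK)) -
        (ζ ^ j) • (1 : Module.End KK (chevE8.Idx → KK)))) : ℤ) = 8 * f 0 + rsum f Y := by
  classical
  have h1 : ∀ j ∈ Finset.range 40, f j * (Module.finrank KK (LinearMap.ker (Matrix.toLin'
      ((((x : G8) : GL chevE8.Idx (ZMod 3)) : Matrix chevE8.Idx chevE8.Idx (ZMod 3)).map (algebraMap (ZMod 3) KK)) -
        (ζ ^ j) • (1 : Module.End KK (chevE8.Idx → KK)))) : ℤ) =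
      f j * (if j = 0 then 8 else 0) + f j * ((ms chevE8 8 (vecL 40 Y)).count (j : ZMod 40) : ℤ) := by
    intro j hj
    have h2 := h.dims hζ (j : ZMod 40)
    have hlt := Finset.mem_range.1 hj
    rw [ZMod.val_natCast, Nat.mod_eq_of_lt hlt] at h2
    rw [h2]
    have h3 : ((j : ZMod 40) = 0) ↔ j = 0 := by
      rw [ZMod.natCast_eq_zero_iff]
      constructor
      · intro h4
        exact Nat.eq_zero_of_dvd_of_lt h4 hlt
      · rintro rfl
        exact dvd_zero _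
    simp only [h3]
    push_cast
    ring
  rw [Finset.sum_congr rfl h1, Finset.sum_add_distrib]
  congr 1
  · rw [Finset.sum_eq_single 0]
    · rw [if_pos rfl, mul_comm]
    · intro j _ hj
      rw [if_neg hj, mul_zero]
    · intro h4
      exact absurd (Finset.mem_range.2 (by norm_num)) h4
  · have h4 : ∑ j ∈ Finset.range 40, f j * ((ms chevE8 8 (vecL 40 Y)).count (j : ZMod 40) : ℤ) =
        ((ms chevE8 8 (vecL 40 Y)).map fun a : ZMod 40 => f a.val).sum := by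
      have h5 : ∀ m : Multiset (ZMod 40), ∑ j ∈ Finset.range 40, f j * (m.count (j : ZMod 40) : ℤ) =
          (m.map fun a : ZMod 40 => f a.val).sum := by
        intro m
        induction m using Multiset.induction_on with
        | empty => simp
        | cons a m ih =>
          rw [Multiset.map_cons, Multiset.sum_cons, ← ih]
          have h6 : ∀ j ∈ Finset.range 40, f j * ((a ::ₘ m).count (j : ZMod 40) : ℤ) =
              f j * (m.count (j : ZMod 40) : ℤ) + (if j = a.val then f j else 0) := by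
            intro j hj
            have hlt := Finset.mem_range.1 hj
            rw [Multiset.count_cons]
            have h7 : ((j : ZMod 40) = a) ↔ j = a.val := by
              constructor
              · rintro rfl
                rw [ZMod.val_natCast, Nat.mod_eq_of_lt hlt]
              · rintro rfl
                exact ZMod.natCast_zmod_val a
            simp only [h7]
            split_ifs <;> push_cast <;> ring
          rw [Finset.sum_congr rfl h6, Finset.sum_add_distrib, Finset.sum_ite_eq' (Finset.range 40) a.val f,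
            if_pos (Finset.mem_range.2 (ZMod.val_lt a)), add_comm]
      exact h5 _
    rw [h4, sum_ms tab8]
    unfold rsum
    congr 1
    refine List.map_congr_left fun r hr => ?_
    rw [dotF_vecL (len8 r hr), ZMod.val_natCast]
    congr 2

/-- the value of a functional on the representation -/
theorem fun_rK {F : Type} [Field F] [Fintype F] (hcard : Fintype.card F = 81) (ι : F →+* KK)
    (φ : SpecialLinearGroup (Fin 2) F →* G8) {lam : Fˣ} (hlam : ∀ x, x ∈ Subgroup.zpowers lam) {Y : List ℕ}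
    (h : TorZ (ι lam ^ 2) (φ (Cfsg.Agent.H943.SL2Rel.h lam)) 40 (vecL 40 Y)) (f : ℕ → ℤ) (hf : ∀ κ, κ % 2 = 1 → f κ = 0) :
    ∑ κ ∈ Finset.range 80, f κ * (Module.finrank KK (eig (rK φ) (Cfsg.Agent.H943.SL2Rel.h lam) (ι lam ^ κ)) : ℤ) =
      8 * f 0 + rsum (fun j => f (2 * j)) Y := by
  have h1 := TorZ.sum (prim40 hcard ι hlam) h (fun j => f (2 * j))
  rw [mul_zero] at h1
  rw [← h1]
  have h2 : ∀ n : ℕ, ∀ g : ℕ → ℤ, (∀ κ, κ % 2 = 1 → g κ = 0) →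
      ∑ κ ∈ Finset.range (2 * n), g κ = ∑ j ∈ Finset.range n, g (2 * j) := by
    intro n g hg
    induction n with
    | zero => rfl
    | succ n ih =>
      rw [show 2 * (n + 1) = 2 * n + 1 + 1 by ring, Finset.sum_range_succ, Finset.sum_range_succ, ih,
        Finset.sum_range_succ, hg (2 * n + 1) (by omega), add_zero]
  rw [show (80 : ℕ) = 2 * 40 by norm_num, h2 40 _ fun κ hκ => by rw [hf κ hκ, zero_mul]]
  refine Finset.sum_congr rfl fun j _ => ?_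
  rw [← pow_mul]
  rfl

end Cfsg.Agent.H525.E8L
end

-- part: H943/TorZ
section
/-!
# Torus data relative to a given root of unity (helper943, S5921)
-/

set_option autoImplicit false
set_option linter.unusedSectionVars false
set_option maxRecDepth 100000

namespace Cfsg.Agent.H943.TorZ

open Matrix
open Cfsg Cfsg.Lie Cfsg.Lie.ChevalleyDatum
open Cfsg.Agent.ChevalleyStructure Cfsg.Agent.ChevalleyStructure.Elts Cfsg.Agent.ChevalleyStructure.CoxeterGeom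
  Cfsg.Agent.ChevalleyStructure.CoxeterGeomTypes Cfsg.Agent.ChevalleyStructure.NPerm
  Cfsg.Agent.ChevalleyStructure.RootVec Cfsg.Agent.ChevalleyStructure.RootVecTab
open Cfsg.Agent.Tits.Roots Cfsg.Agent.Nodes Cfsg.Agent.Nodes.Reps Cfsg.Agent.Nodes.BNOf
  Cfsg.Agent.Nodes.RGDChev
open Cfsg.Agent.KFacts.RgdChevCoord Cfsg.Agent.GpExc.Field Cfsg.Agent.BpExc.TowChev Cfsg.Agent.H129.TorusChar
open Cfsg.Agent.H942.E8Tab Cfsg.Agent.H942.E8Alc Cfsg.Agent.H944.Tab Cfsg.Agent.H944.RootVals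
open Cfsg.Agent.H944.Kac
open Cfsg.Agent.H525.E8L (KK GK G8 TorZ)
open Cfsg.Agent.H942.CB (nsysT)

theorem exists_torZ {x : G8} {N : ℕ} (hN0 : N ≠ 0) (hN : N.Coprime 3) (hx : x ^ N = 1) {ζ : KK}
    (hζ : IsPrimitiveRoot ζ N) : ∃ v : Fin 8 → ZMod N, TorZ ζ x N v := by
  have : Fact (Nat.Prime 3) := ⟨Nat.prime_three⟩
  have : NeZero N := ⟨hN0⟩
  obtain ⟨v', ⟨z, t, ζ', hζ', hz, ht, hv⟩, -, -⟩ :=
    Cfsg.Agent.H942.CB.exists_valsTor e8T 3 (F := ZMod 3) hN0 hN hx KK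
  obtain ⟨a, -, ha⟩ := hζ.eq_pow_of_pow_eq_one hζ'.pow_eq_one
  refine ⟨fun i => ((a * (v' i).val : ℕ) : ZMod N), z, t, hz, ht, fun i => ?_⟩
  rw [hv i, ← ha, ← pow_mul, ZMod.val_natCast]
  exact (Cfsg.Agent.H942.CB.pow_mod_orderOf' hζ _).symm

theorem srefl_torZ {x : G8} {N : ℕ} [NeZero N] {ζ : KK} (hζ : IsPrimitiveRoot ζ N) {v : Fin 8 → ZMod N}
    (h : TorZ ζ x N v) (j : Fin 8) : TorZ ζ x N (srefl chevE8 8 j v) := by
  have h3 : Fact (Nat.Prime 3) := ⟨Nat.prime_three⟩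
  obtain ⟨z, t, hz, ht, hv⟩ := h
  have hkch : CharP KK 3 :=
    charP_of_injective_algebraMap (algebraMap (ZMod 3) KK).injective 3
  have hka : Algebra.IsAlgebraic (ZMod 3) KK := AlgebraicClosure.isAlgebraic _
  have hlf : LocFin KK := locFin_of_isAlgebraic 3 KK
  have hN : NSys CoxeterMatrix.E₈ (TT chevE8 KK) (nc e8T KK) := nsysT e8T hlf 3
  obtain ⟨cs, hcs⟩ : ∃ cs : CoxeterSystem CoxeterMatrix.E₈ CoxeterMatrix.E₈.Group, cs = CoxeterMatrix.E₈.toCoxeterSystem :=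
    ⟨_, rfl⟩
  have hn := rp_simple cs hN j
  set n := nc e8T KK j with hn'
  have ht' : n * t * n⁻¹ ∈ TT chevE8 KK := (Subgroup.mem_normalizer_iff.1 hn.mem_normalizer t).1 ht
  have hζ0 : ζ ≠ 0 := hζ.ne_zero (NeZero.ne N)
  have hzp : ∀ m : ℤ, ζ ^ m = ζ ^ ((m : ZMod N).val) := by
    intro m
    rw [← zpow_natCast, ZMod.val_intCast]
    have h1 : ζ ^ (N : ℤ) = 1 := by rw [zpow_natCast]; exact hζ.pow_eq_one
    conv_lhs => rw [← Int.emod_add_mul_ediv m N]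
    rw [zpow_add₀ hζ0, _root_.zpow_mul, h1, _root_.one_zpow, mul_one]
  refine ⟨z * n⁻¹, n * t * n⁻¹, ?_, ht', fun i => ?_⟩
  · rw [← hz]
    group
  · have h1 := cX_rp e8T cs hlf 3 hn ht (rep cs e8T.isCartan (cs.simple j) (sr i))
    rw [← rep_mul_apply, cs.simple_mul_simple_self, map_one, Module.End.one_apply] at h1
    rw [h1, rep_simple_eq, (isMC_cX e8T ht).sub, (isMC_cX e8T ht).zsmul, hv i, hv j]
    have h2 : pairing (cartanOf chevE8 8) j (sr i) = cartanOf chevE8 8 j i := by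
      unfold pairing
      rw [Finset.sum_eq_single i]
      · rw [sr_self, mul_one]
      · intro b _ hb
        rw [sr_ne hb, mul_zero]
      · intro h
        exact absurd (Finset.mem_univ i) h
    rw [h2, ← zpow_natCast, ← zpow_natCast, ← _root_.zpow_mul, ← zpow_sub₀ hζ0, hzp]
    congr 2
    unfold srefl
    push_cast
    rw [ZMod.natCast_zmod_val, ZMod.natCast_zmod_val, mul_comm]

/-- **alcove vectors** -/
theorem exists_alcZ {N : ℕ} (hN : 0 < N) {x : G8} {ζ : KK} (hζ : IsPrimitiveRoot ζ N) (v : Fin 8 → ZMod N)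
    (hv : TorZ ζ x N v) : ∃ Y : List ℕ, Y.length = 8 ∧ dotN th8 Y ≤ N ∧ TorZ ζ x N (vecL N Y) := by
  have : NeZero N := ⟨hN.ne'⟩
  obtain ⟨y, hy, hθ⟩ := exists_alcove e8T (N := N) hN _ _ 60 (by norm_num) theta8
    (by decide) _ pos8 (fun w => TorZ ζ x N w) (fun w j hw => srefl_torZ hζ hw j) (v₀ := v) hv
  let Y : List ℕ := List.ofFn y
  have hY : ∀ i : Fin 8, Y.getD i 0 = y i := by
    intro i
    rw [List.getD_eq_getElem _ _ (by rw [List.length_ofFn]; exact i.2), List.getElem_ofFn]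
  have hYv : vecL N Y = fun i => ((y i : ℕ) : ZMod N) := by
    funext i
    unfold vecL
    rw [hY]
  refine ⟨Y, by simp [Y], ?_, ?_⟩
  · rw [dotN_eq 8 th8 Y (by decide)]
    have h2 : ∑ i : Fin 8, th8.getD i 0 * Y.getD i 0 = ∑ i : Fin 8, th8.getD i 0 * y i :=
      Finset.sum_congr rfl fun i _ => by rw [hY]
    rw [h2]
    simp only [Fin.sum_univ_eight, Matrix.cons_val] at hθ ⊢
    simp only [th8, List.getD_cons_zero, List.getD_cons_succ, Fin.val_zero, Fin.val_one, Fin.val_two] at hθ ⊢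
    norm_num at hθ ⊢
    omega
  · rw [hYv]
    exact hy

/-- the trivial vector -/
theorem eq_one_of_zero {x : G8} {N : ℕ} {ζ : KK} {v : Fin 8 → ZMod N} (h : TorZ ζ x N v) (hv : v = 0) : x = 1 := by
  obtain ⟨z, t, hz, ht, hc⟩ := h
  have h1 : t = 1 := by
    refine cX_inj e8T ht (one_mem _) fun i => ?_
    rw [hc i, hv, cX_one, Pi.zero_apply, ZMod.val_zero, pow_zero]
  rw [h1] at hz
  have h2 : emb e8T.inList (algebraMap (ZMod 3) KK) x = 1 := by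
    have h3 : z * (z⁻¹ * emb e8T.inList (algebraMap (ZMod 3) KK) x * z) * z⁻¹ = z * 1 * z⁻¹ := congrArg (fun y => z * y * z⁻¹) hz
    rw [mul_one, mul_inv_cancel] at h3
    rw [← h3]
    group
  exact emb_injective e8T.inList (algebraMap (ZMod 3) KK) (h2.trans (map_one _).symm)

end Cfsg.Agent.H943.TorZ
end
end

-- part: H943/No6
section
set_option linter.all false
open scoped Cfsg.Agent.FastGrp

-- part: H943/En
section
/-!
# Fast enumeration of the alcove vectors of `E8` (helper943, S5921)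

`outer X N K s4` : the loops over all `s` with `2 s1 + 3 s2 + 4 s3 + 6 s4 + 5 s5 + 4 s6 + 3 s7 + 2 s8 ≤ N`; the last
argument of `K` is the generating function `∑ X ^ (a · s)`, `a` running over the positive roots (`gen`).
-/

set_option autoImplicit false
set_option maxRecDepth 100000

namespace Cfsg.Agent.H943.En

open Cfsg.Agent.H944.Tab Cfsg.Agent.H943.E8Tab

local infixl:65 " ⊞ " => Nat.add
local infixl:70 " ⊠ " => Nat.mul

/-- forced evaluation -/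
def frc (n : ℕ) (k : ℕ → Bool) : Bool := Nat.rec (k 0) (fun m _ => k (Nat.succ m)) n

theorem frc_eq (n : ℕ) (k : ℕ → Bool) : frc n k = k n := by
  cases n <;> rfl

def q0 (p4 p5 p3 p6 p2 : ℕ) : ℕ :=
  (((((p2) ⊞ (p6)) ⊞ (p3)) ⊞ (p5 ⊠ (1 ⊞ (p6)))) ⊞ (p4 ⊠ ((((1 ⊞ (p2)) ⊞ (p3 ⊠ (1 ⊞ (p2)))) ⊞ (p5 ⊠ (((1 ⊞
    (p2)) ⊞ (p6 ⊠ (1 ⊞ (p2)))) ⊞ (p3 ⊠ ((1 ⊞ (p2)) ⊞ (p6 ⊠ (1 ⊞ (p2)))))))) ⊞ (p4 ⊠ (p5 ⊠ ((p3 ⊠ ((p2) ⊞ (p6 ⊠
    (p2)))) ⊞ (p5 ⊠ (p3 ⊠ (p6 ⊠ (p2))))))))))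

def q1 (p4 p5 p3 p6 p2 : ℕ) : ℕ :=
  ((1 ⊞ (p3)) ⊞ (p4 ⊠ (((p3 ⊠ (1 ⊞ (p2))) ⊞ (p5 ⊠ (p3 ⊠ ((1 ⊞ (p2)) ⊞ (p6 ⊠ (1 ⊞ (p2))))))) ⊞ (p4 ⊠ ((p5 ⊠
    ((p3 ⊠ (((p2) ⊞ (p6 ⊠ (p2))) ⊞ (p3 ⊠ ((p2) ⊞ (p6 ⊠ (p2)))))) ⊞ (p5 ⊠ (p3 ⊠ ((p6 ⊠ (p2)) ⊞ (p3 ⊠ (p6 ⊠
    (p2)))))))) ⊞ (p4 ⊠ (p5 ⊠ (p5 ⊠ (p3 ⊠ (p3 ⊠ (p6 ⊠ (p2 ⊠ (1 ⊞ (p2))))))))))))))

def qa (p4 p5 p3 p6 p2 : ℕ) : ℕ :=
  (((1 ⊞ (p6)) ⊞ (p5 ⊠ (p6))) ⊞ (p4 ⊠ ((p5 ⊠ ((p6 ⊠ (1 ⊞ (p2))) ⊞ (p3 ⊠ (p6 ⊠ (1 ⊞ (p2)))))) ⊞ (p4 ⊠ (p5 ⊠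
    ((p3 ⊠ (p6 ⊠ (p2))) ⊞ (p5 ⊠ (p3 ⊠ (p6 ⊠ ((p2) ⊞ (p6 ⊠ (p2))))))))))))

def qb (p4 p5 p3 p6 p2 : ℕ) : ℕ :=
  (p4 ⊠ ((p5 ⊠ (p3 ⊠ (p6 ⊠ (1 ⊞ (p2))))) ⊞ (p4 ⊠ ((p5 ⊠ ((p3 ⊠ ((p6 ⊠ (p2)) ⊞ (p3 ⊠ (p6 ⊠ (p2))))) ⊞ (p5 ⊠ (p3
    ⊠ ((p6 ⊠ ((p2) ⊞ (p6 ⊠ (p2)))) ⊞ (p3 ⊠ (p6 ⊠ ((p2) ⊞ (p6 ⊠ (p2)))))))))) ⊞ (p4 ⊠ ((p5 ⊠ (p5 ⊠ ((p3 ⊠ (p3 ⊠
    (p6 ⊠ ((p2 ⊠ (1 ⊞ (p2))) ⊞ (p6 ⊠ (p2 ⊠ (1 ⊞ (p2)))))))) ⊞ (p5 ⊠ (p3 ⊠ (p3 ⊠ (p6 ⊠ (p6 ⊠ (p2 ⊠ (1 ⊞
    (p2))))))))))) ⊞ (p4 ⊠ (p5 ⊠ (p5 ⊠ (p5 ⊠ (p3 ⊠ (p3 ⊠ ((p6 ⊠ (p6 ⊠ (p2 ⊠ (p2)))) ⊞ (p3 ⊠ (p6 ⊠ (p6 ⊠ (p2 ⊠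
    (p2))))))))))))))))))

def qd (p4 p5 p3 p6 p2 : ℕ) : ℕ :=
  (p4 ⊠ (p4 ⊠ (p4 ⊠ (p4 ⊠ (p5 ⊠ (p5 ⊠ (p5 ⊠ (p3 ⊠ (p3 ⊠ (p3 ⊠ (p6 ⊠ (p6 ⊠ (p2 ⊠ (p2))))))))))))))

def qe (p4 p5 p3 p6 p2 : ℕ) : ℕ :=
  (p4 ⊠ (p4 ⊠ (p5 ⊠ (p5 ⊠ (p3 ⊠ (p6 ⊠ (p6 ⊠ (p2))))))))

def qf (p4 p5 p3 p6 p2 : ℕ) : ℕ :=
  (p4 ⊠ (p4 ⊠ ((p5 ⊠ (p5 ⊠ (p3 ⊠ ((p6 ⊠ (p6 ⊠ (p2))) ⊞ (p3 ⊠ (p6 ⊠ (p6 ⊠ (p2)))))))) ⊞ (p4 ⊠ ((p5 ⊠ (p5 ⊠ ((p3
    ⊠ (p3 ⊠ (p6 ⊠ (p6 ⊠ (p2 ⊠ (1 ⊞ (p2))))))) ⊞ (p5 ⊠ (p3 ⊠ (p3 ⊠ (p6 ⊠ (p6 ⊠ ((p2 ⊠ (1 ⊞ (p2))) ⊞ (p6 ⊠ (p2 ⊠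
    (1 ⊞ (p2))))))))))))) ⊞ (p4 ⊠ ((p5 ⊠ (p5 ⊠ (p5 ⊠ ((p3 ⊠ (p3 ⊠ ((p6 ⊠ (p6 ⊠ ((p2 ⊠ (p2)) ⊞ (p6 ⊠ (p2 ⊠
    (p2)))))) ⊞ (p3 ⊠ (p6 ⊠ (p6 ⊠ ((p2 ⊠ (p2)) ⊞ (p6 ⊠ (p2 ⊠ (p2)))))))))) ⊞ (p5 ⊠ (p3 ⊠ (p3 ⊠ ((p6 ⊠ (p6 ⊠
    (p6 ⊠ (p2 ⊠ (p2))))) ⊞ (p3 ⊠ (p6 ⊠ (p6 ⊠ (p6 ⊠ (p2 ⊠ (p2)))))))))))))) ⊞ (p4 ⊠ (p5 ⊠ (p5 ⊠ (p5 ⊠ (p5 ⊠ (p3
    ⊠ (p3 ⊠ (p3 ⊠ (p6 ⊠ (p6 ⊠ (p6 ⊠ (p2 ⊠ (p2 ⊠ (1 ⊞ (p2))))))))))))))))))))))

def qg (p4 p5 p3 p6 p2 : ℕ) : ℕ :=
  (p4 ⊠ (p4 ⊠ (p4 ⊠ (p4 ⊠ ((p5 ⊠ (p5 ⊠ (p5 ⊠ ((p3 ⊠ (p3 ⊠ (p3 ⊠ (p6 ⊠ (p6 ⊠ ((p2 ⊠ (p2)) ⊞ (p6 ⊠ (p2 ⊠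
    (p2))))))))) ⊞ (p5 ⊠ (p3 ⊠ (p3 ⊠ (p3 ⊠ (p6 ⊠ (p6 ⊠ (p6 ⊠ (p2 ⊠ (p2))))))))))))) ⊞ (p4 ⊠ ((p5 ⊠ (p5 ⊠ (p5 ⊠
    (p5 ⊠ (p3 ⊠ (p3 ⊠ (p3 ⊠ ((p6 ⊠ (p6 ⊠ (p6 ⊠ (p2 ⊠ (p2 ⊠ (1 ⊞ (p2))))))) ⊞ (p3 ⊠ (p6 ⊠ (p6 ⊠ (p6 ⊠ (p2 ⊠ (p2
    ⊠ (1 ⊞ (p2)))))))))))))))) ⊞ (p4 ⊠ (p5 ⊠ (p5 ⊠ (p5 ⊠ (p5 ⊠ ((p3 ⊠ (p3 ⊠ (p3 ⊠ (p3 ⊠ (p6 ⊠ (p6 ⊠ (p6 ⊠ (p2
    ⊠ (p2 ⊠ (p2)))))))))) ⊞ (p5 ⊠ (p3 ⊠ (p3 ⊠ (p3 ⊠ (p3 ⊠ (p6 ⊠ (p6 ⊠ (p6 ⊠ ((p2 ⊠ (p2 ⊠ (p2))) ⊞ (p6 ⊠ (p2 ⊠
    (p2 ⊠ (p2))))))))))))))))))))))))))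

def qh (p4 p5 p3 p6 p2 : ℕ) : ℕ :=
  (p4 ⊠ (p4 ⊠ (p4 ⊠ (p4 ⊠ (p4 ⊠ (p4 ⊠ (p5 ⊠ (p5 ⊠ (p5 ⊠ (p5 ⊠ (p5 ⊠ (p3 ⊠ (p3 ⊠ (p3 ⊠ (p3 ⊠ (p6 ⊠ (p6 ⊠ (p6 ⊠
    (p6 ⊠ (p2 ⊠ (p2 ⊠ (p2))))))))))))))))))))))


/-- the product of the powers -/
def mon : List ℕ → List ℕ → ℕ
  | a :: as, p :: ps => p ^ a * mon as ps
  | _, _ => 1

/-- the generating function of the root values -/
def gen (X : ℕ) (s1 s2 s3 s4 s5 s6 s7 s8 : ℕ) : ℕ :=
  (R8.map fun a => X ^ dotN a [s1, s2, s3, s4, s5, s6, s7, s8]).sum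

theorem pow_dotN (X : ℕ) (a : List ℕ) (s : List ℕ) : X ^ dotN a s = mon a (s.map fun i => X ^ i) := by
  induction a generalizing s with
  | nil => cases s <;> simp [dotN, mon]
  | cons x a ih =>
    cases s with
    | nil => simp [dotN, mon]
    | cons y s =>
      rw [dotN, List.map_cons, mon, pow_add, ih, Nat.mul_comm x y, pow_mul]

/-- the value computed in the innermost loop -/
def val (p1 p2 p3 p4 p5 p6 p7 p8 : ℕ) : ℕ :=
  (q0 p4 p5 p3 p6 p2 + (p1 * q1 p4 p5 p3 p6 p2 + p7 * (qa p4 p5 p3 p6 p2 + p1 * (qb p4 p5 p3 p6 p2 + p1 *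
    qd p4 p5 p3 p6 p2)))) + p8 * ((1 + (p7 * (qa p4 p5 p3 p6 p2 + p1 * (qb p4 p5 p3 p6 p2 + p1 * qd p4 p5 p3 p6 p2)) +
    (p7 * (p7 * (qe p4 p5 p3 p6 p2 + p1 * (qf p4 p5 p3 p6 p2 + p1 * qg p4 p5 p3 p6 p2))) +
    p7 * (p7 * (p7 * (p1 * (p1 * qh p4 p5 p3 p6 p2))))))) + p8 * (p7 * (p7 * (p7 * (p1 * (p1 * qh p4 p5 p3 p6 p2))))))

theorem gen_eq (X s1 s2 s3 s4 s5 s6 s7 s8 : ℕ) : gen X s1 s2 s3 s4 s5 s6 s7 s8 =
    val (X ^ s1) (X ^ s2) (X ^ s3) (X ^ s4) (X ^ s5) (X ^ s6) (X ^ s7) (X ^ s8) := by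
  unfold gen
  simp only [pow_dotN, List.map_cons, List.map_nil]
  generalize X ^ s1 = p1
  generalize X ^ s2 = p2
  generalize X ^ s3 = p3
  generalize X ^ s4 = p4
  generalize X ^ s5 = p5
  generalize X ^ s6 = p6
  generalize X ^ s7 = p7
  generalize X ^ s8 = p8
  unfold val q0 q1 qa qb qd qe qf qg qh
  simp only [Nat.add_eq, Nat.mul_eq]
  simp only [R8, List.map_cons, List.map_nil, List.sum_cons, List.sum_nil, mon]
  ring

end Cfsg.Agent.H943.En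
end

-- part: H943/EnDg
section
/-!
# Counting the root values by digits (helper943, S5921)
-/

set_option autoImplicit false
set_option maxRecDepth 100000

namespace Cfsg.Agent.H943.En

open Cfsg.Lie Cfsg.Agent.ChevalleyStructure Cfsg.Agent.H944.RootVals
open Cfsg.Agent.H944.Tab Cfsg.Agent.H943.E8Tab

local infixl:65 " ⊞ " => Nat.add
local infixl:70 " ⊠ " => Nat.mul

/-- digit -/
def dg (E r : ℕ) : ℕ := Nat.mod (Nat.div E (Nat.pow 256 r)) 256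

theorem digit_aux (B r : ℕ) (L : List ℕ) : ∃ low high : ℕ, low * B ≤ L.length * B ^ r ∧
    (L.map fun a => B ^ a).sum = low + L.count r * B ^ r + B ^ (r + 1) * high := by
  induction L with
  | nil => exact ⟨0, 0, by simp, by simp⟩
  | cons x L ih =>
    obtain ⟨low, high, h1, h2⟩ := ih
    rcases lt_trichotomy x r with hx | hx | hx
    · refine ⟨B ^ x + low, high, ?_, ?_⟩
      · rw [List.length_cons, Nat.add_mul, Nat.add_mul, one_mul, ← pow_succ]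
        rcases Nat.eq_zero_or_pos B with hB | hB
        · subst hB
          rw [zero_pow (by omega), zero_pow (by omega)] 
          simp
        · have := Nat.pow_le_pow_right hB (show x + 1 ≤ r by omega)
          omega
      · rw [List.map_cons, List.sum_cons, h2, List.count_cons_of_ne hx.ne]
        ring
    · subst hx
      refine ⟨low, high, ?_, ?_⟩
      · rw [List.length_cons, Nat.add_mul]
        omega
      · rw [List.map_cons, List.sum_cons, h2, List.count_cons_self]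
        ring
    · refine ⟨low, B ^ (x - (r + 1)) + high, ?_, ?_⟩
      · rw [List.length_cons, Nat.add_mul]
        omega
      · rw [List.map_cons, List.sum_cons, h2, List.count_cons_of_ne hx.ne', mul_add, ← pow_add,
          show r + 1 + (x - (r + 1)) = x by omega]
        ring

theorem digit (B r : ℕ) (L : List ℕ) (hL : L.length < B) :
    ((L.map fun a => B ^ a).sum / B ^ r) % B = L.count r := by
  obtain ⟨low, high, h1, h2⟩ := digit_aux B r L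
  have hB : 0 < B := by omega
  have hBr : 0 < B ^ r := Nat.pow_pos hB
  have hlow : low < B ^ r := by
    have h3 : low * B < B ^ r * B := by
      refine lt_of_le_of_lt h1 ?_
      rw [mul_comm (B ^ r)]
      exact Nat.mul_lt_mul_of_pos_right hL hBr
    exact Nat.lt_of_mul_lt_mul_right h3
  have h4 : (L.map fun a => B ^ a).sum = low + B ^ r * (L.count r + B * high) := by
    rw [h2, pow_succ]
    ring
  rw [h4, Nat.add_mul_div_left _ _ hBr, Nat.div_eq_of_lt hlow, zero_add, Nat.add_mul_mod_self_left,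
    Nat.mod_eq_of_lt (lt_of_le_of_lt List.count_le_length hL)]

/-- the values of the positive roots -/
def pv (Y : List ℕ) : List ℕ := R8.map fun a => dotN a Y

theorem dg_gen (s1 s2 s3 s4 s5 s6 s7 s8 r : ℕ) :
    dg (gen 256 s1 s2 s3 s4 s5 s6 s7 s8) r = (pv [s1, s2, s3, s4, s5, s6, s7, s8]).count r := by
  have h1 := digit 256 r (pv [s1, s2, s3, s4, s5, s6, s7, s8]) (by
    unfold pv
    rw [List.length_map]
    decide)
  rw [← h1]
  unfold pv gen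
  rw [List.map_map]
  rfl

theorem dotN_le_of_all2 : ∀ (a b Y : List ℕ), (a.length ≤ b.length) → (∀ i, a.getD i 0 ≤ b.getD i 0) → dotN a Y ≤ dotN b Y
  | [], b, Y, _, _ => by
    cases Y <;> simp only [dotN, _root_.Std.le_refl, _root_.zero_le]
  | x :: a, [], Y, h, _ => by simp at h
  | x :: a, y :: b, [], _, _ => by simp [dotN]
  | x :: a, y :: b, z :: Y, hl, h => by
    rw [dotN, dotN]
    have h0 := h 0
    simp only [List.getD_cons_zero] at h0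
    have h1 := dotN_le_of_all2 a b Y (by simpa using hl) fun i => by
      have := h (i + 1)
      simpa only [_root_.List.getD_eq_getElem?_getD, _root_.ge_iff_le, _root_.List.getElem?_cons_succ] using this
    have h2 := Nat.mul_le_mul_right z h0
    omega

theorem dom8 : ∀ a ∈ R8, a.length = 8 ∧ ∀ i < 8, a.getD i 0 ≤ th8.getD i 0 := by (refine of_decide_eq_true ?_; (try (rewrite [Cfsg.Agent.LsF.instDecEq_eq, Cfsg.Agent.LsF.decLe_eq, Cfsg.Agent.LsF.getD_eq, Cfsg.Agent.LsF.dAnd_eq, Cfsg.Agent.LsF.dBAll_eq, Cfsg.Agent.LsF.dBallLT_eq, Cfsg.Agent.LsF.length_eq, Cfsg.Agent.LsF.decide_eq])); decide +kernel)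

theorem dotN_le_th {a : List ℕ} (ha : a ∈ R8) (Y : List ℕ) : dotN a Y ≤ dotN th8 Y := by
  obtain ⟨h1, h2⟩ := dom8 a ha
  refine dotN_le_of_all2 a th8 Y (by rw [h1]; decide) fun i => ?_
  by_cases hi : i < 8
  · exact h2 i hi
  · rw [List.getD_eq_default a 0 (by omega)]
    exact Nat.zero_le _

theorem count_aux (N : ℕ) (r : ℕ) (hr : 0 < r) (hrN : r < N) (L : List ℕ) (hL : ∀ a ∈ L, a ≤ N) :
    (L.map fun a => (if ((a : ℕ) : ZMod N) = (r : ZMod N) then 1 else 0) +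
      (if (-((a : ℕ) : ZMod N)) = (r : ZMod N) then 1 else 0)).sum = L.count r + L.count (N - r) := by
  induction L with
  | nil => simp only [_root_.List.map_nil, _root_.List.sum_nil, _root_.List.nodup_nil, _root_.List.count_nil, _root_.add_zero]
  | cons x L ih =>
    have hx : x ≤ N := hL x (by simp)
    rw [List.map_cons, List.sum_cons, ih fun a ha => hL a (by simp [ha])]
    have e1 : (((x : ℕ) : ZMod N) = (r : ZMod N)) ↔ x = r := by
      rw [ZMod.natCast_eq_natCast_iff']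
      rw [Nat.mod_eq_of_lt hrN]
      constructor
      · intro h
        rcases Nat.lt_or_ge x N with h1 | h1
        · rwa [Nat.mod_eq_of_lt h1] at h
        · have : x = N := le_antisymm hx h1
          rw [this, Nat.mod_self] at h
          omega
      · rintro rfl
        exact Nat.mod_eq_of_lt hrN
    have e2 : ((-((x : ℕ) : ZMod N)) = (r : ZMod N)) ↔ x = N - r := by
      have h3 : ((-((x : ℕ) : ZMod N)) = (r : ZMod N)) ↔ (((x + r : ℕ)) : ZMod N) = 0 := by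
        push_cast
        rw [neg_eq_iff_add_eq_zero]
      rw [h3, ZMod.natCast_eq_zero_iff]
      constructor
      · rintro ⟨c, hc⟩
        have hc1 : c = 1 := by
          rcases c with _ | _ | c
          · omega
          · rfl
          · exfalso
            have : N * (c + 1 + 1) = N * c + 2 * N := by ring
            have h4 : 0 ≤ N * c := Nat.zero_le _
            omega
        subst hc1
        omega
      · rintro rfl
        exact ⟨1, by omega⟩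
    rw [List.count_cons, List.count_cons]
    simp only [e1, e2, beq_iff_eq]
    omega

/-- **the number of roots with the value `r`** -/
theorem count_vec {N : ℕ} (Y : List ℕ) (hY : dotN th8 Y ≤ N) {r : ℕ} (hr : 0 < r) (hrN : r < N) :
    (ms chevE8 8 (vecOf N Y)).count (r : ZMod N) = (pv Y).count r + (pv Y).count (N - r) := by
  rw [count_eq_sum, sum_vecOf, ← count_aux N r hr hrN (pv Y)]
  · unfold pv
    rw [List.map_map]
    rfl
  · intro a ha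
    unfold pv at ha
    rw [List.mem_map] at ha
    obtain ⟨b, hb, rfl⟩ := ha
    exact (dotN_le_th hb Y).trans hY

theorem dotN_th8 (s1 s2 s3 s4 s5 s6 s7 s8 : ℕ) : dotN th8 [s1, s2, s3, s4, s5, s6, s7, s8] =
    2 * s1 + 3 * s2 + 4 * s3 + 6 * s4 + 5 * s5 + 4 * s6 + 3 * s7 + 2 * s8 := by
  simp only [th8, dotN]
  ring

theorem list8 {Y : List ℕ} (h : Y.length = 8) : ∃ s1 s2 s3 s4 s5 s6 s7 s8, Y = [s1, s2, s3, s4, s5, s6, s7, s8] := by
  match Y, h with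
  | [a, b, c, d, e, f, g, i], _ => exact ⟨a, b, c, d, e, f, g, i, rfl⟩

end Cfsg.Agent.H943.En
end

-- part: H943/EnW
section
/-!
# The loops with a filter: one weighted digit sum of the generating function, read off a product
-/

set_option autoImplicit false
set_option maxRecDepth 100000

namespace Cfsg.Agent.H943.En

open Cfsg.Agent.H944.Tab Cfsg.Agent.H943.E8Tab

/-- all `i ≤ n` -/
def lq (n : ℕ) (f : ℕ → Bool) : Bool := Nat.rec (f 0) (fun i ih => Bool.rec false ih (f (Nat.succ i))) n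

theorem lq_spec {n : ℕ} {f : ℕ → Bool} (h : lq n f = true) : ∀ i ≤ n, f i = true := by
  induction n with
  | zero =>
    intro i hi
    rw [Nat.le_zero.1 hi]
    exact h
  | succ n ih =>
    have h1 : (Bool.rec false (lq n f) (f (Nat.succ n)) : Bool) = true := h
    have h2 : f (Nat.succ n) = true ∧ lq n f = true := by
      revert h1
      cases f (Nat.succ n)
      · exact fun h => Bool.noConfusion h
      · exact fun h => ⟨rfl, h⟩
    intro i hi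
    rcases Nat.lt_or_ge i (n + 1) with h3 | h3
    · exact ih h2.2 i (by omega)
    · rw [le_antisymm hi h3]
      exact h2.1

def leafW (X S m : ℕ) (K : ℕ → Bool) (K0 K1 K2 s8 : ℕ) : Bool :=
  Bool.rec true (K s8) (Nat.beq (Nat.mod (Nat.div (Nat.add K0 (Nat.mul (Nat.pow X s8) (Nat.add K1
    (Nat.mul (Nat.pow X s8) K2)))) S) m) 0)

def midW (X S m : ℕ) (K : ℕ → ℕ → Bool) (B c0 c1 c2 d0 d1 d2 e2 s1 : ℕ) : Bool :=
  lq (Nat.div (Nat.sub B (Nat.mul 2 s1)) 2) (leafW X S m (K s1)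
    (Nat.add c0 (Nat.mul (Nat.pow X s1) (Nat.add c1 (Nat.mul (Nat.pow X s1) c2))))
    (Nat.add d0 (Nat.mul (Nat.pow X s1) (Nat.add d1 (Nat.mul (Nat.pow X s1) d2))))
    (Nat.mul (Nat.pow X s1) (Nat.mul (Nat.pow X s1) e2)))

def in7 (X S m W : ℕ) (K : ℕ → ℕ → Bool) (B a0 a1 aa ab ad ae af ag ah p7 : ℕ) : Bool :=
  lq (Nat.div B 2) (midW X S m K B (Nat.add a0 (Nat.mul p7 aa)) (Nat.add a1 (Nat.mul p7 ab)) (Nat.mul p7 ad)
    (Nat.add W (Nat.mul p7 (Nat.add aa (Nat.mul p7 ae)))) (Nat.mul p7 (Nat.add ab (Nat.mul p7 af)))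
    (Nat.mul p7 (Nat.add ad (Nat.mul p7 (Nat.add ag (Nat.mul p7 ah))))) (Nat.mul p7 (Nat.mul p7 (Nat.mul p7 ah))))

def innerW (X S m W : ℕ) (K : ℕ → ℕ → ℕ → Bool) (B a0 a1 aa ab ad ae af ag ah : ℕ) : Bool :=
  lq (Nat.div B 3) fun s7 => in7 X S m W (K s7) (Nat.sub B (Nat.mul 3 s7)) a0 a1 aa ab ad ae af ag ah (Nat.pow X s7)

def in2 (X S m W : ℕ) (K : ℕ → ℕ → ℕ → Bool) (B p4 p5 p3 p6 p2 : ℕ) : Bool :=
  innerW X S m W K B (Nat.mul W (q0 p4 p5 p3 p6 p2)) (Nat.mul W (q1 p4 p5 p3 p6 p2)) (Nat.mul W (qa p4 p5 p3 p6 p2))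
    (Nat.mul W (qb p4 p5 p3 p6 p2)) (Nat.mul W (qd p4 p5 p3 p6 p2)) (Nat.mul W (qe p4 p5 p3 p6 p2))
    (Nat.mul W (qf p4 p5 p3 p6 p2)) (Nat.mul W (qg p4 p5 p3 p6 p2)) (Nat.mul W (qh p4 p5 p3 p6 p2))

def outerW (X S m W N : ℕ) (K : ℕ → ℕ → ℕ → ℕ → ℕ → ℕ → ℕ → ℕ → Bool) (s4 : ℕ) : Bool :=
  frc (Nat.sub N (Nat.mul 6 s4)) fun B4 =>
  lq (Nat.div B4 5) fun s5 => frc (Nat.sub B4 (Nat.mul 5 s5)) fun B5 =>
  lq (Nat.div B5 4) fun s3 => frc (Nat.sub B5 (Nat.mul 4 s3)) fun B3 =>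
  lq (Nat.div B3 4) fun s6 => frc (Nat.sub B3 (Nat.mul 4 s6)) fun B6 =>
  lq (Nat.div B6 3) fun s2 => in2 X S m W (K s4 s5 s3 s6 s2) (Nat.sub B6 (Nat.mul 3 s2))
    (Nat.pow X s4) (Nat.pow X s5) (Nat.pow X s3) (Nat.pow X s6) (Nat.pow X s2)

/-- the test on the vectors which pass the filter -/
def slow (K : ℕ → ℕ → ℕ → ℕ → ℕ → ℕ → ℕ → ℕ → ℕ → Bool) (s4 s5 s3 s6 s2 s7 s1 s8 : ℕ) : Bool :=
  frc (val (256 ^ s1) (256 ^ s2) (256 ^ s3) (256 ^ s4) (256 ^ s5) (256 ^ s6) (256 ^ s7) (256 ^ s8))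
    (K s4 s5 s3 s6 s2 s7 s1 s8)

theorem outerW_spec {X S m W N : ℕ} {K : ℕ → ℕ → ℕ → ℕ → ℕ → ℕ → ℕ → ℕ → ℕ → Bool}
    (h : ∀ s4 ≤ N / 6, outerW X S m W N (slow K) s4 = true)
    (s1 s2 s3 s4 s5 s6 s7 s8 : ℕ) (hs : 2 * s1 + 3 * s2 + 4 * s3 + 6 * s4 + 5 * s5 + 4 * s6 + 3 * s7 + 2 * s8 ≤ N)
    (h0 : W * gen X s1 s2 s3 s4 s5 s6 s7 s8 / S % m = 0) :
    K s4 s5 s3 s6 s2 s7 s1 s8 (gen 256 s1 s2 s3 s4 s5 s6 s7 s8) = true := by
  have h4 := h s4 (by (clear * - hs; solve | lia | omega))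
  unfold outerW at h4
  simp only [frc_eq] at h4
  have h5 := lq_spec h4 s5 (by show s5 ≤ (N - 6 * s4) / 5; (clear * - hs; solve | lia | omega))
  have h3 := lq_spec h5 s3 (by show s3 ≤ (N - 6 * s4 - 5 * s5) / 4; (clear * - hs; solve | lia | omega))
  have h6 := lq_spec h3 s6 (by show s6 ≤ (N - 6 * s4 - 5 * s5 - 4 * s3) / 4; (clear * - hs; solve | lia | omega))
  have h2 := lq_spec h6 s2 (by show s2 ≤ (N - 6 * s4 - 5 * s5 - 4 * s3 - 4 * s6) / 3; (clear * - hs; solve | lia | omega))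
  unfold in2 innerW at h2
  have h7 := lq_spec h2 s7 (by show s7 ≤ (N - 6 * s4 - 5 * s5 - 4 * s3 - 4 * s6 - 3 * s2) / 3; omega)
  unfold in7 at h7
  have h1 := lq_spec h7 s1 (by show s1 ≤ (N - 6 * s4 - 5 * s5 - 4 * s3 - 4 * s6 - 3 * s2 - 3 * s7) / 2; omega)
  unfold midW at h1
  have h8 := lq_spec h1 s8 (by
    show s8 ≤ (N - 6 * s4 - 5 * s5 - 4 * s3 - 4 * s6 - 3 * s2 - 3 * s7 - 2 * s1) / 2
    omega)
  have key : ∀ K0 K1 K2 : ℕ, K0 + X ^ s8 * (K1 + X ^ s8 * K2) = W * gen X s1 s2 s3 s4 s5 s6 s7 s8 →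
      ∀ k : ℕ → Bool, leafW X S m k K0 K1 K2 s8 = true → k s8 = true := by
    intro K0 K1 K2 e k hk
    have e1 : Nat.beq ((K0 + X ^ s8 * (K1 + X ^ s8 * K2)) / S % m) 0 = true := by
      rw [e, h0]
      rfl
    have hk' : (Bool.rec true (k s8) (Nat.beq ((K0 + X ^ s8 * (K1 + X ^ s8 * K2)) / S % m) 0) : Bool) = true := hk
    rw [e1] at hk'
    exact hk'
  have h9 := key _ _ _ (by
    rw [gen_eq]
    unfold val
    simp only [Nat.add_eq, Nat.mul_eq, Nat.pow_eq]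
    ring) _ h8
  rw [gen_eq]
  unfold slow at h9
  rwa [frc_eq] at h9

theorem wsum_aux {X S m W N : ℕ} {w : List ℕ}
    (hc : ∀ a ≤ N, 120 * (W * X ^ a % S) < S ∧ W * X ^ a / S % m = w.getD a 0 % m) (L : List ℕ) (hL : ∀ a ∈ L, a ≤ N) :
    ∃ lo q : ℕ, 120 * lo + L.length ≤ L.length * S ∧ W * (L.map fun a => X ^ a).sum = lo + S * q ∧
      q % m = (∑ r ∈ Finset.range (N + 1), w.getD r 0 * L.count r) % m := by
  induction L with
  | nil => exact ⟨0, 0, by simp, by simp, by simp⟩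
  | cons x L ih =>
    obtain ⟨lo, q, h1, h2, h3⟩ := ih fun a ha => hL a (List.mem_cons_of_mem _ ha)
    have hx : x ≤ N := hL x List.mem_cons_self
    obtain ⟨h4, h5⟩ := hc x hx
    refine ⟨W * X ^ x % S + lo, W * X ^ x / S + q, ?_, ?_, ?_⟩
    · rw [List.length_cons, Nat.add_mul, Nat.mul_add]
      omega
    · rw [List.map_cons, List.sum_cons, Nat.mul_add, h2, Nat.mul_add]
      have := Nat.mod_add_div (W * X ^ x) S
      omega
    · have e : ∑ r ∈ Finset.range (N + 1), w.getD r 0 * (x :: L).count r =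
          w.getD x 0 + ∑ r ∈ Finset.range (N + 1), w.getD r 0 * L.count r := by
        simp only [List.count_cons, Nat.mul_add, Finset.sum_add_distrib, beq_iff_eq, mul_ite, mul_one, mul_zero]
        rw [Finset.sum_ite_eq, if_pos (Finset.mem_range.2 (by omega)), add_comm]
      rw [e, Nat.add_mod, h5, h3, ← Nat.add_mod]

theorem wsum {X S m W N : ℕ} {w : List ℕ}
    (hc : ∀ a ≤ N, 120 * (W * X ^ a % S) < S ∧ W * X ^ a / S % m = w.getD a 0 % m) (s1 s2 s3 s4 s5 s6 s7 s8 : ℕ)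
    (hs : 2 * s1 + 3 * s2 + 4 * s3 + 6 * s4 + 5 * s5 + 4 * s6 + 3 * s7 + 2 * s8 ≤ N) :
    W * gen X s1 s2 s3 s4 s5 s6 s7 s8 / S % m =
      (∑ r ∈ Finset.range (N + 1), w.getD r 0 * (pv [s1, s2, s3, s4, s5, s6, s7, s8]).count r) % m := by
  obtain ⟨lo, q, h1, h2, h3⟩ := wsum_aux hc (pv [s1, s2, s3, s4, s5, s6, s7, s8]) (by
    intro a ha
    unfold pv at ha
    rw [List.mem_map] at ha
    obtain ⟨b, hb, rfl⟩ := ha
    exact (dotN_le_th hb _).trans (by rw [dotN_th8]; exact hs))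
  have hl : (pv [s1, s2, s3, s4, s5, s6, s7, s8]).length = 120 := by
    unfold pv
    rw [List.length_map]
    decide
  have e : gen X s1 s2 s3 s4 s5 s6 s7 s8 = ((pv [s1, s2, s3, s4, s5, s6, s7, s8]).map fun a => X ^ a).sum := by
    unfold pv gen
    rw [List.map_map]
    rfl
  rw [hl] at h1
  have hlo : lo < S := by omega
  rw [e, h2, Nat.add_mul_div_left _ _ (by omega), Nat.div_eq_of_lt hlo, zero_add, h3]

end Cfsg.Agent.H943.En
end

-- part: H943/En41a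
section
/-!
# The 3-stable alcove vectors of `E8` modulo 41 (helper943, S5921)
-/

set_option autoImplicit false
set_option maxRecDepth 100000

namespace Cfsg.Agent.H943.En41

open Cfsg.Lie Cfsg.Agent.ChevalleyStructure Cfsg.Agent.H944.RootVals
open Cfsg.Agent.H944.Tab Cfsg.Agent.H943.E8Tab Cfsg.Agent.H943.En

local infixl:65 " ⊞ " => Nat.add
local infixl:70 " ⊠ " => Nat.mul

def fast41 (E : ℕ) : Bool := Nat.beq (Nat.mod (Nat.div E 256) 256 ⊞ Nat.mod (Nat.div E 2135987035920910082395021706169552114602704522356652769947041607822219725780640550022962086936576) 256)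
  (Nat.mod (Nat.div E 16777216) 256 ⊞ Nat.mod (Nat.div E 32592575621351777380295131014550050576823494298654980010178247189670100796213387298934358016) 256)

def NN (E r : ℕ) : ℕ := dg E r ⊞ dg E (Nat.sub 41 r)

def st41 (E : ℕ) : Bool :=
  and (Nat.beq (NN E 1) (NN E 3)) <| and (Nat.beq (NN E 2) (NN E 6)) <| and (Nat.beq (NN E 7) (NN E 20)) <|
  and (Nat.beq (NN E 4) (NN E 12)) <| and (Nat.beq (NN E 8) (NN E 17)) <|
  and (Nat.beq (NN E 3) (NN E 9)) <| and (Nat.beq (NN E 9) (NN E 14)) <| and (Nat.beq (NN E 6) (NN E 18)) <|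
  and (Nat.beq (NN E 18) (NN E 13)) <| and (Nat.beq (NN E 12) (NN E 5)) <| and (Nat.beq (NN E 5) (NN E 15)) <|
  and (Nat.beq (NN E 20) (NN E 19)) <| and (Nat.beq (NN E 19) (NN E 16)) <|
  and (Nat.beq (NN E 17) (NN E 10)) (Nat.beq (NN E 10) (NN E 11))

/-- the result -/
def list41 : List (List ℕ) := [[0,0,0,0,0,0,0,0],[3,0,0,3,1,0,1,0],[5,0,0,2,0,3,1,0],[0,1,6,0,1,0,2,0],
  [3,1,1,1,1,1,1,1],[3,2,1,1,1,1,1,1],[4,1,1,1,1,2,1,1],[6,0,0,0,0,2,2,1],[2,1,1,1,1,1,3,1],[5,0,0,1,0,2,0,2],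
  [1,1,1,1,2,2,1,2],[2,1,2,1,1,1,2,2],[7,0,0,0,0,4,1,3],[2,1,1,1,1,1,2,4],[7,0,0,0,0,1,2,6],[3,0,0,0,0,1,1,7],
  [1,0,0,0,0,2,4,7],[1,1,0,1,0,3,0,9]]

def good41 (s1 s2 s3 s4 s5 s6 s7 s8 : ℕ) : Bool := list41.contains [s1,s2,s3,s4,s5,s6,s7,s8]

def K41 (s4 s5 s3 s6 s2 s7 s1 s8 E : ℕ) : Bool :=
  bif fast41 E then bif st41 E then good41 s1 s2 s3 s4 s5 s6 s7 s8 else true else true

/-- the weights -/
def w41 : List ℕ := [0, 268853, 376951, 385306, 776839, 105842, 348034, 556787, 31414, 124661, 392928, 117835, 106549, 165183, 221183, 10773, 31876, 457826, 109835, 283423, 127917, 127917, 283423, 109835, 457826, 31876, 10773, 221183, 165183, 106549, 117835, 392928, 124661, 31414, 556787, 348034, 105842, 776839, 385306, 376951, 268853, 0]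

def W41 : ℕ := 55078463936540720881435559751951450323598542859297245657262440023575727093018581234257744323120216847695659834733215634688403447830425544869802495913408641664717934809773711952025955546658275724040563144561136590860196604104823931025285554443261555321483152027569517996098667338212861379587660891812639057300650714216965187833540

def S41 : ℕ := 24788691413448681285229544656224357964287220496308720395685204605656016631784576565636382640045928003644353838714633961390743923569594811820769335878756335080017380228160661233460745506805262748312553419120579666615509779328937702819741557692218331154299883614042637329444137550042649403724395102938955293864158316551471430459353163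

theorem w41_chk : ∀ a ≤ 41, 120 * (W41 * 121000363 ^ a % S41) < S41 ∧
    W41 * 121000363 ^ a / S41 % 1000003 = w41.getD a 0 % 1000003 := by decide +kernel

set_option maxHeartbeats 0
theorem u6 : outerW 121000363 S41 1000003 W41 41 (slow K41) 6 = true := by decide +kernel
theorem u5 : outerW 121000363 S41 1000003 W41 41 (slow K41) 5 = true := by decide +kernel
theorem u4 : outerW 121000363 S41 1000003 W41 41 (slow K41) 4 = true := by decide +kernel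
theorem u3 : outerW 121000363 S41 1000003 W41 41 (slow K41) 3 = true := by decide +kernel
theorem u2 : outerW 121000363 S41 1000003 W41 41 (slow K41) 2 = true := by decide +kernel
theorem u1 : outerW 121000363 S41 1000003 W41 41 (slow K41) 1 = true := by decide +kernel
theorem u0 : outerW 121000363 S41 1000003 W41 41 (slow K41) 0 = true := by decide +kernel

theorem hall41 (s1 s2 s3 s4 s5 s6 s7 s8 : ℕ)
    (hs : 2 * s1 + 3 * s2 + 4 * s3 + 6 * s4 + 5 * s5 + 4 * s6 + 3 * s7 + 2 * s8 ≤ 41) :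
    K41 s4 s5 s3 s6 s2 s7 s1 s8 (gen 256 s1 s2 s3 s4 s5 s6 s7 s8) = true := by
  cases hst : st41 (gen 256 s1 s2 s3 s4 s5 s6 s7 s8)
  · unfold K41
    rw [hst]
    cases fast41 (gen 256 s1 s2 s3 s4 s5 s6 s7 s8) <;> rfl
  refine outerW_spec (X := 121000363) (S := S41) (m := 1000003) (W := W41) (N := 41) ?_ s1 s2 s3 s4 s5 s6 s7 s8 hs ?_
  · intro s4 h4
    have : s4 ≤ 6 := h4
    interval_cases s4
    exacts [u0, u1, u2, u3, u4, u5, u6]
  rw [wsum w41_chk s1 s2 s3 s4 s5 s6 s7 s8 hs]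
  obtain ⟨c, hc⟩ : ∃ c : ℕ → ℕ, ∀ r, (pv [s1, s2, s3, s4, s5, s6, s7, s8]).count r = c r := ⟨_, fun _ => rfl⟩
  have hN : ∀ r, NN (gen 256 s1 s2 s3 s4 s5 s6 s7 s8) r = c r + c (41 - r) := by
    intro r
    show dg _ r + dg _ (41 - r) = _
    rw [dg_gen, dg_gen, hc, hc]
  unfold st41 at hst
  simp only [Bool.and_eq_true, Nat.beq_eq, hN, Nat.reduceSub] at hst
  have e : ∑ r ∈ Finset.range (41 + 1), w41.getD r 0 * (pv [s1, s2, s3, s4, s5, s6, s7, s8]).count r =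
      1000003 * (c 1 + c 40 + (c 2 + c 39) + (c 4 + c 37) + (c 7 + c 34) + (c 8 + c 33)) := by
    simp only [hc, Finset.sum_range_succ, Finset.range_zero, Finset.sum_empty, w41, List.getD_cons_succ,
      List.getD_cons_zero]
    (clear * - hst; solve | lia | omega)
  rw [e, Nat.mul_mod_right]

end Cfsg.Agent.H943.En41
end

-- part: H943/En41
section
/-!
# The 3-stable alcove vectors of `E8` modulo 41, II (helper943, S5921)
-/

set_option autoImplicit false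
set_option maxRecDepth 100000

namespace Cfsg.Agent.H943.En41

open Cfsg.Lie Cfsg.Agent.ChevalleyStructure Cfsg.Agent.H944.RootVals
open Cfsg.Agent.H944.Tab Cfsg.Agent.H943.E8Tab Cfsg.Agent.H943.En

theorem fast41_eq (E : ℕ) : fast41 E = Nat.beq (NN E 1) (NN E 3) := by
  have h1 : (256 : ℕ) ^ 40 = 2135987035920910082395021706169552114602704522356652769947041607822219725780640550022962086936576 := by
    norm_num
  have h2 : (256 : ℕ) ^ 38 = 32592575621351777380295131014550050576823494298654980010178247189670100796213387298934358016 := by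
    norm_num
  have h3 : (256 : ℕ) ^ 3 = 16777216 := by norm_num
  show Nat.beq (E / 256 % 256 + E / _ % 256) (E / _ % 256 + E / _ % 256) =
    Nat.beq (E / 256 ^ 1 % 256 + E / 256 ^ 40 % 256) (E / 256 ^ 3 % 256 + E / 256 ^ 38 % 256)
  rw [h1, h2, h3, pow_one]

/-- **the 3-stable alcove vectors modulo 41** -/
theorem enum41 {Y : List ℕ} (hl : Y.length = 8) (hθ : dotN th8 Y ≤ 41)
    (hst : ∀ c : ZMod 41, (ms chevE8 8 (vecOf 41 Y)).count (3 * c) = (ms chevE8 8 (vecOf 41 Y)).count c) :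
    Y ∈ list41 := by
  obtain ⟨s1, s2, s3, s4, s5, s6, s7, s8, rfl⟩ := list8 hl
  obtain ⟨E, hE⟩ : ∃ E, E = gen 256 s1 s2 s3 s4 s5 s6 s7 s8 := ⟨_, rfl⟩
  obtain ⟨n, hn⟩ : ∃ n : ℕ → ℕ, ∀ r, n r = (ms chevE8 8 (vecOf 41 [s1, s2, s3, s4, s5, s6, s7, s8])).count
    ((r : ℕ) : ZMod 41) := ⟨_, fun _ => rfl⟩
  have hN : ∀ r, 0 < r → r < 41 → NN E r = n r := by
    intro r hr0 hr
    rw [hn, count_vec _ hθ hr0 hr]
    show dg E r + dg E (41 - r) = _
    rw [hE, dg_gen, dg_gen]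
  have hst' : ∀ r r' : ℕ, ((3 : ZMod 41) * (r : ZMod 41) = (r' : ZMod 41) ∨ (3 : ZMod 41) * (r : ZMod 41) = -(r' : ZMod 41)) →
      0 < r → r < 41 → 0 < r' → r' < 41 → n r = n r' := by
    intro r r' h hr hr1 hr' hr1'
    rw [← hN r hr hr1, ← hN r' hr' hr1', hN r hr hr1]
    rcases h with h | h
    · rw [hN r' hr' hr1', hn, hn, ← hst, h]
    · have e1 : NN E r' = NN E (41 - r') := by
        show dg E r' + dg E (41 - r') = dg E (41 - r') + dg E (41 - (41 - r'))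
        rw [show 41 - (41 - r') = r' by omega, add_comm]
      rw [e1, hN (41 - r') (by omega) (by omega), hn, hn, ← hst, h]
      congr 1
      have : ((41 - r' : ℕ) : ZMod 41) = ((41 : ℕ) : ZMod 41) - (r' : ZMod 41) := Nat.cast_sub (by omega)
      rw [this]
      have : ((41 : ℕ) : ZMod 41) = 0 := by decide
      rw [this, zero_sub]
  have hall := hall41 s1 s2 s3 s4 s5 s6 s7 s8 (by rw [dotN_th8] at hθ; omega)
  unfold K41 at hall
  rw [← hE, fast41_eq] at hall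
  have hfast : Nat.beq (NN E 1) (NN E 3) = true := by
    rw [hN 1 (by norm_num) (by norm_num), hN 3 (by norm_num) (by norm_num), Nat.beq_eq]
    exact hst' 1 3 (by decide) (by norm_num) (by norm_num) (by norm_num) (by norm_num)
  have hs : st41 E = true := by
    unfold st41
    rw [hN 1 (by norm_num) (by norm_num), hN 2 (by norm_num) (by norm_num), hN 3 (by norm_num) (by norm_num), hN
      4 (by norm_num) (by norm_num), hN 5 (by norm_num) (by norm_num), hN 6 (by norm_num) (by norm_num), hN 7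
      (by norm_num) (by norm_num), hN 8 (by norm_num) (by norm_num), hN 9 (by norm_num) (by norm_num), hN 10
      (by norm_num) (by norm_num), hN 11 (by norm_num) (by norm_num), hN 12 (by norm_num) (by norm_num), hN 13
      (by norm_num) (by norm_num), hN 14 (by norm_num) (by norm_num), hN 15 (by norm_num) (by norm_num), hN 16
      (by norm_num) (by norm_num), hN 17 (by norm_num) (by norm_num), hN 18 (by norm_num) (by norm_num), hN 19
      (by norm_num) (by norm_num), hN 20 (by norm_num) (by norm_num)]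
    simp only [Bool.and_eq_true, Nat.beq_eq]
    refine ⟨hst' 1 3 ?_ ?_ ?_ ?_ ?_, hst' 2 6 ?_ ?_ ?_ ?_ ?_, hst' 7 20 ?_ ?_ ?_ ?_ ?_, hst' 4 12 ?_ ?_ ?_ ?_ ?_,
      hst' 8 17 ?_ ?_ ?_ ?_ ?_, hst' 3 9 ?_ ?_ ?_ ?_ ?_, hst' 9 14 ?_ ?_ ?_ ?_ ?_, hst' 6 18 ?_ ?_ ?_ ?_ ?_,
      hst' 18 13 ?_ ?_ ?_ ?_ ?_, hst' 12 5 ?_ ?_ ?_ ?_ ?_, hst' 5 15 ?_ ?_ ?_ ?_ ?_, hst' 20 19 ?_ ?_ ?_ ?_ ?_,
      hst' 19 16 ?_ ?_ ?_ ?_ ?_, hst' 17 10 ?_ ?_ ?_ ?_ ?_, hst' 10 11 ?_ ?_ ?_ ?_ ?_⟩ <;>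
    first
      | decide
      | norm_num
  rw [hfast, hs] at hall
  exact List.contains_iff_mem.1 hall

end Cfsg.Agent.H943.En41
end

-- part: H943/WConj
section
/-!
# An element of prime order of `E8(3)`: the vector of its root values is conjugate to its cube (helper943, S5921)
-/

set_option autoImplicit false
set_option linter.unusedSectionVars false
set_option maxRecDepth 100000

namespace Cfsg.Agent.H943.WConj

open CoxeterSystem Subgroup Cfsg Cfsg.Lie Cfsg.Lie.ChevalleyDatum Polynomial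
open Cfsg.Agent.ChevalleyStructure Cfsg.Agent.ChevalleyStructure.Elts Cfsg.Agent.ChevalleyStructure.CoxeterGeom
  Cfsg.Agent.ChevalleyStructure.CoxeterGeomTypes Cfsg.Agent.ChevalleyStructure.NPerm
open Cfsg.Agent.Tits.Roots Cfsg.Agent.Tits.Core Cfsg.Agent.Nodes.Reps Cfsg.Agent.Nodes.BNOf
  Cfsg.Agent.Nodes.RGDChev Cfsg.Agent.Nodes.Bruhat
open Cfsg.Agent.KFacts.RgdField Cfsg.Agent.KFacts.RgdChevCoord Cfsg.Agent.BpExc.TorCent Cfsg.Agent.BpExc.TorChev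
open Cfsg.Agent.BpExc.Tow Cfsg.Agent.BpExc.TowChev Cfsg.Agent.BpExc.FamExt Cfsg.Agent.BpExc.FamUntw
  Cfsg.Agent.BpExc.FamInst Cfsg.Agent.BpExc.LangFr Cfsg.Agent.BpExc.FamField
open Cfsg.Agent.GpExc.Field (glMap emb coe_emb glMap_xG emb_injective coe_glMap)
open Cfsg.Agent.H378.TorDual Cfsg.Agent.H378.TorChar Cfsg.Agent.H378.TorFin Cfsg.Agent.H378.LatRoot
open Cfsg.Agent.H378.Regular Cfsg.Agent.H378
open Cfsg.Agent.H942.E8Tab (e8T)
open Cfsg.Agent.H129.TorusChar (cX cX_sr isMC_cX IsMC)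
open Cfsg.Agent.H525.E8L (KK GK G8 TorZ val_inj cX_vec_val eK)
open Cfsg.Agent.H944.RootVals Cfsg.Agent.H944.Kac

/-- the Coxeter system -/
abbrev cs8 : CoxeterSystem CoxeterMatrix.E₈ CoxeterMatrix.E₈.Group := CoxeterMatrix.E₈.toCoxeterSystem

theorem tchar_cX {t : GK} (ht : t ∈ TT chevE8 KK) (x : Fin 8 → ℤ) :
    ((tchar e8T ⟨t, ht⟩ (Multiplicative.ofAdd x) : KKˣ) : KK) = cX e8T t x := by
  have h1 : IsMC fun x : Fin 8 → ℤ => ((tchar e8T ⟨t, ht⟩ (Multiplicative.ofAdd x) : KKˣ) : KK) := by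
    refine ⟨?_, fun x y => ?_⟩
    · rw [ofAdd_zero, map_one, Units.val_one]
    · rw [ofAdd_add, map_mul, Units.val_mul]
  have h2 := h1.eq_prod x
  rw [(isMC_cX e8T ht).eq_prod x]
  refine h2.trans (Finset.prod_congr rfl fun i _ => ?_)
  show ((tchar e8T ⟨t, ht⟩ (Multiplicative.ofAdd (sr i)) : KKˣ) : KK) ^ x i = _
  rw [tchar_sr, cX_sr]

/-- **the vector is conjugate to its cube** -/
theorem exists_w {ℓ : ℕ} (hℓ : ℓ.Prime) (hℓ3 : ℓ ≠ 3) {η : KK} (hη : IsPrimitiveRoot η ℓ) {x : G8} (hx : x ^ ℓ = 1)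
    {v : Fin 8 → ZMod ℓ} (h : TorZ η x ℓ v) : ∃ w : CoxeterMatrix.E₈.Group, ∀ s s' : Fin chevE8.nroots,
      vec chevE8 8 s' = rep cs8 e8T.isCartan w (vec chevE8 8 s) → rv chevE8 8 v s' = 3 * rv chevE8 8 v s := by
  have h3 : Fact (Nat.Prime 3) := ⟨Nat.prime_three⟩
  have : NeZero ℓ := ⟨hℓ.ne_zero⟩
  obtain ⟨z, t, hz, ht, hv⟩ := h
  have hkch : CharP KK 3 :=
    charP_of_injective_algebraMap (algebraMap (ZMod 3) KK).injective 3
  have hka : Algebra.IsAlgebraic (ZMod 3) KK := AlgebraicClosure.isAlgebraic _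
  have hlf : LocFin KK := locFin_of_isAlgebraic 3 KK
  have hk' : BpExc.TorAll.HAlg 3 KK := hAlg_closure 3 (ZMod 3)
  obtain ⟨X, hX⟩ : ∃ X, X = eK x := ⟨_, rfl⟩
  have hXℓ : X ^ ℓ = 1 := by rw [hX, ← map_pow, hx, map_one]
  have hcard : Nat.card (ZMod 3) = 3 ^ 1 := by rw [Nat.card_zmod, pow_one]
  obtain ⟨c, hc⟩ := Fusion.frob_conj e8T 3 hk' (n := 1) (x := X)
    (by rw [hX]; exact phi_emb' e8T (algebraMap (ZMod 3) KK) 3 hcard x) hℓ hℓ3 hXℓ
  rw [pow_one] at hc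
  have hfin : Finite CoxeterMatrix.E₈.Group := by
    have hcard : Nat.card CoxeterMatrix.E₈.Group = 696729600 :=
      Cfsg.Agent.S1093.result (⟨8, CoxeterMatrix.E₈⟩, 696729600) (by simp)
    exact Nat.finite_of_card_ne_zero (by rw [hcard]; norm_num)
  have hzX : z⁻¹ * X * z = t := by rw [hX]; exact hz
  have hta : t ^ 3 = z⁻¹ * X ^ 3 * z := by
    rw [← hzX]
    have h1 := conj_pow (a := z⁻¹) (b := X) (i := 3)
    rwa [inv_inv] at h1
  have hta' : t ^ 3 ∈ TT chevE8 KK := Subgroup.pow_mem _ ht _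
  have e1 : z⁻¹ * c⁻¹ * z * t ^ 3 = t * (z⁻¹ * c⁻¹ * z) := by
    rw [hta, ← hc, ← hzX]
    group
  obtain ⟨m', -, w, g, hg, hgs, -⟩ := exists_form' e8T cs8 hlf 3 hta' ht e1
  have hgt : g * t ^ 3 * g⁻¹ = t := by rw [hgs]; group
  have hgm : g * t ^ 3 * g⁻¹ ∈ TT chevE8 KK := by rw [hgt]; exact ht
  have hχ := fun y => tchar_conj e8T cs8 hlf 3 hg hta' hgm y
  have e2 : (⟨g * t ^ 3 * g⁻¹, hgm⟩ : ↥(TT chevE8 KK)) = ⟨t, ht⟩ := Subtype.ext hgt
  have e3 : (⟨t ^ 3, hta'⟩ : ↥(TT chevE8 KK)) = ⟨t, ht⟩ ^ 3 := rfl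
  rw [e2, e3, map_pow] at hχ
  refine ⟨w, fun s s' hs => ?_⟩
  have h4 := congrArg (fun u : KKˣ => (u : KK)) (hχ (vec chevE8 8 s))
  simp only [MonoidHom.pow_apply, Units.val_pow_eq_pow_val] at h4
  rw [← hs, tchar_cX, tchar_cX, cX_vec_val hη ht hv, cX_vec_val hη ht hv, ← pow_mul] at h4
  have h5 : η ^ ((rv chevE8 8 v s).val * 3) = η ^ (3 * rv chevE8 8 v s).val := by
    have h6 := Cfsg.Agent.H942.CB.pow_mod_orderOf' hη ((rv chevE8 8 v s).val * 3)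
    rw [← h6, ← ZMod.val_natCast]
    congr 2
    push_cast
    rw [ZMod.natCast_zmod_val, mul_comm]
  exact (val_inj hη).1 (h4.trans h5)

end Cfsg.Agent.H943.WConj
end

-- part: H943/En40a
section
/-!
# The alcove vectors of `E8` of order 40 compatible with `L2(81)` (helper943, S5921)
-/

set_option autoImplicit false
set_option maxRecDepth 100000

namespace Cfsg.Agent.H943.En

open Cfsg.Lie Cfsg.Agent.ChevalleyStructure Cfsg.Agent.H944.RootVals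
open Cfsg.Agent.H944.Tab Cfsg.Agent.H943.E8Tab

local infixl:65 " ⊞ " => Nat.add
local infixl:70 " ⊠ " => Nat.mul

def fast40 (E : ℕ) : Bool := Nat.beq (Nat.mod (Nat.div E 256) 256 ⊞ Nat.mod (Nat.div E 8343699359066055009355553539724812947666814540455674882605631280555545803830627148527195652096) 256)
  (Nat.mod (Nat.div E 16777216) 256 ⊞ Nat.mod (Nat.div E 127314748520905380391777855525586135065716774604121015664758778084648831235208544136462336) 256)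

def NN (E r : ℕ) : ℕ := dg E r ⊞ dg E (Nat.sub 40 r)

def st40 (E : ℕ) : Bool :=
  and (Nat.beq (NN E 1) (NN E 3)) <| and (Nat.beq (NN E 2) (NN E 6)) <| and (Nat.beq (NN E 7) (NN E 19)) <|
  and (Nat.beq (NN E 4) (NN E 12)) <| and (Nat.beq (NN E 5) (NN E 15)) <| and (Nat.beq (NN E 8) (NN E 16)) <|
  and (Nat.beq (NN E 3) (NN E 9)) <| and (Nat.beq (NN E 9) (NN E 13)) <| and (Nat.beq (NN E 6) (NN E 18)) <|
  and (Nat.beq (NN E 18) (NN E 14)) <| and (Nat.beq (NN E 19) (NN E 17)) (Nat.beq (NN E 17) (NN E 11))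

/-- the functionals, as `(positive part, negative part)` on `(N0, N1, N2, N4, N5, N7, N8, N10, N20)` -/
def bad40 (E : ℕ) : Bool :=
  frc (NN E 1) fun n1 => frc (NN E 2) fun n2 => frc (NN E 4) fun n4 => frc (NN E 5) fun n5 => frc (NN E 7) fun n7 =>
  frc (NN E 8) fun n8 => frc (NN E 10) fun n10 => frc (NN E 20) fun n20 =>
  or (Nat.blt (2 ⊠ n7) n20) <| or (Nat.blt (4 ⊠ n8) ((2 ⊠ n10) ⊞ n20)) <|
  or (Nat.blt (((8 ⊠ n2) ⊞ (4 ⊠ n5)) ⊞ ((32 ⊠ n7) ⊞ (10 ⊠ n10))) (((4 ⊠ n4) ⊞ (20 ⊠ n8)) ⊞ (11 ⊠ n20))) <|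
  or (Nat.blt (((8 ⊠ n1) ⊞ (4 ⊠ n5)) ⊞ (8 ⊠ n7)) ((((8 ⊠ n2) ⊞ (4 ⊠ n4)) ⊞ ((4 ⊠ n8) ⊞ (2 ⊠ n10))) ⊞ n20)) <|
  Nat.blt (((2 ⊠ n2) ⊞ n5) ⊞ ((n8 ⊞ n10) ⊞ n20)) (n4 ⊞ (4 ⊠ n7))

/-- the result -/
def list40 : List (List ℕ) := [[0,0,0,0,0,0,0,0],[1,2,2,1,1,1,1,1],[3,0,0,0,0,1,1,7],[7,0,0,0,0,1,2,6],[3,0,0,3,1,0,1,0],
  [5,0,0,1,0,2,0,1],[3,1,1,1,1,1,1,1],[1,1,1,1,1,3,1,2]]

def good40 (s1 s2 s3 s4 s5 s6 s7 s8 : ℕ) : Bool := list40.contains [s1,s2,s3,s4,s5,s6,s7,s8]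

def K40 (s4 s5 s3 s6 s2 s7 s1 s8 E : ℕ) : Bool :=
  bif fast40 E then bif st40 E then bif bad40 E then true else good40 s1 s2 s3 s4 s5 s6 s7 s8 else true else true

/-- the weights -/
def w40 : List ℕ := [0, 262150, 55372, 552501, 492854, 911631, 626127, 119705, 259550, 175530, 0, 609150, 507149, 9822, 54341, 88372, 740453, 225383, 264163, 45765, 0, 45765, 264163, 225383, 740453, 88372, 54341, 9822, 507149, 609150, 0, 175530, 259550, 119705, 626127, 911631, 492854, 552501, 55372, 262150, 0]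

def W40 : ℕ := 443843758993374645865642752443118609568361759865211796927648943361294781993615338095768892238324729508436796397776193010653164644093475136642697655558249868636946353863879829784470954913538868005362051434344443618683063914093171636032066363241295203835502516360246012563518177159613459532383215092206477295427317435762416

def S40 : ℕ := 204864603699153210682760882760528230516855726261818903763827589555710809163312812256905234573932046829019462021900165385377760590433888300159639487021673935639493744561416408589292790029111422982363725794116664481539694053057821841573661706223297290061021417051803698551252590457457135097391361569212443551629331199208645601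

theorem w40_chk : ∀ a ≤ 40, 120 * (W40 * 121000363 ^ a % S40) < S40 ∧
    W40 * 121000363 ^ a / S40 % 1000003 = w40.getD a 0 % 1000003 := by decide +kernel

set_option maxHeartbeats 0
theorem u6 : outerW 121000363 S40 1000003 W40 40 (slow K40) 6 = true := by decide +kernel
theorem u5 : outerW 121000363 S40 1000003 W40 40 (slow K40) 5 = true := by decide +kernel
theorem u4 : outerW 121000363 S40 1000003 W40 40 (slow K40) 4 = true := by decide +kernel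
theorem u3 : outerW 121000363 S40 1000003 W40 40 (slow K40) 3 = true := by decide +kernel
theorem u2 : outerW 121000363 S40 1000003 W40 40 (slow K40) 2 = true := by decide +kernel
theorem u1 : outerW 121000363 S40 1000003 W40 40 (slow K40) 1 = true := by decide +kernel
theorem u0 : outerW 121000363 S40 1000003 W40 40 (slow K40) 0 = true := by decide +kernel

theorem hall40 (s1 s2 s3 s4 s5 s6 s7 s8 : ℕ)
    (hs : 2 * s1 + 3 * s2 + 4 * s3 + 6 * s4 + 5 * s5 + 4 * s6 + 3 * s7 + 2 * s8 ≤ 40) :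
    K40 s4 s5 s3 s6 s2 s7 s1 s8 (gen 256 s1 s2 s3 s4 s5 s6 s7 s8) = true := by
  cases hst : st40 (gen 256 s1 s2 s3 s4 s5 s6 s7 s8)
  · unfold K40
    rw [hst]
    cases fast40 (gen 256 s1 s2 s3 s4 s5 s6 s7 s8) <;> rfl
  refine outerW_spec (X := 121000363) (S := S40) (m := 1000003) (W := W40) (N := 40) ?_ s1 s2 s3 s4 s5 s6 s7 s8 hs ?_
  · intro s4 h4
    have : s4 ≤ 6 := h4
    interval_cases s4
    exacts [u0, u1, u2, u3, u4, u5, u6]
  rw [wsum w40_chk s1 s2 s3 s4 s5 s6 s7 s8 hs]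
  obtain ⟨c, hc⟩ : ∃ c : ℕ → ℕ, ∀ r, (pv [s1, s2, s3, s4, s5, s6, s7, s8]).count r = c r := ⟨_, fun _ => rfl⟩
  have hN : ∀ r, NN (gen 256 s1 s2 s3 s4 s5 s6 s7 s8) r = c r + c (40 - r) := by
    intro r
    show dg _ r + dg _ (40 - r) = _
    rw [dg_gen, dg_gen, hc, hc]
  unfold st40 at hst
  simp only [Bool.and_eq_true, Nat.beq_eq, hN, Nat.reduceSub] at hst
  have e : ∑ r ∈ Finset.range (40 + 1), w40.getD r 0 * (pv [s1, s2, s3, s4, s5, s6, s7, s8]).count r =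
      1000003 * (c 1 + c 39 + (c 2 + c 38) + (c 7 + c 33) + (c 4 + c 36) + (c 5 + c 35) + (c 8 + c 32)) := by
    simp only [hc, Finset.sum_range_succ, Finset.range_zero, Finset.sum_empty, w40, List.getD_cons_succ,
      List.getD_cons_zero]
    (clear * - hst; solve | lia | omega)
  rw [e, Nat.mul_mod_right]

end Cfsg.Agent.H943.En
end

-- part: H943/En40
section
/-!
# The alcove vectors of `E8` of order 40 compatible with `L2(81)`, II (helper943, S5921)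
-/

set_option autoImplicit false
set_option maxRecDepth 100000

namespace Cfsg.Agent.H943.En

open Cfsg.Lie Cfsg.Agent.ChevalleyStructure Cfsg.Agent.H944.RootVals
open Cfsg.Agent.H944.Tab Cfsg.Agent.H943.E8Tab

theorem fast40_eq (E : ℕ) : fast40 E = Nat.beq (NN E 1) (NN E 3) := by
  have h1 : (256 : ℕ) ^ 39 = 8343699359066055009355553539724812947666814540455674882605631280555545803830627148527195652096 := by
    norm_num
  have h2 : (256 : ℕ) ^ 37 = 127314748520905380391777855525586135065716774604121015664758778084648831235208544136462336 := by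
    norm_num
  have h3 : (256 : ℕ) ^ 3 = 16777216 := by norm_num
  show Nat.beq (E / 256 % 256 + E / _ % 256) (E / _ % 256 + E / _ % 256) =
    Nat.beq (E / 256 ^ 1 % 256 + E / 256 ^ 39 % 256) (E / 256 ^ 3 % 256 + E / 256 ^ 37 % 256)
  rw [h1, h2, h3, pow_one]

/-- **the alcove vectors of order dividing 40** -/
theorem enum40 {Y : List ℕ} (hl : Y.length = 8) (hθ : dotN th8 Y ≤ 40)
    (hst : ∀ c : ZMod 40, (ms chevE8 8 (vecOf 40 Y)).count (3 * c) = (ms chevE8 8 (vecOf 40 Y)).count c)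
    (n : ℕ → ℕ) (hn : ∀ r, n r = (ms chevE8 8 (vecOf 40 Y)).count ((r : ℕ) : ZMod 40))
    (h1 : n 20 ≤ 2 * n 7) (h2 : 2 * n 10 + n 20 ≤ 4 * n 8)
    (h3 : 4 * n 4 + 20 * n 8 + 11 * n 20 ≤ 8 * n 2 + 4 * n 5 + (32 * n 7 + 10 * n 10))
    (h4 : 8 * n 2 + 4 * n 4 + (4 * n 8 + 2 * n 10) + n 20 ≤ 8 * n 1 + 4 * n 5 + 8 * n 7)
    (h5 : n 4 + 4 * n 7 ≤ 2 * n 2 + n 5 + (n 8 + n 10 + n 20)) : Y ∈ list40 := by
  obtain ⟨s1, s2, s3, s4, s5, s6, s7, s8, rfl⟩ := list8 hl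
  obtain ⟨E, hE⟩ : ∃ E, E = gen 256 s1 s2 s3 s4 s5 s6 s7 s8 := ⟨_, rfl⟩
  have hN : ∀ r, 0 < r → r < 40 → NN E r = n r := by
    intro r hr0 hr
    rw [hn, count_vec _ hθ hr0 hr]
    show dg E r + dg E (40 - r) = _
    rw [hE, dg_gen, dg_gen]
  have hst' : ∀ r r' : ℕ, ((3 : ZMod 40) * (r : ZMod 40) = (r' : ZMod 40) ∨ (3 : ZMod 40) * (r : ZMod 40) = -(r' : ZMod 40)) →
      0 < r → r < 40 → 0 < r' → r' < 40 → n r = n r' := by
    intro r r' h hr hr1 hr' hr1'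
    rw [← hN r hr hr1, ← hN r' hr' hr1', hN r hr hr1]
    rcases h with h | h
    · rw [hN r' hr' hr1', hn, hn, ← hst, h]
    · have e1 : NN E r' = NN E (40 - r') := by
        show dg E r' + dg E (40 - r') = dg E (40 - r') + dg E (40 - (40 - r'))
        rw [show 40 - (40 - r') = r' by omega, add_comm]
      rw [e1, hN (40 - r') (by omega) (by omega), hn, hn, ← hst, h]
      congr 1
      have : ((40 - r' : ℕ) : ZMod 40) = ((40 : ℕ) : ZMod 40) - (r' : ZMod 40) := Nat.cast_sub (by omega)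
      rw [this]
      have : ((40 : ℕ) : ZMod 40) = 0 := by decide
      rw [this, zero_sub]
  have hall := hall40 s1 s2 s3 s4 s5 s6 s7 s8 (by rw [dotN_th8] at hθ; omega)
  unfold K40 at hall
  rw [← hE, fast40_eq] at hall
  have hfast : Nat.beq (NN E 1) (NN E 3) = true := by
    rw [hN 1 (by norm_num) (by norm_num), hN 3 (by norm_num) (by norm_num), Nat.beq_eq]
    exact hst' 1 3 (by decide) (by norm_num) (by norm_num) (by norm_num) (by norm_num)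
  have hs : st40 E = true := by
    unfold st40
    rw [hN 1 (by norm_num) (by norm_num), hN 2 (by norm_num) (by norm_num), hN 3 (by norm_num) (by norm_num),
      hN 4 (by norm_num) (by norm_num), hN 5 (by norm_num) (by norm_num), hN 6 (by norm_num) (by norm_num),
      hN 7 (by norm_num) (by norm_num), hN 8 (by norm_num) (by norm_num), hN 9 (by norm_num) (by norm_num),
      hN 11 (by norm_num) (by norm_num), hN 12 (by norm_num) (by norm_num),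
      hN 13 (by norm_num) (by norm_num), hN 14 (by norm_num) (by norm_num), hN 15 (by norm_num) (by norm_num),
      hN 16 (by norm_num) (by norm_num), hN 17 (by norm_num) (by norm_num), hN 18 (by norm_num) (by norm_num),
      hN 19 (by norm_num) (by norm_num)]
    simp only [Bool.and_eq_true, Nat.beq_eq]
    refine ⟨hst' 1 3 ?_ ?_ ?_ ?_ ?_, hst' 2 6 ?_ ?_ ?_ ?_ ?_, hst' 7 19 ?_ ?_ ?_ ?_ ?_, hst' 4 12 ?_ ?_ ?_ ?_ ?_,
      hst' 5 15 ?_ ?_ ?_ ?_ ?_, hst' 8 16 ?_ ?_ ?_ ?_ ?_, hst' 3 9 ?_ ?_ ?_ ?_ ?_, hst' 9 13 ?_ ?_ ?_ ?_ ?_,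
      hst' 6 18 ?_ ?_ ?_ ?_ ?_, hst' 18 14 ?_ ?_ ?_ ?_ ?_, hst' 19 17 ?_ ?_ ?_ ?_ ?_, hst' 17 11 ?_ ?_ ?_ ?_ ?_⟩ <;>
    first
      | decide
      | norm_num
  have hb : bad40 E = false := by
    unfold bad40
    simp only [frc_eq]
    rw [hN 1 (by norm_num) (by norm_num), hN 2 (by norm_num) (by norm_num), hN 4 (by norm_num) (by norm_num),
      hN 5 (by norm_num) (by norm_num), hN 7 (by norm_num) (by norm_num), hN 8 (by norm_num) (by norm_num),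
      hN 10 (by norm_num) (by norm_num), hN 20 (by norm_num) (by norm_num)]
    have hblt : ∀ a b : ℕ, b ≤ a → Nat.blt a b = false := by
      intro a b h
      rw [Bool.eq_false_iff]
      intro h'
      have h'' : a.succ ≤ b := Nat.le_of_ble_eq_true h'
      omega
    exact Bool.or_eq_false_iff.2 ⟨hblt _ _ h1, Bool.or_eq_false_iff.2 ⟨hblt _ _ h2, Bool.or_eq_false_iff.2
      ⟨hblt _ _ h3, Bool.or_eq_false_iff.2 ⟨hblt _ _ h4, hblt _ _ h5⟩⟩⟩⟩
  rw [hfast, hs, hb] at hall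
  exact List.contains_iff_mem.1 hall

end Cfsg.Agent.H943.En
end

-- part: H943/ClassA
section
/-!
# The classes of the elements of order 40 of `L2(81)` in `E8(3)` (helper943, S5921)
-/

set_option autoImplicit false
set_option linter.unusedSectionVars false
set_option maxRecDepth 100000

namespace Cfsg.Agent.H943.ClassA

open Matrix
open Cfsg Cfsg.Lie Cfsg.Lie.ChevalleyDatum
open Cfsg.Agent.ChevalleyStructure Cfsg.Agent.ChevalleyStructure.Elts Cfsg.Agent.ChevalleyStructure.CoxeterGeomTypes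
open Cfsg.Agent.H943.SL2Rel Cfsg.Agent.H943.PSLHom Cfsg.Agent.H943.RepAdd Cfsg.Agent.H943.Cert
open Cfsg.Agent.H942.E8Alc Cfsg.Agent.H944.Tab Cfsg.Agent.H944.RootVals Cfsg.Agent.H943.TorZ
open Cfsg.Agent.H525.E8L

/-- the root values are stable under the Frobenius map -/
theorem stable {x : G8} {N : ℕ} (hN0 : N ≠ 0) (hN : N.Coprime 3) (hx : x ^ N = 1) {ζ : KK}
    (hζ : IsPrimitiveRoot ζ N) {v : Fin 8 → ZMod N} (h : TorZ ζ x N v) :
    ms chevE8 8 v = (ms chevE8 8 v).map (fun a => 3 * a) := by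
  classical
  have : Fact (Nat.Prime 3) := ⟨Nat.prime_three⟩
  have : NeZero N := ⟨hN0⟩
  obtain ⟨v', hv', hd⟩ := Cfsg.Agent.H943.TorDim.exists_vals_dim H942.E8Tab.e8T 3 (F := ZMod 3) (x := x) hN0 hN hx hζ
  have e1 : ms chevE8 8 v = ms chevE8 8 v' := by
    ext j
    have h1 := h.dims hζ j
    have h2 := hd (ζ ^ j.val)
    rw [h1] at h2
    have h3 : (Multiset.replicate chevE8.rank (1 : KK) + (ms chevE8 8 v').map (fun b => ζ ^ b.val)).count (ζ ^ j.val) =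
        (if j = 0 then 8 else 0) + (ms chevE8 8 v').count j := by
      rw [Multiset.count_add, Multiset.count_replicate]
      congr 1
      · have h4 : ((1 : KK) = ζ ^ j.val) ↔ j = 0 := by
          rw [← val_inj hζ (a := j) (b := 0), ZMod.val_zero, pow_zero]
          exact eq_comm
        simp only [h4]
        rfl
      · rw [Multiset.count_map, Multiset.count_eq_card_filter_eq]
        congr 1
        refine Multiset.filter_congr fun a _ => ?_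
        rw [val_inj hζ]
    rw [h3] at h2
    exact Nat.add_left_cancel h2
  rw [e1]
  have h5 := hv'.frob
  rw [Nat.card_zmod] at h5
  exact h5

/-- the functionals -/
def tab40 : ℕ → List ℤ
  | 0 => [0, 0, 0, 0, 0, 0, 0, 2, 0, 0, 0, 2, 0, 0, 0, 0, 0, 2, 0, 2, -8, 2, 0, 2, 0, 0, 0, 0, 0, 2, 0, 0, 0, 2, 0, 0, 0, 0, 0, 0]
  | 1 => [0, 0, 0, 0, 0, 0, 0, 0, 8, 0, -8, 0, 0, 0, 0, 0, 8, 0, 0, 0, -8, 0, 0, 0, 8, 0, 0, 0, 0, 0, -8, 0, 8, 0, 0, 0, 0, 0, 0, 0]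
  | 2 => [0, 0, 8, 0, -8, 8, 8, 32, -40, 0, 40, 32, -8, 0, 8, 8, -40, 32, 8, 32, -88, 32, 8, 32, -40, 8, 8, 0, -8, 32, 40, 0, -40, 32, 8, 8, -8, 0, 8, 0]
  | 3 => [0, 8, -8, 8, -8, 8, -8, 8, -8, 8, -8, 8, -8, 8, -8, 8, -8, 8, -8, 8, -8, 8, -8, 8, -8, 8, -8, 8, -8, 8, -8, 8, -8, 8, -8, 8, -8, 8, -8, 8]
  | _ => [0, 0, 2, 0, -2, 2, 2, -4, 2, 0, 4, -4, -2, 0, 2, 2, 2, -4, 2, -4, 8, -4, 2, -4, 2, 2, 2, 0, -2, -4, 4, 0, 2, -4, 2, 2, -2, 0, 2, 0]

/-- the functionals on the weights modulo 80 -/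
def f40 (c κ : ℕ) : ℤ := if κ % 2 = 1 then 0 else (tab40 c).getD (κ / 2) 0

private noncomputable def _root_.Cfsg.Agent.LsF.f0302e2_9 : {f // @Cfsg.Agent.H943.ClassA.tab40 = f} := ⟨_, by first | (delta Cfsg.Agent.H943.ClassA.tab40; rewrite [Cfsg.Agent.LsF.ineg_pat]; (try delta Cfsg.Agent.H943.ClassA.tab40.match_1); (try rewrite [Cfsg.Agent.LsF.instDecEq_eq, Cfsg.Agent.LsF.dite_eq]); exact rfl) | exact rfl⟩
private noncomputable def _root_.Cfsg.Agent.LsF.f0302e2_10 : {f // @Cfsg.Agent.H943.ClassA.f40 = f} := ⟨_, by first | (delta Cfsg.Agent.H943.ClassA.f40; rewrite [Cfsg.Agent.LsF.f0302e2_9.2, Cfsg.Agent.LsF.ndiv_pat, Cfsg.Agent.LsF.nmod_pat, Cfsg.Agent.LsF.instDecEq_eq, Cfsg.Agent.LsF.getD_eq, Cfsg.Agent.LsF.ite_eq]; exact rfl) | exact rfl⟩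
private noncomputable def _root_.Cfsg.Agent.LsF.f0302e2_11 : {f // @Cfsg.Agent.H943.SL2Mod.wtOf = f} := ⟨_, by first | (delta Cfsg.Agent.H943.SL2Mod.wtOf; rewrite [Cfsg.Agent.LsF.nadd_pat, Cfsg.Agent.LsF.nmul_pat, Cfsg.Agent.LsF.nsub_pat, Cfsg.Agent.LsF.nmod_pat]; exact rfl) | exact rfl⟩
private noncomputable def _root_.Cfsg.Agent.LsF.f0302e2_12 : {f // @Cfsg.Agent.H943.Cert.digs = f} := ⟨_, by first | (delta Cfsg.Agent.H943.Cert.digs Nat.brecOn.go Nat.brecOn Cfsg.Agent.H943.Cert.digs._f; rewrite [Cfsg.Agent.LsF.nadd_pat, Cfsg.Agent.LsF.nmul_pat, Cfsg.Agent.LsF.ndiv_pat, Cfsg.Agent.LsF.nmod_pat, Cfsg.Agent.LsF.map_eq, Cfsg.Agent.LsF.flatMap_eq, Cfsg.Agent.LsF.range_eq]; (try delta Cfsg.Agent.H943.Cert.digs.match_1); (try delta Nat.casesOn); first | dsimp -zeta only | exact rfl) | exact rfl⟩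
theorem chk40 : ((List.range 5).all fun c => (List.range 41).all fun i =>
    decide (0 ≤ ((digs 4 (2 * i)).map fun m => f40 c (SL2Mod.wtOf 80 (2 * i) m)).sum)) = true := by
  ((try (rewrite [Cfsg.Agent.LsF.f0302e2_10.2, Cfsg.Agent.LsF.f0302e2_11.2, Cfsg.Agent.LsF.f0302e2_12.2, Cfsg.Agent.LsF.nmul_pat, Cfsg.Agent.LsF.all_eq, Cfsg.Agent.LsF.map_eq, Cfsg.Agent.LsF.range_eq, Cfsg.Agent.LsF.sum_eq, Cfsg.Agent.LsF.instIAdd_eq, Cfsg.Agent.LsF.idecLe_eq, Cfsg.Agent.LsF.decide_eq])); decide +kernel)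

theorem f40_nonneg {k : Type*} [Field k] [DecidableEq k] [CharP k 3] {c : ℕ} (hc : c < 5) {b : ℕ} (hb : b ≤ 80)
    (he : Even b) : 0 ≤ ∑ m ∈ SL2Mod.Bf k b, f40 c (SL2Mod.wtOf 80 b m) := by
  have hb3 : b < 3 ^ 4 := by norm_num; omega
  rw [Bf_eq hb3, List.sum_toFinset _ (nodup_digs 4 b)]
  obtain ⟨i, rfl⟩ := he
  rw [← two_mul]
  have h1 := List.all_eq_true.1 (List.all_eq_true.1 chk40 c (List.mem_range.2 hc)) i (List.mem_range.2 (by omega))
  exact of_decide_eq_true h1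

section

variable {F : Type} [Field F] [Fintype F]

/-- the values of the functionals on the natural module are nonnegative -/
theorem fun40 (hcard : Fintype.card F = 81) (ι : F →+* KK) (φ : _root_.Matrix.SpecialLinearGroup (Fin 2) F →* G8)
    (hk : ∀ g, φ g = 1 ↔ g ∈ Subgroup.center (_root_.Matrix.SpecialLinearGroup (Fin 2) F)) {lam : Fˣ}
    (hlam : ∀ x, x ∈ Subgroup.zpowers lam) {v : Fin 8 → ZMod 40} (h : TorZ (ι lam ^ 2) (φ (SL2Rel.h lam)) 40 v)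
    {c : ℕ} (hc : c < 5) :
    0 ≤ ∑ j ∈ Finset.range 40, (tab40 c).getD j 0 * ((if j = 0 then 8 else 0 : ℤ) +
      ((ms chevE8 8 v).count (j : ZMod 40) : ℤ)) := by
  classical
  have : Fact (Nat.Prime 3) := ⟨Nat.prime_three⟩
  have hchF : CharP F 3 := by
    obtain ⟨⟨m, hm⟩, hp', hc⟩ := FiniteField.card F (ringChar F)
    rw [hcard] at hc
    have h1 : ringChar F ∣ 3 ^ 4 := by
      rw [show (3 : ℕ) ^ 4 = 81 by norm_num, hc]
      exact dvd_pow_self _ (by simpa using hm.ne')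
    have h2 := (Nat.prime_dvd_prime_iff_eq hp' Nat.prime_three).1 (hp'.dvd_of_dvd_pow h1)
    exact h2 ▸ ringChar.charP F
  have hchk : CharP KK 3 := charP_of_injective_algebraMap (algebraMap (ZMod 3) KK).injective 3
  have hodd : Odd (Fintype.card F) := by rw [hcard]; decide
  have hζ := prim40 hcard ι hlam
  have hh1 : φ (SL2Rel.h (-1)) = 1 := (hk _).2 (h_mem_center.2 (by rw [neg_one_sq]))
  have hfin := Cfsg.Agent.H943.SL2Mod.fun_nonneg ι 3 (by norm_num) ι.injective hodd hlam (f40 c) 248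
    (fun b hb he _ => by
      rw [hcard] at hb ⊢
      exact f40_nonneg hc hb he) 248 (chevE8.Idx → KK) (rK φ) (rep_eq_one _ _ hh1)
    (by rw [Module.finrank_fintype_fun_eq_card, Cfsg.Agent.H943.L243.card_idx]) le_rfl
  unfold Cfsg.Agent.H943.SL2Mod.Phi at hfin
  rw [hcard] at hfin
  refine hfin.trans (le_of_eq ?_)
  have h2 : ∀ n : ℕ, ∀ g : ℕ → ℤ, (∀ κ, κ % 2 = 1 → g κ = 0) →
      ∑ κ ∈ Finset.range (2 * n), g κ = ∑ j ∈ Finset.range n, g (2 * j) := by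
    intro n g hg
    induction n with
    | zero => rfl
    | succ n ih =>
      rw [show 2 * (n + 1) = 2 * n + 1 + 1 by ring, Finset.sum_range_succ, Finset.sum_range_succ, ih,
        Finset.sum_range_succ, hg (2 * n + 1) (by omega), add_zero]
  rw [show (81 - 1 : ℕ) = 2 * 40 by norm_num, h2 40 _ fun κ hκ => by
    show f40 c κ * _ = 0
    unfold f40
    rw [if_pos hκ, zero_mul]]
  refine Finset.sum_congr rfl fun j hj => ?_
  have hlt := Finset.mem_range.1 hj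
  have h3 : f40 c (2 * j) = (tab40 c).getD j 0 := by
    unfold f40
    rw [if_neg (by omega), Nat.mul_div_cancel_left _ (by norm_num)]
  rw [h3]
  congr 1
  have h4 := h.dims hζ (j : ZMod 40)
  rw [ZMod.val_natCast, Nat.mod_eq_of_lt hlt] at h4
  have h5 : ((j : ZMod 40) = 0) ↔ j = 0 := by
    rw [ZMod.natCast_eq_zero_iff]
    constructor
    · intro h4
      exact Nat.eq_zero_of_dvd_of_lt h4 hlt
    · rintro rfl
      exact dvd_zero _
  simp only [h5] at h4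
  have h6 : Module.finrank KK (eig (rK φ) (SL2Rel.h lam) (ι lam ^ (2 * j))) =
      (if j = 0 then 8 else 0) + (ms chevE8 8 v).count (j : ZMod 40) := by
    rw [← h4, ← pow_mul]
    rfl
  rw [h6]
  push_cast
  rfl

end

/-- the sum of a functional -/
def S40 (c : ℕ) (n : ℕ → ℕ) : ℤ := ∑ j ∈ Finset.range 40, (tab40 c).getD j 0 * ((if j = 0 then 8 else 0 : ℤ) + (n j : ℤ))

section Lin

variable {n : ℕ → ℕ}
    (e1 : n 3 = n 1) (e2 : n 9 = n 3) (e3 : n 27 = n 9) (e4 : n 6 = n 2) (e5 : n 18 = n 6) (e6 : n 14 = n 18)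
    (e7 : n 21 = n 7) (e8 : n 23 = n 21) (e9 : n 29 = n 23) (e10 : n 12 = n 4) (e11 : n 36 = n 12) (e12 : n 28
    = n 36) (e13 : n 15 = n 5) (e14 : n 24 = n 8) (e15 : n 32 = n 24) (e16 : n 16 = n 32) (e17 : n 30 = n 10)
    (e18 : n 39 = n 1) (e19 : n 37 = n 3) (e20 : n 31 = n 9) (e21 : n 13 = n 27) (e22 : n 38 = n 2) (e23 : n
    34 = n 6) (e24 : n 22 = n 18) (e25 : n 26 = n 14) (e26 : n 33 = n 7) (e27 : n 19 = n 21) (e28 : n 17 = n
    23) (e29 : n 11 = n 29) (e30 : n 35 = n 5) (e31 : n 25 = n 15)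

include e1 e2 e3 e4 e5 e6 e7 e8 e9 e10 e11 e12 e13 e14 e15 e16 e17 e18 e19 e20 e21 e22 e23 e24 e25 e26 e27 e28 e29 e30 e31

theorem S40_0 : S40 0 n = 16 * n 7 - 8 * n 20 := by
  simp only [S40, tab40, Finset.sum_range_succ, Finset.sum_range_zero, List.getD_cons_succ, List.getD_cons_zero,
    OfNat.ofNat_ne_zero, one_ne_zero, if_true, if_false]
  (clear * - e7 e8 e9 e26 e27 e28 e29; solve | lia | omega)

theorem S40_1 : S40 1 n = 32 * n 8 - 16 * n 10 - 8 * n 20 := by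
  simp only [S40, tab40, Finset.sum_range_succ, Finset.sum_range_zero, List.getD_cons_succ, List.getD_cons_zero,
    OfNat.ofNat_ne_zero, one_ne_zero, if_true, if_false]
  (clear * - e14 e15 e16 e17; solve | lia | omega)

theorem S40_2 : S40 2 n = 8 * (8 * n 2 - 4 * n 4 + 4 * n 5 + 32 * n 7 - 20 * n 8 + 10 * n 10 - 11 * n 20) := by
  simp only [S40, tab40, Finset.sum_range_succ, Finset.sum_range_zero, List.getD_cons_succ, List.getD_cons_zero,
    OfNat.ofNat_ne_zero, one_ne_zero, if_true, if_false]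
  (clear * - e4 e5 e6 e7 e8 e9 e10 e11 e12 e13 e14 e15 e16 e17 e22 e23 e24 e25 e26 e27 e28 e29 e30 e31; solve | lia | omega)

theorem S40_3 : S40 3 n = 8 * (8 * n 1 - 8 * n 2 - 4 * n 4 + 4 * n 5 + 8 * n 7 - 4 * n 8 - 2 * n 10 - n 20) := by
  simp only [S40, tab40, Finset.sum_range_succ, Finset.sum_range_zero, List.getD_cons_succ, List.getD_cons_zero,
    OfNat.ofNat_ne_zero, one_ne_zero, if_true, if_false]
  (solve | lia | omega)

theorem S40_4 : S40 4 n = 8 * (2 * n 2 - n 4 + n 5 - 4 * n 7 + n 8 + n 10 + n 20) := by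
  simp only [S40, tab40, Finset.sum_range_succ, Finset.sum_range_zero, List.getD_cons_succ, List.getD_cons_zero,
    OfNat.ofNat_ne_zero, one_ne_zero, if_true, if_false]
  (clear * - e4 e5 e6 e7 e8 e9 e10 e11 e12 e13 e14 e15 e16 e17 e22 e23 e24 e25 e26 e27 e28 e29 e30 e31; solve | lia | omega)

end Lin

theorem vecL_zero : vecL 40 [0, 0, 0, 0, 0, 0, 0, 0] = 0 := by decide

theorem mem_final {Y : List ℕ} (h : Y ∈ En.list40) (h0 : Y ≠ [0, 0, 0, 0, 0, 0, 0, 0]) :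
    Y ∈ [Y1, Y2, Y3, Y4, Y5, [1, 2, 2, 1, 1, 1, 1, 1], Y7] := by
  unfold En.list40 at h
  rcases List.mem_cons.1 h with h | h
  · exact absurd h h0
  revert h
  have key : ∀ Z ∈ ([[1,2,2,1,1,1,1,1],[3,0,0,0,0,1,1,7],[7,0,0,0,0,1,2,6],[3,0,0,3,1,0,1,0],
    [5,0,0,1,0,2,0,1],[3,1,1,1,1,1,1,1],[1,1,1,1,1,3,1,2]] : List (List ℕ)),
    Z ∈ [Y1, Y2, Y3, Y4, Y5, [1, 2, 2, 1, 1, 1, 1, 1], Y7] := by decide
  exact key Y

/-- **the classes of the elements of order 40** -/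
theorem classes (F : Type) [Field F] [Fintype F] (hcard : Fintype.card F = 81) (ι : F →+* KK)
    (φ : _root_.Matrix.SpecialLinearGroup (Fin 2) F →* G8)
    (hk : ∀ g, φ g = 1 ↔ g ∈ Subgroup.center (_root_.Matrix.SpecialLinearGroup (Fin 2) F))
    (lam : Fˣ) (hlam : ∀ x, x ∈ Subgroup.zpowers lam) :
    ∃ Y ∈ [Y1, Y2, Y3, Y4, Y5, [1, 2, 2, 1, 1, 1, 1, 1], Y7], TorZ (ι lam ^ 2) (φ (SL2Rel.h lam)) 40 (vecL 40 Y) := by
  have hζ := prim40 hcard ι hlam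
  obtain ⟨hx, hx20⟩ := y_pow φ hk hcard hlam
  obtain ⟨v, hv⟩ := exists_torZ (N := 40) (by norm_num) (by norm_num) hx hζ
  obtain ⟨Y, hl, hθ, hY⟩ := exists_alcZ (by norm_num) hζ v hv
  have hst := stable (by norm_num) (by norm_num) hx hζ hY
  obtain ⟨n, hn⟩ : ∃ n : ℕ → ℕ, ∀ r, n r = (ms chevE8 8 (vecL 40 Y)).count ((r : ℕ) : ZMod 40) := ⟨_, fun r => rfl⟩
  have h3 : Function.Injective fun a : ZMod 40 => 3 * a := by
    intro a b h
    have h1 : (27 : ZMod 40) * (3 * a) = 27 * (3 * b) := congrArg (fun z => 27 * z) h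
    rw [← mul_assoc, ← mul_assoc, show (27 : ZMod 40) * 3 = 1 by decide, one_mul, one_mul] at h1
    exact h1
  have hst' : ∀ c : ZMod 40, (ms chevE8 8 (vecL 40 Y)).count (3 * c) = (ms chevE8 8 (vecL 40 Y)).count c := by
    intro c
    conv_lhs => rw [hst]
    exact Multiset.count_map_eq_count' _ _ h3 c
  have hs : ∀ r r' : ℕ, (3 : ZMod 40) * (r : ZMod 40) = (r' : ZMod 40) → n r' = n r := by
    intro r r' h
    rw [hn, hn, ← h, hst']
  have hneg : ∀ r r' : ℕ, r + r' = 40 → 0 < r → 0 < r' → n r' = n r := by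
    intro r r' h hr hr'
    rw [hn, hn, show vecL 40 Y = H943.E8Tab.vecOf 40 Y from rfl,
      En.count_vec Y hθ hr (by omega), En.count_vec Y hθ hr' (by omega), show 40 - r = r' by omega,
      show 40 - r' = r by omega, add_comm]
  have e1 : n 3 = n 1 := hs 1 3 (by decide)
  have e2 : n 9 = n 3 := hs 3 9 (by decide)
  have e3 : n 27 = n 9 := hs 9 27 (by decide)
  have e4 : n 6 = n 2 := hs 2 6 (by decide)
  have e5 : n 18 = n 6 := hs 6 18 (by decide)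
  have e6 : n 14 = n 18 := hs 18 14 (by decide)
  have e7 : n 21 = n 7 := hs 7 21 (by decide)
  have e8 : n 23 = n 21 := hs 21 23 (by decide)
  have e9 : n 29 = n 23 := hs 23 29 (by decide)
  have e10 : n 12 = n 4 := hs 4 12 (by decide)
  have e11 : n 36 = n 12 := hs 12 36 (by decide)
  have e12 : n 28 = n 36 := hs 36 28 (by decide)
  have e13 : n 15 = n 5 := hs 5 15 (by decide)
  have e14 : n 24 = n 8 := hs 8 24 (by decide)
  have e15 : n 32 = n 24 := hs 24 32 (by decide)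
  have e16 : n 16 = n 32 := hs 32 16 (by decide)
  have e17 : n 30 = n 10 := hs 10 30 (by decide)
  have e18 : n 39 = n 1 := hneg 1 39 (by norm_num) (by norm_num) (by norm_num)
  have e19 : n 37 = n 3 := hneg 3 37 (by norm_num) (by norm_num) (by norm_num)
  have e20 : n 31 = n 9 := hneg 9 31 (by norm_num) (by norm_num) (by norm_num)
  have e21 : n 13 = n 27 := hneg 27 13 (by norm_num) (by norm_num) (by norm_num)
  have e22 : n 38 = n 2 := hneg 2 38 (by norm_num) (by norm_num) (by norm_num)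
  have e23 : n 34 = n 6 := hneg 6 34 (by norm_num) (by norm_num) (by norm_num)
  have e24 : n 22 = n 18 := hneg 18 22 (by norm_num) (by norm_num) (by norm_num)
  have e25 : n 26 = n 14 := hneg 14 26 (by norm_num) (by norm_num) (by norm_num)
  have e26 : n 33 = n 7 := hneg 7 33 (by norm_num) (by norm_num) (by norm_num)
  have e27 : n 19 = n 21 := hneg 21 19 (by norm_num) (by norm_num) (by norm_num)
  have e28 : n 17 = n 23 := hneg 23 17 (by norm_num) (by norm_num) (by norm_num)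
  have e29 : n 11 = n 29 := hneg 29 11 (by norm_num) (by norm_num) (by norm_num)
  have e30 : n 35 = n 5 := hneg 5 35 (by norm_num) (by norm_num) (by norm_num)
  have e31 : n 25 = n 15 := hneg 15 25 (by norm_num) (by norm_num) (by norm_num)
  have f0 : 0 ≤ S40 0 n := by
    have h0 := fun40 hcard ι φ hk hlam hY (c := 0) (by norm_num)
    simp only [← hn] at h0
    exact h0
  have f1 : 0 ≤ S40 1 n := by
    have h0 := fun40 hcard ι φ hk hlam hY (c := 1) (by norm_num)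
    simp only [← hn] at h0
    exact h0
  have f2 : 0 ≤ S40 2 n := by
    have h0 := fun40 hcard ι φ hk hlam hY (c := 2) (by norm_num)
    simp only [← hn] at h0
    exact h0
  have f3 : 0 ≤ S40 3 n := by
    have h0 := fun40 hcard ι φ hk hlam hY (c := 3) (by norm_num)
    simp only [← hn] at h0
    exact h0
  have f4 : 0 ≤ S40 4 n := by
    have h0 := fun40 hcard ι φ hk hlam hY (c := 4) (by norm_num)
    simp only [← hn] at h0
    exact h0
  rw [S40_0 e1 e2 e3 e4 e5 e6 e7 e8 e9 e10 e11 e12 e13 e14 e15 e16 e17 e18 e19 e20 e21 e22 e23 e24 e25 e26 e27 e28 e29 e30 e31] at f0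
  rw [S40_1 e1 e2 e3 e4 e5 e6 e7 e8 e9 e10 e11 e12 e13 e14 e15 e16 e17 e18 e19 e20 e21 e22 e23 e24 e25 e26 e27 e28 e29 e30 e31] at f1
  rw [S40_2 e1 e2 e3 e4 e5 e6 e7 e8 e9 e10 e11 e12 e13 e14 e15 e16 e17 e18 e19 e20 e21 e22 e23 e24 e25 e26 e27 e28 e29 e30 e31] at f2
  rw [S40_3 e1 e2 e3 e4 e5 e6 e7 e8 e9 e10 e11 e12 e13 e14 e15 e16 e17 e18 e19 e20 e21 e22 e23 e24 e25 e26 e27 e28 e29 e30 e31] at f3
  rw [S40_4 e1 e2 e3 e4 e5 e6 e7 e8 e9 e10 e11 e12 e13 e14 e15 e16 e17 e18 e19 e20 e21 e22 e23 e24 e25 e26 e27 e28 e29 e30 e31] at f4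
  have hmem : Y ∈ En.list40 := by
    refine En.enum40 hl hθ hst' n hn ?_ ?_ ?_ ?_ ?_
    all_goals clear hl hθ hY hst hst' hn hs hneg
    all_goals (clear * - f0 f1 f2 f3 f4; solve | lia | omega)
  have hne : Y ≠ [0, 0, 0, 0, 0, 0, 0, 0] := by
    intro h0
    refine hx20 ?_
    have h1 : φ (SL2Rel.h lam) = 1 := eq_one_of_zero hY (by
      rw [h0]
      exact vecL_zero)
    rw [h1, one_pow]
  refine ⟨Y, ?_, hY⟩
  exact mem_final hmem hne

end Cfsg.Agent.H943.ClassA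
end

-- part: H943/No6
section
/-!
# No element of order 41 of `E8(3)` has all nontrivial eigenvalues with multiplicity 6 (helper943, S5921)

There are two vectors modulo 41 with these multiplicities, invariant under multiplication with 3; they are not conjugate
to their multiples by 3: the number of pairs of roots with value `c` whose sum is a root is different for `c` and `3 c`.
-/

set_option autoImplicit false
set_option maxRecDepth 100000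

namespace Cfsg.Agent.H943.No6

open Cfsg.Lie Cfsg.Agent.ChevalleyStructure Cfsg.Agent.H944.RootVals Cfsg.Agent.ChevalleyStructure.RootVecTab
  Cfsg.Agent.Nodes.RGDChev Cfsg.Agent.H944.Tab Cfsg.Agent.H944.Kac
open Cfsg.Agent.Tits.Roots Cfsg.Agent.ChevalleyStructure.CoxeterGeom
  Cfsg.Agent.ChevalleyStructure.CoxeterGeomTypes
open Cfsg.Agent.H942.E8Tab (e8T)
open Cfsg.Agent.H942.E8Alc Cfsg.Agent.H943.TorZ Cfsg.Agent.H943.WConj
open Cfsg.Agent.H525.E8L (KK GK G8 TorZ)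

/-- the values of the roots -/
def sv (Y : List ℕ) (s : Fin chevE8.nroots) : ℤ := (∑ i : Fin 8, vec chevE8 8 s i * (Y.getD i 0 : ℤ)) % 41

/-- the roots with a given value -/
def V (Y : List ℕ) (c : ℤ) : Finset (Fin chevE8.nroots) := Finset.univ.filter fun s => sv Y s = c

/-- the pairs of roots with a given value whose sum is a root -/
def P (Y : List ℕ) (c : ℤ) : Finset (Fin chevE8.nroots × Fin chevE8.nroots) :=
  (V Y c ×ˢ V Y c).filter fun p => ∃ q : Fin chevE8.nroots, ∀ i : Fin 8,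
    vec chevE8 8 p.1 i + vec chevE8 8 p.2 i = vec chevE8 8 q i

theorem lq_iff {n : ℕ} {f : ℕ → Bool} : En.lq n f = true ↔ ∀ i ≤ n, f i = true := by
  refine ⟨En.lq_spec, fun h => ?_⟩
  induction n with
  | zero => exact h 0 le_rfl
  | succ n ih =>
    show (Bool.rec false (En.lq n f) (f (Nat.succ n)) : Bool) = true
    rw [h (Nat.succ n) le_rfl]
    exact ih fun i hi => h i (Nat.le_succ_of_le hi)

/-- the sum of two roots is a root -/
def smB (a b : ℕ) : Bool := En.lq 239 fun q => Bool.rec true false (En.lq 7 fun j =>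
  Nat.beq (Nat.add (dig (code chevE8 a) j) (dig (code chevE8 b) j)) (Nat.add (dig (code chevE8 q) j) 8))

theorem vec_dig (a : Fin chevE8.nroots) (i : Fin 8) : vec chevE8 8 a i = (dig (code chevE8 a) (7 - i) : ℤ) - 8 :=
  if_pos ⟨a.2, i.2⟩

theorem smB_iff (a b : Fin chevE8.nroots) : (∃ q : Fin chevE8.nroots, ∀ i : Fin 8,
    vec chevE8 8 a i + vec chevE8 8 b i = vec chevE8 8 q i) ↔ smB a b = false := by
  have key : ∀ q : Fin chevE8.nroots, (∀ i : Fin 8, vec chevE8 8 a i + vec chevE8 8 b i = vec chevE8 8 q i) ↔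
      (En.lq 7 fun j => Nat.beq (Nat.add (dig (code chevE8 a) j) (dig (code chevE8 b) j))
        (Nat.add (dig (code chevE8 q) j) 8)) = true := by
    intro q
    rw [lq_iff]
    simp only [vec_dig, Nat.beq_eq, Nat.add_eq]
    constructor
    · intro h j hj
      have h1 := h ⟨7 - j, by omega⟩
      rw [show 7 - ((⟨7 - j, by omega⟩ : Fin 8) : ℕ) = j from by show 7 - (7 - j) = j; omega] at h1
      omega
    · intro h i
      have h1 := h (7 - i) (by omega)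
      omega
  rw [← Bool.not_eq_true, smB, lq_iff]
  constructor
  · rintro ⟨q, hq⟩ h
    have h1 := h q (Nat.le_of_lt_succ q.2)
    rw [(key q).1 hq] at h1
    exact Bool.noConfusion h1
  · intro h
    by_contra h1
    refine h fun q hq => ?_
    have h2 := fun e => h1 ⟨⟨q, Nat.lt_succ_of_le hq⟩, (key ⟨q, Nat.lt_succ_of_le hq⟩).2 e⟩
    rw [Bool.eq_false_iff.2 h2]

theorem P_eq (Y : List ℕ) (c : ℤ) : P Y c = (V Y c ×ˢ V Y c).filter fun p => smB p.1 p.2 = false :=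
  Finset.filter_congr fun p _ => smB_iff p.1 p.2

private noncomputable def _root_.Cfsg.Agent.LsF.f0302e2_13 : {f // @Cfsg.Agent.ChevalleyStructure.RootVecTab.dig = f} := ⟨_, by first | (delta Cfsg.Agent.ChevalleyStructure.RootVecTab.dig; rewrite [Cfsg.Agent.LsF.nmul_pat]; exact rfl) | exact rfl⟩
private noncomputable def _root_.Cfsg.Agent.LsF.f0302e2_14 : {f // @Cfsg.Agent.ChevalleyStructure.RootVecTab.packTab = f} := ⟨_, by first | (delta Cfsg.Agent.ChevalleyStructure.RootVecTab.packTab; rewrite [Cfsg.Agent.LsF.instDecEq_eq, Cfsg.Agent.LsF.ite_eq]; exact rfl) | exact rfl⟩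
private noncomputable def _root_.Cfsg.Agent.LsF.f0302e2_15 : {f // @Cfsg.Agent.ChevalleyStructure.RootVecTab.code = f} := ⟨_, by first | (delta Cfsg.Agent.ChevalleyStructure.RootVecTab.code; rewrite [Cfsg.Agent.LsF.f0302e2_14.2, Cfsg.Agent.LsF.nmul_pat, Cfsg.Agent.LsF.npow_pat]; exact rfl) | exact rfl⟩
private noncomputable def _root_.Cfsg.Agent.LsF.f0302e2_16 : {f // @Cfsg.Agent.H943.No6.smB = f} := ⟨_, by first | (delta Cfsg.Agent.H943.No6.smB; rewrite [Cfsg.Agent.LsF.f0302e2_13.2, Cfsg.Agent.LsF.f0302e2_15.2]; exact rfl) | exact rfl⟩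
private noncomputable def _root_.Cfsg.Agent.LsF.f0302e2_17 : {f // @Cfsg.Agent.ChevalleyStructure.RootVec.rt = f} := ⟨_, by first | (delta Cfsg.Agent.ChevalleyStructure.RootVec.rt; rewrite [Cfsg.Agent.LsF.f0302e2_13.2, Cfsg.Agent.LsF.f0302e2_15.2, Cfsg.Agent.LsF.nsub_pat, Cfsg.Agent.LsF.isub_pat, Cfsg.Agent.LsF.icast_pat, Cfsg.Agent.LsF.decLt_eq, Cfsg.Agent.LsF.dAnd_eq, Cfsg.Agent.LsF.ite_eq]; exact rfl) | exact rfl⟩
private noncomputable def _root_.Cfsg.Agent.LsF.f0302e2_18 : {f // @Cfsg.Agent.Nodes.RGDChev.vec = f} := ⟨_, by first | (delta Cfsg.Agent.Nodes.RGDChev.vec; rewrite [Cfsg.Agent.LsF.f0302e2_17.2]; exact rfl) | exact rfl⟩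
private noncomputable def _root_.Cfsg.Agent.LsF.f0302e2_19 : {f // @Cfsg.Agent.H943.No6.sv = f} := ⟨_, by first | (delta Cfsg.Agent.H943.No6.sv; rewrite [Cfsg.Agent.LsF.sumF_pat, Cfsg.Agent.LsF.f0302e2_18.2, Cfsg.Agent.LsF.iadd_pat, Cfsg.Agent.LsF.imul_pat, Cfsg.Agent.LsF.imod_pat, Cfsg.Agent.LsF.icast_pat, Cfsg.Agent.LsF.iACM_eq, Cfsg.Agent.LsF.getD_eq]; exact rfl) | exact rfl⟩
private noncomputable def _root_.Cfsg.Agent.LsF.f0302e2_20 : {f // @Cfsg.Agent.H943.No6.V = f} := ⟨_, by first | (delta Cfsg.Agent.H943.No6.V; rewrite [Cfsg.Agent.LsF.f0302e2_19.2, Cfsg.Agent.LsF.finFintype_eq, Cfsg.Agent.LsF.ffilter_eq, Cfsg.Agent.LsF.instIDecEq_eq]; exact rfl) | exact rfl⟩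
theorem card_A1 : (P [3,2,1,1,1,1,1,1] 1).card = 10 := by rw [P_eq]; (refine of_decide_eq_true ?_; (try (rewrite [Cfsg.Agent.LsF.f0302e2_16.2, Cfsg.Agent.LsF.f0302e2_20.2, Cfsg.Agent.LsF.fcard_eq, Cfsg.Agent.LsF.ffilter_eq, Cfsg.Agent.LsF.instDecEq_eq, Cfsg.Agent.LsF.dBoolEq_eq, Cfsg.Agent.LsF.decide_eq])); decide +kernel)
theorem card_A3 : (P [3,2,1,1,1,1,1,1] 3).card = 8 := by rw [P_eq]; (refine of_decide_eq_true ?_; (try (rewrite [Cfsg.Agent.LsF.f0302e2_16.2, Cfsg.Agent.LsF.f0302e2_20.2, Cfsg.Agent.LsF.fcard_eq, Cfsg.Agent.LsF.ffilter_eq, Cfsg.Agent.LsF.instDecEq_eq, Cfsg.Agent.LsF.dBoolEq_eq, Cfsg.Agent.LsF.decide_eq])); decide +kernel)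
theorem card_B3 : (P [2,1,1,1,1,1,2,4] 3).card = 10 := by rw [P_eq]; (refine of_decide_eq_true ?_; (try (rewrite [Cfsg.Agent.LsF.f0302e2_16.2, Cfsg.Agent.LsF.f0302e2_20.2, Cfsg.Agent.LsF.fcard_eq, Cfsg.Agent.LsF.ffilter_eq, Cfsg.Agent.LsF.instDecEq_eq, Cfsg.Agent.LsF.dBoolEq_eq, Cfsg.Agent.LsF.decide_eq])); decide +kernel)
theorem card_B9 : (P [2,1,1,1,1,1,2,4] 9).card = 8 := by rw [P_eq]; (refine of_decide_eq_true ?_; (try (rewrite [Cfsg.Agent.LsF.f0302e2_16.2, Cfsg.Agent.LsF.f0302e2_20.2, Cfsg.Agent.LsF.fcard_eq, Cfsg.Agent.LsF.ffilter_eq, Cfsg.Agent.LsF.instDecEq_eq, Cfsg.Agent.LsF.dBoolEq_eq, Cfsg.Agent.LsF.decide_eq])); decide +kernel)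

theorem rv_eq (Y : List ℕ) (s : Fin chevE8.nroots) : rv chevE8 8 (vecL 41 Y) s = ((sv Y s : ℤ) : ZMod 41) := by
  unfold sv rv vecL
  have h1 := ZMod.intCast_mod (∑ i : Fin 8, vec chevE8 8 s i * (Y.getD i 0 : ℤ)) 41
  rw [show ((41 : ℕ) : ℤ) = 41 from rfl] at h1
  rw [h1]
  push_cast
  rfl

theorem sv_eq_iff (Y : List ℕ) (s : Fin chevE8.nroots) {c : ℤ} (hc0 : 0 ≤ c) (hc : c < 41) :
    sv Y s = c ↔ rv chevE8 8 (vecL 41 Y) s = (c : ZMod 41) := by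
  rw [rv_eq, ZMod.intCast_eq_intCast_iff_dvd_sub]
  have h1 : 0 ≤ sv Y s := Int.emod_nonneg _ (by norm_num)
  have h2 : sv Y s < 41 := Int.emod_lt_of_pos _ (by norm_num)
  constructor
  · intro h
    rw [h, sub_self]
    exact dvd_zero _
  · rintro ⟨m, hm⟩
    have h3 : ((41 : ℕ) : ℤ) = 41 := rfl
    rw [h3] at hm
    omega

theorem P_le {Y : List ℕ} {w : CoxeterMatrix.E₈.Group} (hw : ∀ s s' : Fin chevE8.nroots,
    vec chevE8 8 s' = rep cs8 e8T.isCartan w (vec chevE8 8 s) →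
      rv chevE8 8 (vecL 41 Y) s' = 3 * rv chevE8 8 (vecL 41 Y) s) {c : ℤ} (hc0 : 0 ≤ c) (hc : 3 * c < 41) :
    (P Y c).card ≤ (P Y (3 * c)).card := by
  have h1 : ∀ s : Fin chevE8.nroots, ∃ s' : Fin chevE8.nroots,
      vec chevE8 8 s' = rep cs8 e8T.isCartan w (vec chevE8 8 s) := by
    intro s
    obtain ⟨r, hr, e⟩ := (isRoot_iff e8T cs8 _).1 ((isRoot_vec e8T cs8 s.2).act w)
    exact ⟨⟨r, hr⟩, e⟩
  choose π hπ using h1
  have hV : ∀ s, s ∈ V Y c → π s ∈ V Y (3 * c) := by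
    intro s hs
    unfold V at hs ⊢
    rw [Finset.mem_filter] at hs ⊢
    refine ⟨Finset.mem_univ _, ?_⟩
    rw [sv_eq_iff Y _ (by omega) hc, hw _ _ (hπ s), (sv_eq_iff Y s hc0 (by omega)).1 hs.2]
    push_cast
    rfl
  have hinj : Function.Injective π := by
    intro s s' h
    have h2 : rep cs8 e8T.isCartan w (vec chevE8 8 s) = rep cs8 e8T.isCartan w (vec chevE8 8 s') := by
      rw [← hπ, ← hπ, h]
    have h3 := congrArg (rep cs8 e8T.isCartan w⁻¹) h2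
    rw [← rep_mul_apply, ← rep_mul_apply, inv_mul_cancel, map_one, Module.End.one_apply, Module.End.one_apply] at h3
    exact Fin.ext (vec_inj e8T s.2 s'.2 h3)
  refine Finset.card_le_card_of_injOn (fun p => (π p.1, π p.2)) ?_ ?_
  · intro p hp
    rw [Finset.mem_coe] at hp ⊢
    unfold P at hp ⊢
    rw [Finset.mem_filter, Finset.mem_product] at hp ⊢
    obtain ⟨⟨h2, h3⟩, q, hq⟩ := hp
    refine ⟨⟨hV _ h2, hV _ h3⟩, π q, fun i => ?_⟩
    have h4 : vec chevE8 8 p.1 + vec chevE8 8 p.2 = vec chevE8 8 q := funext hq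
    show vec chevE8 8 (π p.1) i + vec chevE8 8 (π p.2) i = _
    rw [hπ, hπ, hπ, ← h4, map_add]
    rfl
  · intro p _ p' _ h
    have h2 := congrArg Prod.fst h
    have h3 := congrArg Prod.snd h
    exact Prod.ext (hinj h2) (hinj h3)

private noncomputable def _root_.Cfsg.Agent.LsF.f0302e2_21 : {f // @Cfsg.Agent.H944.Tab.dotN = f} := ⟨_, by first | (delta Cfsg.Agent.H944.Tab.dotN List.brecOn List.brecOn.go Cfsg.Agent.H944.Tab.dotN._f; rewrite [Cfsg.Agent.LsF.nadd_pat, Cfsg.Agent.LsF.nmul_pat]; (try delta Cfsg.Agent.H944.Tab.dotN.match_1); (try delta Cfsg.Agent.H944.Tab.dotN._sparseCasesOn_1); first | dsimp -zeta only | exact rfl) | exact rfl⟩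
private noncomputable def _root_.Cfsg.Agent.LsF.f0302e2_22 : {f // @Cfsg.Agent.H943.En.pv = f} := ⟨_, by first | (delta Cfsg.Agent.H943.En.pv; rewrite [Cfsg.Agent.LsF.f0302e2_21.2, Cfsg.Agent.LsF.map_eq]; exact rfl) | exact rfl⟩
theorem flat41 : ∀ Y ∈ En41.list41, (En.pv Y).count 1 + (En.pv Y).count 40 = 6 →
    (En.pv Y).count 2 + (En.pv Y).count 39 = 6 → (En.pv Y).count 4 + (En.pv Y).count 37 = 6 →
    (En.pv Y).count 7 + (En.pv Y).count 34 = 6 → (En.pv Y).count 8 + (En.pv Y).count 33 = 6 →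
    Y = [3,2,1,1,1,1,1,1] ∨ Y = [2,1,1,1,1,1,2,4] := by (refine of_decide_eq_true ?_; (try (rewrite [Cfsg.Agent.LsF.f0302e2_22.2, Cfsg.Agent.LsF.nadd_pat, Cfsg.Agent.LsF.instNBEq_pat, Cfsg.Agent.LsF.instDecEq_eq, Cfsg.Agent.LsF.count_eq, Cfsg.Agent.LsF.dOr_eq, Cfsg.Agent.LsF.dBAll_eq, Cfsg.Agent.LsF.dListEq_eq, Cfsg.Agent.LsF.dAllP_eq, Cfsg.Agent.LsF.decide_eq])); decide +kernel)

/-- **no such element of order 41** -/
theorem no6 {η : KK} (hη : IsPrimitiveRoot η 41) {x : G8} (hx : x ^ 41 = 1) {v : Fin 8 → ZMod 41} (h : TorZ η x 41 v)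
    (h6 : ∀ κ : ZMod 41, κ ≠ 0 → (ms chevE8 8 v).count κ = 6) : False := by
  obtain ⟨Y, hl, hθ, hY⟩ := exists_alcZ (by norm_num) hη v h
  have hst := ClassA.stable (by norm_num) (by norm_num) hx hη hY
  have hc : ∀ κ : ZMod 41, κ ≠ 0 → (ms chevE8 8 (vecL 41 Y)).count κ = 6 := by
    intro κ hκ
    have h1 := Cfsg.Agent.H525.E8L.TorZ.dims hη h κ
    have h2 := Cfsg.Agent.H525.E8L.TorZ.dims hη hY κ
    rw [h1, if_neg hκ, zero_add, zero_add, h6 κ hκ] at h2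
    exact h2.symm
  have h3 : Function.Injective fun a : ZMod 41 => 3 * a := by
    intro a b h
    have h1 : (14 : ZMod 41) * (3 * a) = 14 * (3 * b) := congrArg (fun z => 14 * z) h
    rw [← mul_assoc, ← mul_assoc, show (14 : ZMod 41) * 3 = 1 by decide, one_mul, one_mul] at h1
    exact h1
  have hst' : ∀ c : ZMod 41, (ms chevE8 8 (vecL 41 Y)).count (3 * c) = (ms chevE8 8 (vecL 41 Y)).count c := by
    intro c
    conv_lhs => rw [hst]
    exact Multiset.count_map_eq_count' _ _ h3 c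
  have hmem := En41.enum41 hl hθ hst'
  have hcc : ∀ r : ℕ, 0 < r → r < 41 → ((r : ℕ) : ZMod 41) ≠ 0 → (En.pv Y).count r + (En.pv Y).count (41 - r) = 6 := by
    intro r hr hr' hr0
    rw [← hc _ hr0]
    exact (En.count_vec Y hθ hr hr').symm
  have hAB := flat41 Y hmem (hcc 1 (by norm_num) (by norm_num) (by decide)) (hcc 2 (by norm_num) (by norm_num) (by decide))
    (hcc 4 (by norm_num) (by norm_num) (by decide)) (hcc 7 (by norm_num) (by norm_num) (by decide))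
    (hcc 8 (by norm_num) (by norm_num) (by decide))
  obtain ⟨w, hw⟩ := exists_w (by norm_num) (by norm_num) hη hx hY
  rcases hAB with rfl | rfl
  · have h7 := P_le hw (c := 1) (by norm_num) (by norm_num)
    rw [mul_one, card_A1, card_A3] at h7
    omega
  · have h7 := P_le hw (c := 3) (by norm_num) (by norm_num)
    rw [show (3 : ℤ) * 3 = 9 by norm_num, card_B3, card_B9] at h7
    omega

end Cfsg.Agent.H943.No6
end

private theorem dce_0dca729a830a : _root_.True := by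
  try have : _root_.True := by simp only [_root_.Cfsg.Agent.H378.TorChar.tchar.congr_simp]
  try have : _root_.True := by simp only [_root_.Cfsg.Agent.H943.En.mon._sparseCasesOn_1.else_eq]
  try have : _root_.True := by simp only [_root_.Cfsg.Agent.H943.En.mon.eq_1]
  try have : _root_.True := by simp only [_root_.Cfsg.Agent.H943.En.mon.eq_2]
  try have : _root_.True := by simp only [_root_.Cfsg.Agent.H943.ClassA.tab40.eq_3]
  try have : _root_.True := by simp only [_root_.Cfsg.Agent.H943.ClassA.tab40.eq_5]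
  try have : _root_.True := by simp only [_root_.Cfsg.Agent.H943.E8Tab.R8.eq_1]
  try have : _root_.True := by simp only [_root_.Cfsg.Agent.H943.ClassA.tab40.eq_4]
  try have : _root_.True := by simp only [_root_.Cfsg.Agent.H943.ClassA.S40.eq_1]
  try have : _root_.True := by simp only [_root_.Cfsg.Agent.H943.En.mon.eq_def]
  try have : _root_.True := by simp only [_root_.Cfsg.Agent.H943.ClassA.tab40.eq_2]
  try have : _root_.True := by simp only [_root_.Cfsg.Agent.H943.ClassA.tab40.eq_1]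
  exact _root_.True.intro
end

-- part: H288/E8L/Frob
section
prune_inst 0x2000400000000000000000100000000000000000000000000001000000000000000100080010000008000000040040001000200000000000000000000000000800000400000000000000000000000000000000000000000000000000000004000000000
set_option linter.all false
open scoped Cfsg.Agent.FastGrp

-- part: H288/E8L/Stab
section
/-!
# Frobenius stability of the indecomposable displacements, the highest weight argument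
-/

set_option autoImplicit false
set_option linter.unusedSectionVars false
set_option maxRecDepth 100000

namespace Cfsg.Agent.H288.E8L

open CoxeterSystem Cfsg Cfsg.Lie Cfsg.Lie.ChevalleyDatum
open Cfsg.Agent.ChevalleyStructure Cfsg.Agent.ChevalleyStructure.Elts Cfsg.Agent.ChevalleyStructure.CoxeterGeom
  Cfsg.Agent.ChevalleyStructure.CoxeterGeomTypes Cfsg.Agent.ChevalleyStructure.RootVec
  Cfsg.Agent.ChevalleyStructure.RootVecTab
open Cfsg.Agent.ChevalleyStructure.Ring Cfsg.Agent.ChevalleyStructure.LieAut Cfsg.Agent.ChevalleyStructure.LieAbs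
  Cfsg.Agent.ChevalleyStructure.JacMain
open Cfsg.Agent.Tits.Roots Cfsg.Agent.Tits.Core Cfsg.Agent.Nodes Cfsg.Agent.Nodes.Reps Cfsg.Agent.Nodes.BNOf
  Cfsg.Agent.Nodes.RGDChev
open Cfsg.Agent.GpExc.Field Cfsg.Agent.BpExc.TowChev Cfsg.Agent.H129.TorusChar
open Cfsg.Agent.KFacts.RgdChevCoord
open Cfsg.Agent.H942.E8Tab Cfsg.Agent.H942.E8Alc Cfsg.Agent.H942.CB Cfsg.Agent.H944.Tab Cfsg.Agent.H944.Kac
open Matrix

/-! ### three factors -/

theorem exists_of_mul3 {A B C : Matrix chevE8.Idx chevE8.Idx K8} {i j : chevE8.Idx} (h : (A * B * C) i j ≠ 0) :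
    ∃ p q, A i p ≠ 0 ∧ B p q ≠ 0 ∧ C q j ≠ 0 := by
  rw [Matrix.mul_apply] at h
  obtain ⟨q, -, hq⟩ := Finset.exists_ne_zero_of_sum_ne_zero h
  have h1 := left_ne_zero_of_mul hq
  rw [Matrix.mul_apply] at h1
  obtain ⟨p, -, hp⟩ := Finset.exists_ne_zero_of_sum_ne_zero h1
  exact ⟨p, q, left_ne_zero_of_mul hp, right_ne_zero_of_mul hp, right_ne_zero_of_mul hq⟩

theorem act8_inv (w : W8) (x : Q8) : act8 w (act8 w⁻¹ x) = x := rep_apply_inv _ _ _ _

theorem act8_inv' (w : W8) (x : Q8) : act8 w⁻¹ (act8 w x) = x := rep_inv_apply _ _ _ _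

/-- the entries of the Frobenius image -/
theorem mx_frb (g : GK) (i j : chevE8.Idx) : mx (frb8 g) i j = mx g i j ^ 3 := by
  show (((emb e8T.inList (frobenius K8 3) g : GK) : GL chevE8.Idx K8) : Matrix chevE8.Idx chevE8.Idx K8) i j = _
  rw [coe_emb, coe_glMap, Matrix.map_apply]
  rfl

section U

variable {W : Subgroup GK}

theorem pp_stable (hWT : WTS) {w : W8} {n : GK} (hn : Rep w n) (hfr : ∀ g ∈ W, frb8 g = n⁻¹ * g * n) (μ : Q8) :
    μ ∈ PP W ↔ act8 w μ ∈ PP W := by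
  have hn' : Rep w⁻¹ n⁻¹ := hn.inv
  constructor
  · rintro ⟨h0, g, hg, i, j, hij, hne⟩
    have h1 : mx (n⁻¹ * g * n) i j ≠ 0 := by
      rw [← hfr g hg, mx_frb]
      exact pow_ne_zero _ hne
    obtain ⟨p, q, hp, hpq, hq⟩ := exists_of_mul3 (A := mx n⁻¹) (B := mx g) (C := mx n) h1
    have h2 := hWT _ _ hn' i p hp
    have h3 := hWT _ _ hn q j hq
    have h4 : wt p = act8 w (wt i) := by rw [h2, act8_inv]
    refine ⟨fun e => h0 ?_, g, hg, p, q, ?_, hpq⟩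
    · rw [← act8_inv' w μ, e]; exact map_zero _
    · rw [h4, h3, hij]; exact map_add _ _ _
  · rintro ⟨h0, g, hg, p, q, hpq, hne⟩
    have e1 : mx g = mx n * mx (frb8 g) * mx n⁻¹ := by
      rw [hfr g hg, ← mx_mul, ← mx_mul]
      congr 2
      group
    rw [e1] at hne
    obtain ⟨i, j, hi, hij, hj⟩ := exists_of_mul3 hne
    have h2 := hWT _ _ hn p i hi
    have h3 := hWT _ _ hn' j q hj
    have h4 : wt q = act8 w (wt j) := by rw [h3, act8_inv]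
    refine ⟨fun e => h0 ?_, g, hg, i, j, ?_, ?_⟩
    · rw [e]; exact map_zero _
    · have h5 : act8 w (wt i) = act8 w (wt j + μ) := by
        rw [← h2, hpq, h4]; exact (map_add _ _ _).symm
      rw [← act8_inv' w (wt i), h5, act8_inv']
    · rw [mx_frb] at hij
      exact fun e => hij (by rw [e]; exact zero_pow (by norm_num))

theorem cl_stable (hWT : WTS) {w : W8} {n : GK} (hn : Rep w n) (hfr : ∀ g ∈ W, frb8 g = n⁻¹ * g * n) (x : Q8) :
    x ∈ CL W ↔ act8 w x ∈ CL W := by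
  constructor
  · intro hx
    unfold CL at hx
    induction hx using AddSubmonoid.closure_induction with
    | mem x hx => exact PP_le ((pp_stable hWT hn hfr x).1 hx)
    | zero => rw [show act8 w 0 = 0 from map_zero _]; exact zero_mem _
    | add x y _ _ hx hy => rw [show act8 w (x + y) = act8 w x + act8 w y from map_add _ _ _]; exact add_mem hx hy
  · intro hx
    have key : ∀ y ∈ CL W, act8 w⁻¹ y ∈ CL W := by
      intro y hy
      unfold CL at hy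
      induction hy using AddSubmonoid.closure_induction with
      | mem y hy =>
        refine PP_le ((pp_stable hWT hn hfr _).2 ?_)
        rwa [act8_inv]
      | zero => rw [show act8 w⁻¹ 0 = 0 from map_zero _]; exact zero_mem _
      | add x y _ _ hx hy =>
        rw [show act8 w⁻¹ (x + y) = act8 w⁻¹ x + act8 w⁻¹ y from map_add _ _ _]
        exact add_mem hx hy
    have := key _ hx
    rwa [act8_inv'] at this

/-- the indecomposable displacements are stable under the Frobenius element of the Weyl group -/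
theorem ind_stable (hWT : WTS) {w : W8} {n : GK} (hn : Rep w n) (hfr : ∀ g ∈ W, frb8 g = n⁻¹ * g * n) (a : Q8) :
    a ∈ Ind W ↔ act8 w a ∈ Ind W := by
  constructor
  · rintro ⟨h1, h2⟩
    refine ⟨(pp_stable hWT hn hfr a).1 h1, fun x hx y hy hx0 hy0 e => ?_⟩
    refine h2 (act8 w⁻¹ x) ?_ (act8 w⁻¹ y) ?_ ?_ ?_ ?_
    · rw [cl_stable hWT hn hfr, act8_inv]; exact hx
    · rw [cl_stable hWT hn hfr, act8_inv]; exact hy
    · intro h; apply hx0; rw [← act8_inv w x, h]; exact map_zero _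
    · intro h; apply hy0; rw [← act8_inv w y, h]; exact map_zero _
    · rw [← act8_inv' w a, e]; exact map_add _ _ _
  · rintro ⟨h1, h2⟩
    refine ⟨(pp_stable hWT hn hfr a).2 h1, fun x hx y hy hx0 hy0 e => ?_⟩
    refine h2 (act8 w x) ((cl_stable hWT hn hfr x).1 hx) (act8 w y) ((cl_stable hWT hn hfr y).1 hy) ?_ ?_ ?_
    · intro h; apply hx0; rw [← act8_inv' w x, h]; exact map_zero _
    · intro h; apply hy0; rw [← act8_inv' w y, h]; exact map_zero _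
    · rw [e]; exact map_add _ _ _

/-- a torus element whose character is trivial on the displacements centralises the group -/
theorem comm_of_char {t : GK} (ht : t ∈ TT chevE8 K8) (h : ∀ μ ∈ PP W, cX e8T t μ = 1) {g : GK} (hg : g ∈ W) :
    t * g = g * t := by
  have h1 : mx (t * g) = mx (g * t) := by
    ext i k
    rw [mx_mul, mx_mul, mx_torus ht, Matrix.diagonal_mul, Matrix.mul_diagonal]
    by_cases h0 : mx g i k = 0
    · rw [h0, mul_zero, zero_mul]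
    · rcases supp_mem hg i k h0 with h2 | h2
      · rw [h2, mul_comm]
      · have h3 := h _ h2
        have h4 : cX e8T t (wt i) = cX e8T t (wt k) := by
          have h5 : wt i = (wt i - wt k) + wt k := by abel
          rw [h5, (isMC_cX e8T ht).add, h3, one_mul]
        rw [h4, mul_comm]
  exact Subtype.ext (Units.ext h1)

end U

end Cfsg.Agent.H288.E8L
end

-- part: H288/E8L/Tab
section
/-!
# Certificates for the sets of indecomposable displacements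
-/

set_option autoImplicit false
set_option linter.unusedSectionVars false
set_option maxRecDepth 100000

namespace Cfsg.Agent.H288.E8L

open CoxeterSystem Cfsg Cfsg.Lie Cfsg.Lie.ChevalleyDatum
open Cfsg.Agent.ChevalleyStructure Cfsg.Agent.ChevalleyStructure.Elts Cfsg.Agent.ChevalleyStructure.CoxeterGeom
  Cfsg.Agent.ChevalleyStructure.CoxeterGeomTypes Cfsg.Agent.ChevalleyStructure.RootVec
  Cfsg.Agent.ChevalleyStructure.RootVecTab
open Cfsg.Agent.Tits.Roots Cfsg.Agent.Tits.Core Cfsg.Agent.Nodes Cfsg.Agent.Nodes.Reps Cfsg.Agent.Nodes.BNOf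
  Cfsg.Agent.Nodes.RGDChev
open Cfsg.Agent.GpExc.Field Cfsg.Agent.BpExc.TowChev Cfsg.Agent.H129.TorusChar
open Cfsg.Agent.KFacts.RgdChevCoord
open Cfsg.Agent.H942.E8Tab Cfsg.Agent.H942.E8Alc Cfsg.Agent.H942.CB Cfsg.Agent.H944.Tab Cfsg.Agent.H944.Kac
open Matrix

/-- the list of a root -/
def vl (s : ℕ) : List ℤ := (List.range 8).map fun i => rt chevE8 s i

theorem toV_vl (s : ℕ) : toV (vl s) = _root_.Cfsg.Agent.Nodes.RGDChev.vec chevE8 8 s := by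
  funext i
  rw [vec_apply]
  unfold toV vl
  rw [List.getD_eq_getElem _ _ (by simp)]
  simp

/-- the data of a case -/
structure Dat where
  /-- the exponents -/
  Y : List ℕ
  /-- the word of the Frobenius twist -/
  w : List ℕ
  /-- the roots with exponent `3 ^ (k % 4)` -/
  ix : List ℕ
  /-- their lists -/
  RV : List (List ℤ)

/-- the roots of a mask -/
def sup (D : Dat) (m : ℕ) : List (List ℤ) :=
  ((List.range 28).filter fun k => m.testBit (k / 4)).map fun k => D.RV.getD k []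

theorem mem_sup {D : Dat} {m : ℕ} {r : List ℤ} : r ∈ sup D m ↔ ∃ k < 28, m.testBit (k / 4) = true ∧ D.RV.getD k [] = r := by
  unfold sup
  simp only [List.mem_map, List.mem_filter, List.mem_range, and_assoc]

/-- scalar product of integer lists -/
def dt (c r : List ℤ) : ℤ := dotI c r

theorem dt_eq (l : ℕ) : ∀ (c r : List ℤ), r.length ≤ l → dotI c r = ∑ i : Fin l, c.getD i 0 * r.getD i 0 := by
  induction l with
  | zero =>
    intro c r hr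
    have : r = [] := List.length_eq_zero_iff.1 (by omega)
    subst this
    rw [dotI]
    · simp
    · simp
  | succ n ih =>
    intro c r hr
    rw [Fin.sum_univ_succ]
    cases r with
    | nil => rw [dotI] <;> simp only [_root_.Fin.coe_ofNat_eq_mod, _root_.Nat.zero_mod, _root_.List.getD_eq_getElem?_getD, _root_.List.length_nil, _root_.lt_self_iff_false, _root_.not_false_eq_true, _root_.getElem?_neg, _root_.Option.getD_none, _root_.MulZeroClass.mul_zero, _root_.Fin.val_succ, _root_.not_lt_zero, _root_.Finset.sum_const_zero, _root_.add_zero, _root_.List.nil_eq, _root_.reduceCtorEq, _root_.imp_self, _root_.implies_true]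
    | cons a as =>
      cases c with
      | nil => rw [dotI] <;> simp only [_root_.Fin.coe_ofNat_eq_mod, _root_.Nat.zero_mod, _root_.List.getD_eq_getElem?_getD, _root_.List.length_nil, _root_.lt_self_iff_false, _root_.not_false_eq_true, _root_.getElem?_neg, _root_.Option.getD_none, _root_.List.length_cons, _root_.lt_add_iff_pos_left, _root_.Order.lt_add_one_iff, _root_.zero_le, _root_.getElem?_pos, _root_.List.getElem_cons_zero, _root_.Option.getD_some, _root_.MulZeroClass.zero_mul, _root_.Fin.val_succ, _root_.not_lt_zero, _root_.List.getElem?_cons_succ, _root_.Finset.sum_const_zero, _root_.add_zero, _root_.List.nil_eq, _root_.reduceCtorEq, _root_.List.cons.injEq, _root_.imp_false, _root_.not_and, _root_.IsEmpty.forall_iff, _root_.implies_true]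
      | cons b bs =>
        rw [dotI, ih bs as (by simpa using hr)]
        simp only [_root_.List.getD_eq_getElem?_getD, _root_.Fin.coe_ofNat_eq_mod, _root_.Nat.zero_mod, _root_.List.length_cons, _root_.lt_add_iff_pos_left, _root_.Order.lt_add_one_iff, _root_.zero_le, _root_.getElem?_pos, _root_.List.getElem_cons_zero, _root_.Option.getD_some, _root_.Fin.val_succ, _root_.List.getElem?_cons_succ]

theorem dt_fz {c r : List ℤ} (hr : r.length ≤ 8) : dt c r = fz c (toV r) := dt_eq 8 c r hr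

/-- the certificates -/
inductive Crt where
  | eps (e : List ℤ)
  | unq (k1 k2 iu : ℕ) (l : List ℤ)
  | hw (ib : ℕ) (l : List ℤ)
  | dep (N : List ℕ)
  | skip

/-- the `i`-th coordinate of a combination -/
def cmb : List ℕ → List (List ℤ) → ℕ → ℤ
  | n :: ns, r :: rs, i => (n : ℤ) * r.getD i 0 + cmb ns rs i
  | _, _, _ => 0

/-- a positive coefficient -/
def anyP : List ℕ → List (List ℤ) → Bool
  | n :: ns, _ :: rs => decide (0 < n) || anyP ns rs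
  | _, _ => false

/-- equality of a sum -/
def eqS (a b c : List ℤ) : Bool := (List.range 8).all fun i => decide (a.getD i 0 + b.getD i 0 = c.getD i 0)

theorem eqS_iff {a b c : List ℤ} : eqS a b c = true ↔ toV a + toV b = toV c := by
  unfold eqS
  rw [List.all_eq_true]
  constructor
  · intro h
    funext i
    exact of_decide_eq_true (h i.val (List.mem_range.2 i.2))
  · intro h i hi
    exact decide_eq_true (congrFun h ⟨i, List.mem_range.1 hi⟩)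

/-- the checks on the pairs -/
def chkP (S : List (List ℤ)) (c l : List ℤ) (ps : List (List ℤ)) : Bool :=
  (S.all fun r => decide (dt l c < 3 * dt l r)) &&
  (S.all fun r => S.all fun s => !(eqS r s c) || ps.contains r)

/-- the checks -/
def chkC (D : Dat) (m : ℕ) : Crt → Bool
  | .eps e => decide (e.length = 8) && ((List.range 8).any fun i => decide (e.getD i 0 % 2 ≠ 0)) &&
      ((List.range 8).all fun i => decide (((actW D.w e).getD i 0 - e.getD i 0) % 2 = 0)) &&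
      ((sup D m).all fun r => decide (dt e r % 2 = 0))
  | .unq k1 k2 iu l => decide (k1 < 28) && decide (k2 < 28) && m.testBit (k1 / 4) && m.testBit (k2 / 4) &&
      decide (k1 % 4 ≠ k2 % 4) && decide (iu < 240) && decide (D.ix.getD k2 0 ≠ D.ix.getD k1 0) &&
      decide (D.ix.getD k2 0 ≠ chevE8.negIdx.getD (D.ix.getD k1 0) 0) &&
      eqS (D.RV.getD k1 []) (D.RV.getD k2 []) (vl iu) &&
      decide (Ncf (D.ix.getD k1 0) (D.ix.getD k2 0) iu % 3 ≠ 0) &&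
      chkP (sup D m) (vl iu) l [D.RV.getD k1 [], D.RV.getD k2 []]
  | .hw ib l => decide (ib < 240) && ((sup D m).all fun r => decide (0 ≤ H943.LatFix.ip (cartanOf chevE8 8) (toV (vl ib)) (toV r))) &&
      ((sup D m).all fun r => decide (0 ≤ dt l r)) && decide (dt l (vl ib) < 0)
  | .dep N => ((List.range 8).all fun i => decide (cmb N (sup D m) i = 0)) && anyP N (sup D m)
  | .skip => false

/-! ### soundness -/

section U

variable {W : Subgroup GK} {f : Q8 →+ ℤ} (hW : ∀ g ∈ W, Uni f (mx g))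

include hW

theorem cl_ind {P : Q8 → Prop} (h0 : P 0) (h1 : ∀ a ∈ Ind W, P a) (h2 : ∀ x y, P x → P y → P (x + y)) :
    ∀ x ∈ CL W, P x := by
  have key : ∀ x ∈ AddSubmonoid.closure (Ind W), P x := by
    intro x h
    induction h using AddSubmonoid.closure_induction with
    | mem x hx => exact h1 x hx
    | zero => exact h0
    | add x y _ _ hx hy => exact h2 x y hx hy
  exact fun x hx => key x (cl_le hW hx)

variable {S : List (List ℤ)} (hS : ∀ a, a ∈ Ind W ↔ ∃ r ∈ S, toV r = a) (h8 : ∀ r ∈ S, r.length = 8)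

include hS h8

/-- the decompositions of a vector -/
theorem sound_P {c l : List ℤ} {ps : List (List ℤ)} (hc8 : c.length = 8) (h : chkP S c l ps = true) (hc0 : ps ≠ [])
    (hps : ∀ p ∈ ps, ∃ q ∈ ps, p ∈ S ∧ q ∈ S ∧ toV p + toV q = toV c) :
    ∀ x ∈ CL W, ∀ y ∈ CL W, x ≠ 0 → y ≠ 0 → x + y = toV c → ∃ p ∈ ps, x = toV p := by
  unfold chkP at h
  rw [Bool.and_eq_true, List.all_eq_true, List.all_eq_true] at h
  obtain ⟨h1, h2⟩ := h
  have h1' : ∀ r ∈ S, fz l (toV c) < 3 * fz l (toV r) := by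
    intro r hr
    have := of_decide_eq_true (h1 r hr)
    rwa [dt_fz (h8 r hr).le, dt_fz hc8.le] at this
  have hpos : 0 < fz l (toV c) := by
    obtain ⟨p, hp⟩ := List.exists_mem_of_ne_nil _ hc0
    obtain ⟨q, -, hp', hq', e⟩ := hps p hp
    have a1 := h1' p hp'
    have a2 := h1' q hq'
    have a3 : fz l (toV c) = fz l (toV p) + fz l (toV q) := by rw [← e, fz_add]
    omega
  have key : ∀ x ∈ CL W, x = 0 ∨ (x ∈ Ind W ∧ fz l (toV c) < 3 * fz l x) ∨ 2 * fz l (toV c) < 3 * fz l x := by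
    refine cl_ind hW (Or.inl rfl) (fun a ha => Or.inr (Or.inl ⟨ha, ?_⟩)) ?_
    · obtain ⟨r, hr, rfl⟩ := (hS a).1 ha
      exact h1' r hr
    · intro x y hx hy
      rcases hx with rfl | hx
      · rw [zero_add]; exact hy
      · rcases hy with rfl | hy
        · rw [add_zero]; exact Or.inr hx
        · right; right
          rw [fz_add]
          have b1 : fz l (toV c) < 3 * fz l x := by rcases hx with hx | hx; exacts [hx.2, by omega]
          have b2 : fz l (toV c) < 3 * fz l y := by rcases hy with hy | hy; exacts [hy.2, by omega]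
          omega
  intro x hx y hy hx0 hy0 e
  have k1 := (key x hx).resolve_left hx0
  have k2 := (key y hy).resolve_left hy0
  have k3 : fz l (toV c) = fz l x + fz l y := by rw [← e, fz_add]
  have k4 : x ∈ Ind W ∧ y ∈ Ind W := by
    rcases k1 with k1 | k1
    · rcases k2 with k2 | k2
      · exact ⟨k1.1, k2.1⟩
      · omega
    · rcases k2 with k2 | k2 <;> omega
  obtain ⟨r, hr, rfl⟩ := (hS x).1 k4.1
  obtain ⟨s, hs, rfl⟩ := (hS y).1 k4.2
  have h3 := h2 r hr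
  rw [List.all_eq_true] at h3
  have h4 := h3 s hs
  rw [eqS_iff.2 e, Bool.not_true, Bool.false_or, List.contains_iff_mem] at h4
  exact ⟨r, h4, rfl⟩

omit h8 in
theorem sound_dep_aux : ∀ (N : List ℕ) (T : List (List ℤ)) (_ : ∀ r ∈ T, r ∈ S),
    ∃ v : Q8, (∀ i : Fin 8, v i = cmb N T i) ∧ 0 ≤ f v ∧ (anyP N T = true → 0 < f v) := by
  intro N
  induction N with
  | nil =>
    intro T _
    refine ⟨0, fun i => ?_, by rw [map_zero], fun h => ?_⟩
    · rw [cmb]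
      · rfl
      · simp
    · rw [anyP] at h
      · exact absurd h (by decide)
      · simp
  | cons n ns ih =>
    intro T hT
    cases T with
    | nil =>
      refine ⟨0, fun i => ?_, by rw [map_zero], fun h => ?_⟩
      · rw [cmb]
        · rfl
        · simp
      · rw [anyP] at h
        · exact absurd h (by decide)
        · simp
    | cons r rs =>
      obtain ⟨v, hv, hv0, hvp⟩ := ih rs fun s hs => hT s (List.mem_cons_of_mem _ hs)
      have hr : 0 < f (toV r) := f_pos hW ((hS _).2 ⟨r, hT r List.mem_cons_self, rfl⟩).1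
      refine ⟨(n : ℤ) • toV r + v, fun i => ?_, ?_, fun h => ?_⟩
      · rw [Pi.add_apply, Pi.smul_apply, hv i, smul_eq_mul]
        rfl
      · rw [map_add, map_zsmul, smul_eq_mul]
        have := mul_nonneg (Int.natCast_nonneg n) hr.le
        omega
      · rw [map_add, map_zsmul, smul_eq_mul]
        rw [anyP, Bool.or_eq_true, decide_eq_true_eq] at h
        rcases h with h | h
        · have : 0 < (n : ℤ) * f (toV r) := mul_pos (by exact_mod_cast h) hr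
          omega
        · have h3 := hvp h
          have := mul_nonneg (Int.natCast_nonneg n) hr.le
          omega

omit h8 in
theorem sound_dep {N : List ℕ} (h : (((List.range 8).all fun i => decide (cmb N S i = 0)) && anyP N S) = true) :
    False := by
  rw [Bool.and_eq_true, List.all_eq_true] at h
  obtain ⟨v, hv, -, hp⟩ := sound_dep_aux hW hS N S fun r hr => hr
  have h1 := hp h.2
  have h2 : v = 0 := by
    funext i
    rw [hv i]
    exact of_decide_eq_true (h.1 i.val (List.mem_range.2 i.2))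
  rw [h2, map_zero] at h1
  exact lt_irrefl _ h1

theorem sound_hw (hb : ∀ s : Fin chevE8.nroots, (∀ a ∈ Ind W, 0 ≤ H943.LatFix.ip (cartanOf chevE8 8) (_root_.Cfsg.Agent.Nodes.RGDChev.vec chevE8 8 s) a) →
      (2 : ℤ) • _root_.Cfsg.Agent.Nodes.RGDChev.vec chevE8 8 s ∈ CL W) {ib : ℕ} {l : List ℤ}
    (h : (decide (ib < 240) && (S.all fun r => decide (0 ≤ H943.LatFix.ip (cartanOf chevE8 8) (toV (vl ib)) (toV r))) &&
      (S.all fun r => decide (0 ≤ dt l r)) && decide (dt l (vl ib) < 0)) = true) : False := by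
  simp only [Bool.and_eq_true, decide_eq_true_eq, List.all_eq_true] at h
  obtain ⟨⟨⟨h1, h2⟩, h3⟩, h4⟩ := h
  have h5 := hb ⟨ib, h1⟩ (fun a ha => by
    obtain ⟨r, hr, rfl⟩ := (hS a).1 ha
    have := h2 r hr
    rwa [toV_vl] at this)
  have h6 : ∀ x ∈ CL W, 0 ≤ fz l x := by
    refine cl_ind hW (by unfold fz; simp) (fun a ha => ?_) fun x y hx hy => by rw [fz_add]; omega
    obtain ⟨r, hr, rfl⟩ := (hS a).1 ha
    have := h3 r hr
    rwa [dt_fz (h8 r hr).le] at this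
  have h7 := h6 _ h5
  rw [fz_smul] at h7
  rw [dt_fz (by unfold vl; simp), toV_vl] at h4
  have h8' : fz l (_root_.Cfsg.Agent.Nodes.RGDChev.vec chevE8 8 ib) = fz l (_root_.Cfsg.Agent.Nodes.RGDChev.vec chevE8 8 (⟨ib, h1⟩ : Fin chevE8.nroots).val) := rfl
  omega

end U

/-! ### the coefficients -/

/-- an index -/
def fi (n : ℕ) : Fin chevE8.nroots := ⟨n % 240, Nat.mod_lt _ (by norm_num)⟩

theorem fi_val {n : ℕ} (h : n < 240) : (fi n).val = n := Nat.mod_eq_of_lt h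

/-- the data are consistent -/
def okD (D : Dat) : Bool := decide (D.ix.length = 28) && (D.ix.all fun s => decide (s < 240)) && decide (D.ix.map vl = D.RV)

theorem okD_lt {D : Dat} (h : okD D = true) {k : ℕ} (hk : k < 28) : D.ix.getD k 0 < 240 := by
  unfold okD at h
  simp only [Bool.and_eq_true, decide_eq_true_eq, List.all_eq_true] at h
  obtain ⟨⟨h1, h2⟩, h3⟩ := h
  rw [List.getD_eq_getElem _ _ (by omega)]
  exact h2 _ (List.getElem_mem _)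

theorem okD_RV {D : Dat} (h : okD D = true) {k : ℕ} (hk : k < 28) : D.RV.getD k [] = vl (D.ix.getD k 0) := by
  unfold okD at h
  simp only [Bool.and_eq_true, decide_eq_true_eq, List.all_eq_true] at h
  obtain ⟨⟨h1, h2⟩, h3⟩ := h
  rw [← h3, List.getD_eq_getElem _ _ (by rw [List.length_map]; omega), List.getD_eq_getElem _ _ (by omega),
    List.getElem_map]

theorem okD_toV {D : Dat} (h : okD D = true) {k : ℕ} (hk : k < 28) :
    toV (D.RV.getD k []) = _root_.Cfsg.Agent.Nodes.RGDChev.vec chevE8 8 (fi (D.ix.getD k 0)) := by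
  rw [okD_RV h hk, toV_vl, fi_val (okD_lt h hk)]

theorem len_sup {D : Dat} (h : okD D = true) {m : ℕ} : ∀ r ∈ sup D m, r.length = 8 := by
  intro r hr
  obtain ⟨k, hk, -, rfl⟩ := mem_sup.1 hr
  rw [okD_RV h hk]
  simp [vl]

section C

variable {W : Subgroup GK} {f : Q8 →+ ℤ} (hW : ∀ g ∈ W, Uni f (mx g)) (hc : ∀ g ∈ W, ∀ g' ∈ W, g * g' = g' * g)
  {D : Dat} (hD : okD D = true) {m : ℕ} (hS : ∀ a, a ∈ Ind W ↔ ∃ r ∈ sup D m, toV r = a)
  {F : Type} [Field F] (ι : F →+* K8) (u : F → GK) (hu : ∀ x, u x ∈ W)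
  (hι : ∀ i j, i < 4 → j < 4 → (∀ y : F, ι y ^ 3 ^ i = ι y ^ 3 ^ j) → i = j)
  (hcf : ∀ k < 28, m.testBit (k / 4) = true →
    ∃ c : K8, c ≠ 0 ∧ ∀ x, cf (fi (D.ix.getD k 0)) (mx (u x)) = c * ι x ^ 3 ^ (k % 4))

include hW hc hD hS hu hι hcf

theorem sound_unq {k1 k2 iu : ℕ} {l : List ℤ} (h : chkC D m (.unq k1 k2 iu l) = true) : False := by
  unfold chkC at h
  simp only [Bool.and_eq_true, decide_eq_true_eq] at h
  obtain ⟨⟨⟨⟨⟨⟨⟨⟨⟨⟨hk1, hk2⟩, hb1⟩, hb2⟩, hlv⟩, hiu⟩, hne⟩, hng⟩, hsum⟩, hN⟩, hP⟩ := h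
  have e1 := okD_toV hD hk1
  have e2 := okD_toV hD hk2
  have f1 := fi_val (okD_lt hD hk1)
  have f2 := fi_val (okD_lt hD hk2)
  have f3 := fi_val hiu
  have m1 : D.RV.getD k1 [] ∈ sup D m := mem_sup.2 ⟨k1, hk1, hb1, rfl⟩
  have m2 : D.RV.getD k2 [] ∈ sup D m := mem_sup.2 ⟨k2, hk2, hb2, rfl⟩
  have hsum' := eqS_iff.1 hsum
  have hd := sound_P hW hS (len_sup hD) (c := vl iu) (by simp [vl]) hP (by simp) (by
    intro p hp
    rw [List.mem_cons, List.mem_singleton] at hp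
    rcases hp with rfl | rfl
    · exact ⟨_, by simp, m1, m2, hsum'⟩
    · exact ⟨_, List.mem_cons_self, m2, m1, by rw [add_comm, hsum']⟩)
  obtain ⟨c1, hc1, g1⟩ := hcf k1 hk1 hb1
  obtain ⟨c2, hc2, g2⟩ := hcf k2 hk2 hb2
  have hsum2 : _root_.Cfsg.Agent.Nodes.RGDChev.vec chevE8 8 (fi iu) = _root_.Cfsg.Agent.Nodes.RGDChev.vec chevE8 8 (fi (D.ix.getD k1 0)) + _root_.Cfsg.Agent.Nodes.RGDChev.vec chevE8 8 (fi (D.ix.getD k2 0)) := by
    rw [← e1, ← e2, hsum', toV_vl, f3]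
  have key : ∀ x y : F, cf (fi (D.ix.getD k1 0)) (mx (u x)) * cf (fi (D.ix.getD k2 0)) (mx (u y)) =
      cf (fi (D.ix.getD k1 0)) (mx (u y)) * cf (fi (D.ix.getD k2 0)) (mx (u x)) := by
    intro x y
    refine rel_one hW hc (u := fi iu) ((hS _).2 ⟨_, m1, e1⟩) ((hS _).2 ⟨_, m2, e2⟩) ?_ ?_ hsum2 ?_ ?_ (hu x) (hu y)
    · intro e
      apply hne
      rw [← f1, ← f2, e]
    · rw [f1, f2]; exact hng
    · rw [f1, f2, f3]
      intro h3
      exact hN (Int.emod_eq_zero_of_dvd h3)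
    · intro x hx y hy hx0 hy0 e
      obtain ⟨p, hp, rfl⟩ := hd x hx y hy hx0 hy0 (by rw [e, toV_vl, f3])
      rw [List.mem_cons, List.mem_singleton] at hp
      rcases hp with rfl | rfl
      · left; exact e1
      · right; exact e2
  apply hlv
  refine hι _ _ (Nat.mod_lt _ (by norm_num)) (Nat.mod_lt _ (by norm_num)) fun y => ?_
  have h1 := key 1 y
  rw [g1, g2, g1, g2, map_one, one_pow, one_pow, mul_one, mul_one] at h1
  have h2 : c1 * c2 * ι y ^ 3 ^ (k2 % 4) = c1 * c2 * ι y ^ 3 ^ (k1 % 4) := by linear_combination h1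
  exact (mul_left_cancel₀ (mul_ne_zero hc1 hc2) h2).symm

/-- the check for a relation with two pairs -/
def chkT (D : Dat) (m k1 k2 k1' k2' iu : ℕ) (l : List ℤ) : Bool :=
  decide (k1 < 28) && decide (k2 < 28) && decide (k1' < 28) && decide (k2' < 28) && m.testBit (k1 / 4) &&
  m.testBit (k2 / 4) && m.testBit (k1' / 4) && m.testBit (k2' / 4) && decide (k1 % 4 = 0) && decide (k1' % 4 = 0) &&
  decide (k2 % 4 = 2) && decide (k2' % 4 = 2) && decide (iu < 240) &&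
  decide ([D.ix.getD k1 0, D.ix.getD k2 0, D.ix.getD k1' 0, D.ix.getD k2' 0].Nodup) &&
  decide (D.ix.getD k2 0 ≠ chevE8.negIdx.getD (D.ix.getD k1 0) 0) &&
  decide (D.ix.getD k2' 0 ≠ chevE8.negIdx.getD (D.ix.getD k1' 0) 0) &&
  eqS (D.RV.getD k1 []) (D.RV.getD k2 []) (vl iu) && eqS (D.RV.getD k1' []) (D.RV.getD k2' []) (vl iu) &&
  chkP (sup D m) (vl iu) l [D.RV.getD k1 [], D.RV.getD k2 [], D.RV.getD k1' [], D.RV.getD k2' []]

theorem sound_two {k1 k2 k1' k2' iu : ℕ} {l : List ℤ} (h : chkT D m k1 k2 k1' k2' iu l = true) :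
    ((Ncf (D.ix.getD k1 0) (D.ix.getD k2 0) iu : ℤ) : K8) *
      (cf (fi (D.ix.getD k1 0)) (mx (u 1)) * cf (fi (D.ix.getD k2 0)) (mx (u 1))) +
    ((Ncf (D.ix.getD k1' 0) (D.ix.getD k2' 0) iu : ℤ) : K8) *
      (cf (fi (D.ix.getD k1' 0)) (mx (u 1)) * cf (fi (D.ix.getD k2' 0)) (mx (u 1))) = 0 := by
  unfold chkT at h
  simp only [Bool.and_eq_true, decide_eq_true_eq] at h
  obtain ⟨⟨⟨⟨⟨⟨⟨⟨⟨⟨⟨⟨⟨⟨⟨⟨⟨⟨hk1, hk2⟩, hk1'⟩, hk2'⟩, hb1⟩, hb2⟩, hb1'⟩, hb2'⟩, hl1⟩, hl1'⟩, hl2⟩, hl2'⟩, hiu⟩, hnd⟩,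
    hng⟩, hng'⟩, hs⟩, hs'⟩, hP⟩ := h
  have e1 := okD_toV hD hk1
  have e2 := okD_toV hD hk2
  have e1' := okD_toV hD hk1'
  have e2' := okD_toV hD hk2'
  have f1 := fi_val (okD_lt hD hk1)
  have f2 := fi_val (okD_lt hD hk2)
  have f1' := fi_val (okD_lt hD hk1')
  have f2' := fi_val (okD_lt hD hk2')
  have f3 := fi_val hiu
  have m1 : D.RV.getD k1 [] ∈ sup D m := mem_sup.2 ⟨k1, hk1, hb1, rfl⟩
  have m2 : D.RV.getD k2 [] ∈ sup D m := mem_sup.2 ⟨k2, hk2, hb2, rfl⟩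
  have m1' : D.RV.getD k1' [] ∈ sup D m := mem_sup.2 ⟨k1', hk1', hb1', rfl⟩
  have m2' : D.RV.getD k2' [] ∈ sup D m := mem_sup.2 ⟨k2', hk2', hb2', rfl⟩
  have hsum := eqS_iff.1 hs
  have hsum' := eqS_iff.1 hs'
  have hd := sound_P hW hS (len_sup hD) (c := vl iu) (by simp [vl]) hP (by simp) (by
    intro p hp
    simp only [List.mem_cons, List.not_mem_nil, or_false] at hp
    rcases hp with rfl | rfl | rfl | rfl
    · exact ⟨_, by simp, m1, m2, hsum⟩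
    · exact ⟨_, by simp, m2, m1, by rw [add_comm, hsum]⟩
    · exact ⟨_, by simp, m1', m2', hsum'⟩
    · exact ⟨_, by simp, m2', m1', by rw [add_comm, hsum']⟩)
  obtain ⟨c1, hc1, g1⟩ := hcf k1 hk1 hb1
  obtain ⟨c2, hc2, g2⟩ := hcf k2 hk2 hb2
  obtain ⟨c1', hc1', g1'⟩ := hcf k1' hk1' hb1'
  obtain ⟨c2', hc2', g2'⟩ := hcf k2' hk2' hb2'
  have hv : _root_.Cfsg.Agent.Nodes.RGDChev.vec chevE8 8 (fi iu) = _root_.Cfsg.Agent.Nodes.RGDChev.vec chevE8 8 (fi (D.ix.getD k1 0)) + _root_.Cfsg.Agent.Nodes.RGDChev.vec chevE8 8 (fi (D.ix.getD k2 0)) := by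
    rw [← e1, ← e2, hsum, toV_vl, f3]
  have hv' : _root_.Cfsg.Agent.Nodes.RGDChev.vec chevE8 8 (fi iu) = _root_.Cfsg.Agent.Nodes.RGDChev.vec chevE8 8 (fi (D.ix.getD k1' 0)) + _root_.Cfsg.Agent.Nodes.RGDChev.vec chevE8 8 (fi (D.ix.getD k2' 0)) := by
    rw [← e1', ← e2', hsum', toV_vl, f3]
  have hnd' : [fi (D.ix.getD k1 0), fi (D.ix.getD k2 0), fi (D.ix.getD k1' 0), fi (D.ix.getD k2' 0)].Nodup := by
    refine List.Nodup.of_map Fin.val ?_
    simp only [List.map_cons, List.map_nil, f1, f2, f1', f2']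
    exact hnd
  obtain ⟨y, hy⟩ : ∃ y : F, ι y ^ 3 ^ 0 ≠ ι y ^ 3 ^ 2 := by
    by_contra hcon
    push Not at hcon
    exact absurd (hι 0 2 (by norm_num) (by norm_num) hcon) (by norm_num)
  have key := rel_two hW hc (u := fi iu) ((hS _).2 ⟨_, m1, e1⟩) ((hS _).2 ⟨_, m2, e2⟩) ((hS _).2 ⟨_, m1', e1'⟩)
    ((hS _).2 ⟨_, m2', e2'⟩) hnd' (by rw [f1, f2]; exact hng) (by rw [f1', f2']; exact hng') hv hv'
    (fun x hx y hy hx0 hy0 e => by
      obtain ⟨p, hp, rfl⟩ := hd x hx y hy hx0 hy0 (by rw [e, toV_vl, f3])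
      simp only [List.mem_cons, List.not_mem_nil, or_false] at hp
      rcases hp with rfl | rfl | rfl | rfl
      · left; exact e1
      · right; left; exact e2
      · right; right; left; exact e1'
      · right; right; right; exact e2') (hu 1) (hu y)
  rw [g1, g1, g2, g2, g1', g1', g2', g2', f1, f2, f1', f2', f3, hl1, hl2, hl1', hl2'] at key
  rw [g1, g2, g1', g2', hl1, hl2, hl1', hl2']
  simp only [map_one, one_pow, mul_one] at key ⊢
  have h1 : (ι y ^ 3 ^ 2 - ι y ^ 3 ^ 0) * (((Ncf (D.ix.getD k1 0) (D.ix.getD k2 0) iu : ℤ) : K8) * (c1 * c2) +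
      ((Ncf (D.ix.getD k1' 0) (D.ix.getD k2' 0) iu : ℤ) : K8) * (c1' * c2')) = 0 := by
    linear_combination key
  exact (mul_eq_zero.1 h1).resolve_left (sub_ne_zero.2 fun e => hy e.symm)

end C

end Cfsg.Agent.H288.E8L
end

-- part: H288/E8L/Iface2
section
/-!
# Two pieces of the argument
-/

set_option autoImplicit false
set_option linter.unusedSectionVars false
set_option maxRecDepth 100000

namespace Cfsg.Agent.H288.E8L

open CoxeterSystem Cfsg Cfsg.Lie Cfsg.Lie.ChevalleyDatum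
open Cfsg.Agent.ChevalleyStructure Cfsg.Agent.ChevalleyStructure.Elts Cfsg.Agent.ChevalleyStructure.CoxeterGeom
  Cfsg.Agent.ChevalleyStructure.CoxeterGeomTypes Cfsg.Agent.ChevalleyStructure.RootVec
  Cfsg.Agent.ChevalleyStructure.RootVecTab
open Cfsg.Agent.Tits.Roots Cfsg.Agent.Tits.Core Cfsg.Agent.Nodes Cfsg.Agent.Nodes.Reps Cfsg.Agent.Nodes.BNOf
  Cfsg.Agent.Nodes.RGDChev
open Cfsg.Agent.GpExc.Field Cfsg.Agent.BpExc.TowChev Cfsg.Agent.H129.TorusChar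
open Cfsg.Agent.KFacts.RgdChevCoord
open Cfsg.Agent.H942.E8Tab Cfsg.Agent.H942.E8Alc Cfsg.Agent.H942.CB Cfsg.Agent.H944.Tab Cfsg.Agent.H944.Kac
open Matrix

/-- **HW**: the highest weight argument. `b` a root with `(b, a) ≥ 0` for all indecomposable displacements: column `b`
of every element of `W` is the unit column (norms of weights), so `u n₀ u = n₀ u⁻¹ n₀` gives a displacement `2 b`. -/
def HW : Prop := ∀ (W : Subgroup GK) (f : Q8 →+ ℤ) (w0 : W8) (n0 u : GK), (∀ g ∈ W, Uni f (mx g)) → Rep w0 n0 →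
  (∀ x, act8 w0 x = -x) → u ∈ W → u * n0 * u = n0 * u⁻¹ * n0 →
  ∀ s : Fin chevE8.nroots, (∀ a ∈ Ind W, 0 ≤ H943.LatFix.ip (cartanOf chevE8 8) (_root_.Cfsg.Agent.Nodes.RGDChev.vec chevE8 8 s) a) →
    (2 : ℤ) • _root_.Cfsg.Agent.Nodes.RGDChev.vec chevE8 8 s ∈ CL W

/-- **INV**: a parity functional, invariant under the Frobenius twist and zero on the displacements, gives an element
of the centraliser. -/
def INV : Prop := ∀ (W : Subgroup GK) (w w0 : W8) (n n0 z : GK) (e : List ℤ), Rep w n → Rep w0 n0 →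
  (∀ x, act8 w0 x = -x) → n = z⁻¹ * frb8 z → e.length = 8 → (∃ i < 8, e.getD i 0 % 2 ≠ 0) →
  (∀ x : Q8, (2 : ℤ) ∣ fz e (act8 w x) - fz e x) → (∀ a ∈ PP W, (2 : ℤ) ∣ fz e a) →
  ∃ (g : G8) (s : GK), g ≠ 1 ∧ emb8 g = z * s * z⁻¹ ∧ (∀ v ∈ W, s * v = v * s) ∧ s * n0 = n0 * s

end Cfsg.Agent.H288.E8L
end

-- part: H288/E8L/Semi
section
/-!
# Additive maps on the field with 81 elements which are semi-invariant under an element of order 40
-/

set_option autoImplicit false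

namespace Cfsg.Agent.H288.E8L

variable {F : Type} [Field F] [Fintype F] {K : Type} [Field K] [CharP K 3]

/-- an additive subgroup containing the powers of `θ` is everything -/
theorem addSubgroup_top (hF : Fintype.card F = 81) {θ : F} (hθ : IsPrimitiveRoot θ 40) (S : AddSubgroup F)
    (hS : ∀ n : ℕ, θ ^ n ∈ S) (x : F) : x ∈ S := by
  classical
  have h1 : Nat.card S ∣ 81 := by
    have := S.card_addSubgroup_dvd_card
    rwa [Nat.card_eq_fintype_card (α := F), hF] at this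
  have hinj : Function.Injective (fun o : Option (Fin 40) => match o with
      | none => (⟨0, S.zero_mem⟩ : S)
      | some i => ⟨θ ^ (i : ℕ), hS i⟩) := by
    intro a b hab
    have hθ0 : θ ≠ 0 := hθ.ne_zero (by norm_num)
    rcases a with _ | a <;> rcases b with _ | b
    · rfl
    · exact absurd (congrArg Subtype.val hab).symm (pow_ne_zero _ hθ0)
    · exact absurd (congrArg Subtype.val hab) (pow_ne_zero _ hθ0)
    · have := hθ.pow_inj a.2 b.2 (congrArg Subtype.val hab)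
      exact congrArg some (Fin.ext this)
  have h2 := Nat.card_le_card_of_injective _ hinj
  rw [Nat.card_eq_fintype_card (α := Option (Fin 40)), Fintype.card_option, Fintype.card_fin] at h2
  have h3 : Nat.card S = 81 := by
    have h4 : Nat.card S ∈ Nat.divisors 81 := Nat.mem_divisors.2 ⟨h1, by norm_num⟩
    have h5 : Nat.divisors 81 = {1, 3, 9, 27, 81} := by decide +kernel
    rw [h5] at h4
    simp only [Finset.mem_insert, Finset.mem_singleton] at h4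
    omega
  have h4 : S = ⊤ := by
    apply AddSubgroup.eq_top_of_card_eq
    rw [h3, Nat.card_eq_fintype_card (α := F), hF]
  rw [h4]
  exact AddSubgroup.mem_top x

/-- an embedding of the field with 81 elements is a Frobenius twist of another one -/
theorem hom_eq (hF : Fintype.card F = 81) (ι σ : F →+* K) : ∃ i < 4, ∀ x, σ x = ι x ^ 3 ^ i := by
  classical
  have : Fact (Nat.Prime 3) := ⟨Nat.prime_three⟩
  have hF3 : CharP F 3 := (RingHom.charP_iff ι ι.injective 3).2 inferInstance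
  have hr : ∀ t : K, t ^ 81 = t → t ∈ Set.range ι := by
    intro t ht
    have hp0 : (Polynomial.X ^ 81 - Polynomial.X : Polynomial K) ≠ 0 :=
      FiniteField.X_pow_card_sub_X_ne_zero K (by norm_num)
    have h1 : Finset.univ.image ι ⊆ (Polynomial.X ^ 81 - Polynomial.X : Polynomial K).roots.toFinset := by
      intro y hy
      obtain ⟨x, -, rfl⟩ := Finset.mem_image.1 hy
      have hx : x ^ 81 = x := by
        have := FiniteField.pow_card x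
        rwa [hF] at this
      rw [Multiset.mem_toFinset, Polynomial.mem_roots hp0, Polynomial.IsRoot, Polynomial.eval_sub,
        Polynomial.eval_pow, Polynomial.eval_X, ← map_pow, hx, sub_self]
    have h2 : (Polynomial.X ^ 81 - Polynomial.X : Polynomial K).roots.toFinset.card ≤
        (Finset.univ.image ι).card := by
      rw [Finset.card_image_of_injective _ ι.injective, Finset.card_univ, hF]
      refine (Multiset.toFinset_card_le _).trans ((Polynomial.card_roots' _).trans ?_)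
      rw [FiniteField.X_pow_card_sub_X_natDegree_eq K (by norm_num : 1 < 81)]
    have h3 := Finset.eq_of_subset_of_card_le h1 h2
    have h4 : t ∈ (Polynomial.X ^ 81 - Polynomial.X : Polynomial K).roots.toFinset := by
      rw [Multiset.mem_toFinset, Polynomial.mem_roots hp0, Polynomial.IsRoot, Polynomial.eval_sub,
        Polynomial.eval_pow, Polynomial.eval_X, ht, sub_self]
    rw [← h3] at h4
    obtain ⟨x, -, hx⟩ := Finset.mem_image.1 h4
    exact ⟨x, hx⟩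
  have hex : ∀ x : F, ∃ y, ι y = σ x := by
    intro x
    refine hr (σ x) ?_
    rw [← map_pow]
    have := FiniteField.pow_card x
    rw [hF] at this
    rw [this]
  choose τ hτ using hex
  let τr : F →+* F :=
    { toFun := τ
      map_one' := ι.injective (by rw [hτ, map_one, map_one])
      map_zero' := ι.injective (by rw [hτ, map_zero, map_zero])
      map_mul' := fun x y => ι.injective (by rw [hτ, map_mul, map_mul, hτ, hτ])
      map_add' := fun x y => ι.injective (by rw [hτ, map_add, map_add, hτ, hτ]) }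
  let _ : Algebra (ZMod 3) F := ZMod.algebra F 3
  have hcomm : τr.comp (algebraMap (ZMod 3) F) = algebraMap (ZMod 3) F := Subsingleton.elim _ _
  let τ' : F →ₐ[ZMod 3] F := { τr with commutes' := fun r => RingHom.congr_fun hcomm r }
  obtain ⟨j, hj⟩ := (FiniteField.bijective_frobeniusAlgHom_pow (ZMod 3) F).2 τ'
  have h1 : ∀ (n : ℕ) (y : F), ((FiniteField.frobeniusAlgHom (ZMod 3) F) ^ n) y = y ^ 3 ^ n := by
    intro n y
    induction n generalizing y with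
    | zero => simp
    | succ n ih =>
      have hy : (FiniteField.frobeniusAlgHom (ZMod 3) F) y = y ^ 3 := by simp
      rw [pow_succ, AlgHom.mul_apply, ih, hy, ← pow_mul, pow_succ, mul_comm]
  have hfr : Module.finrank (ZMod 3) F = 4 := by
    have h2 := Module.card_eq_pow_finrank (K := ZMod 3) (V := F)
    rw [hF, ZMod.card] at h2
    have h3 : (3 : ℕ) ^ 4 = 3 ^ Module.finrank (ZMod 3) F := by rw [← h2]; norm_num
    exact (Nat.pow_right_injective (le_refl 2 |>.trans (by norm_num : 2 ≤ 3)) h3).symm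
  refine ⟨j, by have := j.2; omega, fun x => ?_⟩
  rw [← hτ x]
  have h2 : τ x = τ' x := rfl
  rw [h2, ← hj]
  show ι ((FiniteField.frobeniusAlgHom (ZMod 3) F ^ (j : ℕ)) x) = _
  rw [h1, map_pow]

/-- **semi-invariant additive maps** -/
theorem semi (hF : Fintype.card F = 81) (ι : F →+* K) {θ : F} (hθ : IsPrimitiveRoot θ 40) (G : F → K)
    (hadd : ∀ x y, G (x + y) = G x + G y) {c : K} (hG : ∀ x, G (θ * x) = c * G x) (hne : ∃ x, G x ≠ 0) :
    G 1 ≠ 0 ∧ ∃ i < 4, (∀ x, G x = G 1 * ι x ^ 3 ^ i) ∧ c = ι θ ^ 3 ^ i := by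
  have hz : G 0 = 0 := by
    have := hadd 0 0
    rw [add_zero] at this
    exact left_eq_add.1 this
  have hneg : ∀ x, G (-x) = -G x := by
    intro x
    have := hadd x (-x)
    rw [add_neg_cancel, hz] at this
    exact eq_neg_of_add_eq_zero_right this.symm
  have hpow : ∀ (n : ℕ) (x : F), G (θ ^ n * x) = c ^ n * G x := by
    intro n
    induction n with
    | zero => intro x; rw [pow_zero, pow_zero, one_mul, one_mul]
    | succ n ih => intro x; rw [pow_succ, mul_assoc, ih, hG, pow_succ, mul_assoc]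
  have h1 : G 1 ≠ 0 := by
    intro h1
    obtain ⟨x, hx⟩ := hne
    apply hx
    let S : AddSubgroup F :=
      { carrier := {x | G x = 0}
        zero_mem' := hz
        add_mem' := fun {a b} ha hb => by
          show G (a + b) = 0
          rw [hadd, show G a = 0 from ha, show G b = 0 from hb, add_zero]
        neg_mem' := fun {a} ha => by
          show G (-a) = 0
          rw [hneg, show G a = 0 from ha, neg_zero] }
    refine addSubgroup_top hF hθ S (fun n => ?_) x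
    show G (θ ^ n) = 0
    rw [← mul_one (θ ^ n), hpow, h1, mul_zero]
  refine ⟨h1, ?_⟩
  have hmul : ∀ x y, G (x * y) * G 1 = G x * G y := by
    intro x
    let S : AddSubgroup F :=
      { carrier := {x | ∀ y, G (x * y) * G 1 = G x * G y}
        zero_mem' := fun y => by rw [zero_mul, hz, zero_mul, zero_mul]
        add_mem' := fun {a b} ha hb y => by
          rw [add_mul, hadd, add_mul, ha y, hb y, hadd, add_mul]
        neg_mem' := fun {a} ha y => by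
          rw [neg_mul, hneg, neg_mul, ha y, hneg, neg_mul] }
    refine addSubgroup_top hF hθ S (fun n y => ?_) x
    have h2 := hpow n 1
    rw [mul_one] at h2
    rw [hpow, h2]
    ring
  let σ : F →+* K :=
    { toFun := fun x => G x / G 1
      map_one' := div_self h1
      map_zero' := by show G 0 / G 1 = 0; rw [hz, zero_div]
      map_mul' := fun x y => by
        show G (x * y) / G 1 = G x / G 1 * (G y / G 1)
        rw [div_mul_div_comm, div_eq_div_iff h1 (mul_ne_zero h1 h1)]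
        have := hmul x y
        linear_combination (G 1) * this
      map_add' := fun x y => by
        show G (x + y) / G 1 = G x / G 1 + G y / G 1
        rw [hadd, add_div] }
  obtain ⟨i, hi, h2⟩ := hom_eq hF ι σ
  refine ⟨i, hi, fun x => ?_, ?_⟩
  · rw [← h2 x]
    show G x = G 1 * (G x / G 1)
    rw [mul_div_cancel₀ _ h1]
  · rw [← h2 θ]
    show c = G θ / G 1
    rw [eq_div_iff h1]
    have := hG 1
    rw [mul_one] at this
    exact this.symm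

end Cfsg.Agent.H288.E8L
end

-- part: H288/E8L/TabDat
section
/-!
# The tables of the two regular cases
-/

set_option autoImplicit false
set_option linter.unusedSectionVars false
set_option maxRecDepth 100000

namespace Cfsg.Agent.H288.E8L

open CoxeterSystem Cfsg Cfsg.Lie Cfsg.Lie.ChevalleyDatum
open Cfsg.Agent.ChevalleyStructure Cfsg.Agent.ChevalleyStructure.Elts Cfsg.Agent.ChevalleyStructure.CoxeterGeom
  Cfsg.Agent.ChevalleyStructure.CoxeterGeomTypes Cfsg.Agent.ChevalleyStructure.RootVec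
  Cfsg.Agent.ChevalleyStructure.RootVecTab
open Cfsg.Agent.Tits.Roots Cfsg.Agent.Tits.Core Cfsg.Agent.Nodes Cfsg.Agent.Nodes.Reps Cfsg.Agent.Nodes.BNOf
  Cfsg.Agent.Nodes.RGDChev
open Cfsg.Agent.GpExc.Field Cfsg.Agent.BpExc.TowChev Cfsg.Agent.H129.TorusChar
open Cfsg.Agent.KFacts.RgdChevCoord
open Cfsg.Agent.H942.E8Tab Cfsg.Agent.H942.E8Alc Cfsg.Agent.H942.CB Cfsg.Agent.H944.Tab Cfsg.Agent.H944.Kac
open Matrix

/-- the data of case 5 -/
def D5 : Dat where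
  Y := [3, 1, 1, 1, 1, 1, 1, 1]
  w := [5, 4, 2, 3, 0, 2, 1, 3, 4, 5, 6, 7, 4, 2, 3, 0, 2, 1, 3, 4, 5, 6, 5, 4, 3, 2, 1, 3, 4, 5, 0, 2, 3, 4, 1, 3, 2, 0]
  ix := [120, 143, 172, 35, 121, 125, 158, 233, 123, 137, 175, 57, 126, 162, 2, 44, 130, 147, 159, 232, 135, 132, 184, 49, 141, 128, 168, 48]
  RV := [[0, 0, 0, 0, 0, 0, 0, 1], [0, 1, 0, 1, 1, 0, 0, 0], [1, 1, 1, 1, 1, 1, 1, 0], [-1, -2, -2, -3, -2, -1, 0, 0], [0, 0, 0, 0, 0, 0, 1, 0], [0, 0, 0, 0, 0, 1, 1, 1], [0, 1, 1, 2, 2, 1, 1, 1], [2, 3, 3, 5, 4, 3, 2, 1], [0, 0, 0, 0, 0, 1, 0, 0], [0, 0, 1, 1, 1, 0, 0, 0], [1, 1, 1, 2, 1, 1, 0, 0], [-1, -1, -1, -2, -2, -2, -1, -1], [0, 0, 0, 0, 1, 0, 0, 0], [1, 0, 0, 0, 0, 0, 0, 0], [-2, -3, -4, -6, -5, -4, -2, -1], [-1, -1, -2, -3, -2, -1, -1, 0], [0, 0, 0, 1, 0, 0, 0, 0], [0, 1, 1, 1, 0, 0, 0, 0], [0, 1, 1, 2, 2, 2, 1, 0], [2, 2, 4, 5, 4, 3, 2, 1], [0, 0, 1, 0, 0, 0, 0, 0], [0, 0, 0, 1, 1,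 1, 0, 0], [1, 1, 2, 2, 1, 0, 0, 0], [-1, -1, -2, -2, -2, -1, -1, -1], [0, 1, 0, 0, 0, 0, 0, 0], [0, 0, 0, 0, 1, 1, 1, 0], [1, 0, 1, 1, 1, 1, 1, 1], [-1, -1, -2, -2, -2, -2, -1, 0]]

/-- the certificates of case 5 -/
def C5 : List Crt := [.eps [1, 0, 0, 1, 1, 0, 1, 0],
  .eps [1, 0, 0, 1, 1, 0, 1, 0],
  .eps [0, 1, 1, 0, 0, 1, 0, 1],
  .unq 0 2 173 [-8, -5, -14, 4, 10, 7, 13, 4],
  .eps [1, 0, 0, 1, 1, 0, 1, 0],
  .eps [1, 0, 0, 1, 1, 0, 1, 0],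
  .unq 8 9 138 [-13, 14, 8, 5, -12, 1, 10, -8],
  .dep [1, 1, 1, 1, 0, 0, 0, 0, 1, 1, 1, 1],
  .eps [0, 1, 1, 0, 0, 1, 0, 1],
  .unq 0 2 173 [8, 17, -13, -13, 2, -10, 11, 2],
  .eps [0, 1, 1, 0, 0, 1, 0, 1],
  .unq 12 5 129 [45, 60, -81, 15, 2, -64, 65, 2],
  .unq 8 9 138 [9, 0, -4, 5, 2, 2, -27, -9],
  .dep [1, 1, 1, 1, 1, 1, 1, 1, 0, 0, 0, 0],
  .dep [1, 1, 1, 1, 2, 2, 2, 2, 1, 1, 1, 1],
  .dep [1, 1, 1, 1, 0, 0, 0, 0, 1, 1, 1, 1, 0, 0, 0, 0],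
  .eps [0, 1, 1, 0, 0, 1, 0, 1],
  .unq 0 2 173 [-53, -23, 7, 19, 7, -5, 49, 1],
  .eps [0, 1, 1, 0, 0, 1, 0, 1],
  .unq 0 2 173 [-37, -7, -7, 17, -7, 8, 35, 2],
  .unq 8 9 138 [3, 9, 19, 4, -20, 4, 9, -21],
  .dep [1, 1, 1, 1, 1, 1, 1, 1, 0, 0, 0, 0],
  .unq 8 9 138 [-21, 30, 29, 11, -37, 2, 30, -24],
  .dep [1, 1, 1, 1, 0, 0, 0, 0, 1, 1, 1, 1, 0, 0, 0, 0],
  .eps [0, 1, 1, 0, 0, 1, 0, 1],
  .dep [0, 0, 0, 0, 1, 1, 1, 1, 1, 1, 1, 1],
  .eps [0, 1, 1, 0, 0, 1, 0, 1],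
  .dep [0, 0, 0, 0, 0, 0, 0, 0, 1, 1, 1, 1, 1, 1, 1, 1],
  .dep [0, 0, 0, 0, 1, 1, 1, 1, 1, 1, 1, 1],
  .dep [1, 1, 1, 1, 1, 1, 1, 1, 0, 0, 0, 0, 0, 0, 0, 0],
  .dep [0, 0, 0, 0, 0, 0, 0, 0, 1, 1, 1, 1, 1, 1, 1, 1],
  .dep [1, 1, 1, 1, 0, 0, 0, 0, 1, 1, 1, 1, 0, 0, 0, 0, 0, 0, 0, 0],
  .eps [1, 0, 0, 1, 1, 0, 1, 0],
  .eps [1, 0, 0, 1, 1, 0, 1, 0],
  .unq 4 21 133 [-36, 54, 3, 13, -32, 22, 4, -18],
  .dep [1, 1, 1, 1, 0, 0, 0, 0, 1, 1, 1, 1],
  .eps [1, 0, 0, 1, 1, 0, 1, 0],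
  .eps [1, 0, 0, 1, 1, 0, 1, 0],
  .unq 4 21 133 [-63, 45, 12, 44, -52, 11, 2, -9],
  .dep [1, 1, 1, 1, 0, 0, 0, 0, 1, 1, 1, 1, 0, 0, 0, 0],
  .unq 20 13 163 [1, 0, 1, 6, 3, -6, -24, -3],
  .dep [1, 1, 1, 1, 0, 0, 0, 0, 1, 1, 1, 1],
  .dep [1, 1, 1, 1, 1, 1, 1, 1, 2, 2, 2, 2],
  .dep [1, 1, 1, 1, 0, 0, 0, 0, 0, 0, 0, 0, 1, 1, 1, 1],
  .unq 20 13 163 [1, 6, 1, 6, 3, 3, -39, -15],
  .dep [1, 1, 1, 1, 1, 1, 1, 1, 0, 0, 0, 0, 0, 0, 0, 0],
  .dep [1, 1, 1, 1, 2, 2, 2, 2, 1, 1, 1, 1, 0, 0, 0, 0],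
  .dep [1, 1, 1, 1, 0, 0, 0, 0, 1, 1, 1, 1, 0, 0, 0, 0, 0, 0, 0, 0],
  .unq 20 21 138 [3, 6, 2, 14, -19, 8, 6, -27],
  .dep [1, 1, 1, 1, 0, 0, 0, 0, 1, 1, 1, 1],
  .unq 4 21 133 [-27, 42, 9, 35, -58, 26, 2, -24],
  .dep [1, 1, 1, 1, 0, 0, 0, 0, 0, 0, 0, 0, 1, 1, 1, 1],
  .hw 154 [4, -6, 5, 2, -1, 5, -8, -12],
  .dep [1, 1, 1, 1, 1, 1, 1, 1, 0, 0, 0, 0, 0, 0, 0, 0],
  .unq 4 21 133 [-54, 33, 27, 47, -70, 26, 2, -24],
  .dep [1, 1, 1, 1, 0, 0, 0, 0, 1, 1, 1, 1, 0, 0, 0, 0, 0, 0, 0, 0],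
  .dep [1, 1, 1, 1, 1, 1, 1, 1, 0, 0, 0, 0],
  .dep [1, 1, 1, 1, 0, 0, 0, 0, 0, 0, 0, 0, 1, 1, 1, 1],
  .dep [0, 0, 0, 0, 1, 1, 1, 1, 1, 1, 1, 1, 0, 0, 0, 0],
  .dep [1, 1, 1, 1, 0, 0, 0, 0, 0, 0, 0, 0, 0, 0, 0, 0, 1, 1, 1, 1],
  .dep [0, 0, 0, 0, 1, 1, 1, 1, 1, 1, 1, 1, 0, 0, 0, 0],
  .dep [1, 1, 1, 1, 1, 1, 1, 1, 0, 0, 0, 0, 0, 0, 0, 0, 0, 0, 0, 0],
  .dep [0, 0, 0, 0, 0, 0, 0, 0, 1, 1, 1, 1, 1, 1, 1, 1, 0, 0, 0, 0],
  .dep [1, 1, 1, 1, 0, 0, 0, 0, 1, 1, 1, 1, 0, 0, 0, 0, 0, 0, 0, 0, 0, 0, 0, 0],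
  .eps [1, 0, 0, 1, 1, 0, 1, 0],
  .eps [1, 0, 0, 1, 1, 0, 1, 0],
  .unq 24 26 173 [-8, 1, -23, 19, 7, -11, 7, 10],
  .unq 0 25 129 [9, 3, -15, 12, -11, -5, 19, 4],
  .eps [1, 0, 0, 1, 1, 0, 1, 0],
  .eps [1, 0, 0, 1, 1, 0, 1, 0],
  .dep [0, 0, 0, 0, 1, 1, 1, 1, 1, 1, 1, 1],
  .dep [1, 1, 1, 1, 0, 0, 0, 0, 1, 1, 1, 1, 0, 0, 0, 0],
  .unq 24 26 173 [7, 1, -5, -17, 1, -5, 7, 13],
  .unq 0 25 129 [18, 6, -9, -6, 2, -10, 11, 2],
  .unq 12 5 129 [20, 25, -20, -5, 3, -18, 18, 5],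
  .hw 190 [14, 21, -23, -2, 1, -11, 17, 6],
  .dep [1, 1, 1, 1, 0, 0, 0, 0, 1, 1, 1, 1],
  .dep [1, 1, 1, 1, 1, 1, 1, 1, 0, 0, 0, 0, 0, 0, 0, 0],
  .dep [0, 0, 0, 0, 1, 1, 1, 1, 0, 0, 0, 0, 1, 1, 1, 1],
  .dep [1, 1, 1, 1, 0, 0, 0, 0, 1, 1, 1, 1, 0, 0, 0, 0, 0, 0, 0, 0],
  .unq 16 25 133 [-7, 6, -1, 1, 9, -11, 3, 20],
  .unq 0 25 129 [-8, 1, 0, 16, -15, -15, 31, 1],
  .unq 16 25 133 [-18, 21, -3, 2, 26, -34, 11, 60],
  .unq 0 25 129 [-9, 3, -12, 54, -52, -34, 89, 2],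
  .dep [1, 1, 1, 1, 0, 0, 0, 0, 1, 1, 1, 1],
  .dep [1, 1, 1, 1, 1, 1, 1, 1, 0, 0, 0, 0, 0, 0, 0, 0],
  .dep [0, 0, 0, 0, 1, 1, 1, 1, 0, 0, 0, 0, 1, 1, 1, 1],
  .dep [1, 1, 1, 1, 0, 0, 0, 0, 1, 1, 1, 1, 0, 0, 0, 0, 0, 0, 0, 0],
  .dep [1, 1, 1, 1, 1, 1, 1, 1, 0, 0, 0, 0],
  .dep [0, 0, 0, 0, 1, 1, 1, 1, 1, 1, 1, 1, 0, 0, 0, 0],
  .dep [0, 0, 0, 0, 1, 1, 1, 1, 1, 1, 1, 1, 0, 0, 0, 0],
  .dep [0, 0, 0, 0, 0, 0, 0, 0, 1, 1, 1, 1, 1, 1, 1, 1, 0, 0, 0, 0],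
  .dep [1, 1, 1, 1, 0, 0, 0, 0, 0, 0, 0, 0, 1, 1, 1, 1],
  .dep [1, 1, 1, 1, 1, 1, 1, 1, 0, 0, 0, 0, 0, 0, 0, 0, 0, 0, 0, 0],
  .dep [0, 0, 0, 0, 1, 1, 1, 1, 0, 0, 0, 0, 0, 0, 0, 0, 1, 1, 1, 1],
  .dep [1, 1, 1, 1, 0, 0, 0, 0, 1, 1, 1, 1, 0, 0, 0, 0, 0, 0, 0, 0, 0, 0, 0, 0],
  .eps [1, 0, 0, 1, 1, 0, 1, 0],
  .eps [1, 0, 0, 1, 1, 0, 1, 0],
  .dep [0, 0, 0, 0, 1, 1, 1, 1, 1, 1, 1, 1],
  .dep [1, 1, 1, 1, 0, 0, 0, 0, 1, 1, 1, 1, 0, 0, 0, 0],
  .eps [1, 0, 0, 1, 1, 0, 1, 0],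
  .eps [1, 0, 0, 1, 1, 0, 1, 0],
  .dep [0, 0, 0, 0, 1, 1, 1, 1, 0, 0, 0, 0, 1, 1, 1, 1],
  .dep [1, 1, 1, 1, 0, 0, 0, 0, 1, 1, 1, 1, 0, 0, 0, 0, 0, 0, 0, 0],
  .dep [0, 0, 0, 0, 1, 1, 1, 1, 1, 1, 1, 1],
  .dep [1, 1, 1, 1, 0, 0, 0, 0, 1, 1, 1, 1, 0, 0, 0, 0],
  .dep [0, 0, 0, 0, 0, 0, 0, 0, 1, 1, 1, 1, 1, 1, 1, 1],
  .dep [1, 1, 1, 1, 0, 0, 0, 0, 0, 0, 0, 0, 1, 1, 1, 1, 0, 0, 0, 0],
  .dep [1, 1, 1, 1, 0, 0, 0, 0, 0, 0, 0, 0, 1, 1, 1, 1],
  .dep [1, 1, 1, 1, 1, 1, 1, 1, 0, 0, 0, 0, 0, 0, 0, 0, 0, 0, 0, 0],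
  .dep [0, 0, 0, 0, 1, 1, 1, 1, 0, 0, 0, 0, 0, 0, 0, 0, 1, 1, 1, 1],
  .dep [1, 1, 1, 1, 0, 0, 0, 0, 1, 1, 1, 1, 0, 0, 0, 0, 0, 0, 0, 0, 0, 0, 0, 0],
  .dep [0, 0, 0, 0, 1, 1, 1, 1, 1, 1, 1, 1],
  .dep [1, 1, 1, 1, 0, 0, 0, 0, 1, 1, 1, 1, 0, 0, 0, 0],
  .dep [0, 0, 0, 0, 0, 0, 0, 0, 1, 1, 1, 1, 1, 1, 1, 1],
  .dep [1, 1, 1, 1, 0, 0, 0, 0, 0, 0, 0, 0, 1, 1, 1, 1, 0, 0, 0, 0],
  .dep [1, 1, 1, 1, 0, 0, 0, 0, 0, 0, 0, 0, 1, 1, 1, 1],
  .dep [1, 1, 1, 1, 1, 1, 1, 1, 0, 0, 0, 0, 0, 0, 0, 0, 0, 0, 0, 0],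
  .dep [0, 0, 0, 0, 1, 1, 1, 1, 0, 0, 0, 0, 0, 0, 0, 0, 1, 1, 1, 1],
  .dep [1, 1, 1, 1, 0, 0, 0, 0, 1, 1, 1, 1, 0, 0, 0, 0, 0, 0, 0, 0, 0, 0, 0, 0],
  .dep [1, 1, 1, 1, 1, 1, 1, 1, 0, 0, 0, 0, 0, 0, 0, 0],
  .dep [1, 1, 1, 1, 0, 0, 0, 0, 0, 0, 0, 0, 1, 1, 1, 1, 0, 0, 0, 0],
  .dep [0, 0, 0, 0, 1, 1, 1, 1, 1, 1, 1, 1, 0, 0, 0, 0, 0, 0, 0, 0],
  .dep [1, 1, 1, 1, 0, 0, 0, 0, 0, 0, 0, 0, 0, 0, 0, 0, 1, 1, 1, 1, 0, 0, 0, 0],
  .dep [1, 1, 1, 1, 0, 0, 0, 0, 0, 0, 0, 0, 0, 0, 0, 0, 1, 1, 1, 1],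
  .dep [1, 1, 1, 1, 1, 1, 1, 1, 0, 0, 0, 0, 0, 0, 0, 0, 0, 0, 0, 0, 0, 0, 0, 0],
  .dep [0, 0, 0, 0, 1, 1, 1, 1, 0, 0, 0, 0, 0, 0, 0, 0, 0, 0, 0, 0, 1, 1, 1, 1],
  .dep [1, 1, 1, 1, 0, 0, 0, 0, 1, 1, 1, 1, 0, 0, 0, 0, 0, 0, 0, 0, 0, 0, 0, 0, 0, 0, 0, 0]]

/-- the data of case 7 -/
def D7 : Dat where
  Y := [1, 1, 1, 1, 1, 3, 1, 2]
  w := [2, 1, 3, 4, 5, 6, 7, 2, 1, 3, 4, 5, 6, 0, 2, 3, 4, 5, 1, 3, 4, 2, 3, 0, 2, 1, 3, 4, 5, 6, 7, 6, 2, 3, 4, 5, 1, 3, 4, 2, 3, 0, 2, 1, 3, 4, 5, 6]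
  ix := [121, 1, 154, 44, 126, 137, 156, 223, 130, 123, 172, 80, 135, 143, 140, 52, 141, 122, 5, 59, 162, 164, 175, 229, 0, 147, 146, 35]
  RV := [[0, 0, 0, 0, 0, 0, 1, 0], [-2, -3, -4, -6, -5, -4, -3, -1], [0, 1, 1, 2, 1, 1, 1, 0], [-1, -1, -2, -3, -2, -1, -1, 0], [0, 0, 0, 0, 1, 0, 0, 0], [0, 0, 1, 1, 1, 0, 0, 0], [0, 1, 1, 2, 2, 1, 0, 0], [1, 2, 3, 4, 4, 3, 2, 1], [0, 0, 0, 1, 0, 0, 0, 0], [0, 0, 0, 0, 0, 1, 0, 0], [1, 1, 1, 1, 1, 1, 1, 0], [0, -1, -1, -2, -2, -2, -1, 0], [0, 0, 1, 0, 0, 0, 0, 0], [0, 1, 0, 1, 1, 0, 0, 0], [0, 0, 1, 1, 1, 1, 1, 1], [-1, -1, -2, -2, -1, -1, -1, -1], [0, 1, 0, 0, 0, 0, 0, 0], [0, 0, 0, 0, 0, 0, 1, 1], [-2, -3, -4, -5, -4, -3, -2, -1], [-1, -1, -1, -2, -2, -1, -1, -1], [1, 0, 0, 0, 0, 0, 0, 0], [1, 0, 1, 1, 0, 0, 0, 0], [1, 1, 1, 2, 1, 1, 0, 0], [2, 2, 3, 4, 3, 3, 2, 1], [-2, -3, -4, -6, -5, -4, -3, -2], [0, 1, 1, 1, 0, 0, 0, 0], [0, 1, 0, 1, 1, 1,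 1, 1], [-1, -2, -2, -3, -2, -1, 0, 0]]

/-- the certificates of case 7 -/
def C7 : List Crt := [.eps [0, 0, 1, 1, 0, 1, 0, 0],
  .eps [0, 0, 1, 1, 0, 1, 0, 0],
  .eps [0, 0, 1, 1, 0, 1, 0, 0],
  .eps [0, 0, 1, 1, 0, 1, 0, 0],
  .eps [1, 1, 0, 0, 1, 0, 1, 0],
  .unq 0 1 2 [4, 69, -4, 12, -65, 11, 10, -31],
  .unq 4 9 127 [30, -6, 24, 3, 1, 1, -36, 30],
  .dep [1, 1, 1, 1, 1, 1, 1, 1, 2, 2, 2, 2],
  .eps [1, 1, 0, 0, 1, 0, 1, 0],
  .unq 0 1 2 [-27, 2, 2, 9, -3, -2, 1, 5],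
  .unq 12 13 148 [-15, -10, 2, -10, 23, 15, 0, -15],
  .unq 0 1 2 [-151, -15, 22, -30, 59, 22, 5, 37],
  .eps [1, 1, 0, 0, 1, 0, 1, 0],
  .dep [0, 0, 0, 0, 1, 1, 1, 1, 1, 1, 1, 1],
  .dep [0, 0, 0, 0, 1, 1, 1, 1, 1, 1, 1, 1],
  .dep [0, 0, 0, 0, 0, 0, 0, 0, 1, 1, 1, 1, 1, 1, 1, 1],
  .eps [0, 0, 1, 1, 0, 1, 0, 0],
  .eps [0, 0, 1, 1, 0, 1, 0, 0],
  .eps [0, 0, 1, 1, 0, 1, 0, 0],
  .eps [0, 0, 1, 1, 0, 1, 0, 0],
  .unq 8 10 176 [4, 1, -4, 1, -6, 2, 3, -2],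
  .unq 0 1 2 [10, 23, -20, 12, -30, 13, 4, 1],
  .dep [1, 1, 1, 1, 2, 2, 2, 2, 1, 1, 1, 1],
  .dep [1, 1, 1, 1, 1, 1, 1, 1, 2, 2, 2, 2, 0, 0, 0, 0],
  .unq 12 13 148 [-8, 1, 1, -1, 1, -1, 1, 3],
  .unq 0 1 2 [-28, 3, 3, 7, -3, -2, 3, 5],
  .unq 12 18 6 [-29, 1, 1, -12, 17, 11, 5, -1],
  .unq 0 1 2 [-60, 2, 7, -13, 22, 8, 2, 14],
  .dep [1, 1, 1, 1, 1, 1, 1, 1, 0, 0, 0, 0],
  .dep [0, 0, 0, 0, 1, 1, 1, 1, 1, 1, 1, 1, 0, 0, 0, 0],
  .dep [0, 0, 0, 0, 1, 1, 1, 1, 1, 1, 1, 1, 0, 0, 0, 0],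
  .dep [0, 0, 0, 0, 0, 0, 0, 0, 1, 1, 1, 1, 1, 1, 1, 1, 0, 0, 0, 0],
  .eps [0, 0, 1, 1, 0, 1, 0, 0],
  .eps [0, 0, 1, 1, 0, 1, 0, 0],
  .eps [0, 0, 1, 1, 0, 1, 0, 0],
  .eps [0, 0, 1, 1, 0, 1, 0, 0],
  .unq 8 10 176 [8, -4, 5, 1, -7, 2, -4, 9],
  .unq 0 1 2 [46, 30, 44, 42, -188, 62, 13, 32],
  .unq 4 9 127 [30, -6, 24, 3, 1, 1, -36, 30],
  .dep [1, 1, 1, 1, 1, 1, 1, 1, 2, 2, 2, 2, 0, 0, 0, 0],
  .unq 12 13 148 [2, -7, 1, 0, 8, 8, -2, -12],
  .dep [1, 1, 1, 1, 2, 2, 2, 2, 1, 1, 1, 1],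
  .unq 12 13 148 [6, -20, 4, -2, 25, 24, -6, -36],
  .dep [2, 2, 2, 2, 1, 1, 1, 1, 0, 0, 0, 0, 1, 1, 1, 1],
  .dep [1, 1, 1, 1, 1, 1, 1, 1, 0, 0, 0, 0],
  .dep [0, 0, 0, 0, 1, 1, 1, 1, 1, 1, 1, 1, 0, 0, 0, 0],
  .dep [0, 0, 0, 0, 1, 1, 1, 1, 1, 1, 1, 1, 0, 0, 0, 0],
  .dep [0, 0, 0, 0, 0, 0, 0, 0, 1, 1, 1, 1, 1, 1, 1, 1, 0, 0, 0, 0],
  .eps [0, 0, 1, 1, 0, 1, 0, 0],
  .eps [0, 0, 1, 1, 0, 1, 0, 0],
  .eps [0, 0, 1, 1, 0, 1, 0, 0],
  .eps [0, 0, 1, 1, 0, 1, 0, 0],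
  .unq 16 21 169 [53, 2, -52, 2, -69, 81, 15, 33],
  .unq 0 1 2 [16, 3, -6, 17, -58, 39, 2, 6],
  .dep [1, 1, 1, 1, 2, 2, 2, 2, 1, 1, 1, 1, 0, 0, 0, 0],
  .dep [1, 1, 1, 1, 1, 1, 1, 1, 2, 2, 2, 2, 0, 0, 0, 0, 0, 0, 0, 0],
  .dep [2, 2, 2, 2, 1, 1, 1, 1, 1, 1, 1, 1],
  .dep [1, 1, 1, 1, 2, 2, 2, 2, 0, 0, 0, 0, 1, 1, 1, 1],
  .dep [1, 1, 1, 1, 0, 0, 0, 0, 2, 2, 2, 2, 1, 1, 1, 1],
  .dep [2, 2, 2, 2, 1, 1, 1, 1, 0, 0, 0, 0, 0, 0, 0, 0, 1, 1, 1, 1],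
  .dep [1, 1, 1, 1, 1, 1, 1, 1, 0, 0, 0, 0, 0, 0, 0, 0],
  .dep [0, 0, 0, 0, 1, 1, 1, 1, 1, 1, 1, 1, 0, 0, 0, 0, 0, 0, 0, 0],
  .dep [0, 0, 0, 0, 1, 1, 1, 1, 1, 1, 1, 1, 0, 0, 0, 0, 0, 0, 0, 0],
  .dep [0, 0, 0, 0, 0, 0, 0, 0, 1, 1, 1, 1, 1, 1, 1, 1, 0, 0, 0, 0, 0, 0, 0, 0],
  .eps [0, 0, 1, 1, 0, 1, 0, 0],
  .eps [0, 0, 1, 1, 0, 1, 0, 0],
  .eps [0, 0, 1, 1, 0, 1, 0, 0],
  .eps [0, 0, 1, 1, 0, 1, 0, 0],
  .unq 8 10 176 [2, 5, -5, 1, -6, 1, 3, -2],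
  .unq 0 1 2 [7, 18, -5, 8, -43, 22, 7, 0],
  .dep [1, 1, 1, 1, 2, 2, 2, 2, 1, 1, 1, 1],
  .dep [1, 1, 1, 1, 1, 1, 1, 1, 2, 2, 2, 2, 0, 0, 0, 0],
  .unq 12 13 148 [-24, 2, 2, 2, -1, -6, 3, 12],
  .unq 0 1 2 [-30, 1, 2, 4, 1, 3, 2, -1],
  .unq 12 26 151 [-123, -4, 2, 8, 35, 26, 20, -82],
  .unq 0 1 2 [-178, 3, 64, -54, 71, 10, 5, -2],
  .dep [1, 1, 1, 1, 1, 1, 1, 1, 0, 0, 0, 0],
  .dep [0, 0, 0, 0, 1, 1, 1, 1, 1, 1, 1, 1, 0, 0, 0, 0],
  .dep [0, 0, 0, 0, 1, 1, 1, 1, 1, 1, 1, 1, 0, 0, 0, 0],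
  .dep [0, 0, 0, 0, 0, 0, 0, 0, 1, 1, 1, 1, 1, 1, 1, 1, 0, 0, 0, 0],
  .eps [0, 0, 1, 1, 0, 1, 0, 0],
  .eps [0, 0, 1, 1, 0, 1, 0, 0],
  .eps [0, 0, 1, 1, 0, 1, 0, 0],
  .eps [0, 0, 1, 1, 0, 1, 0, 0],
  .unq 24 17 2 [11, 14, -13, 7, -25, 11, 8, -3],
  .unq 0 9 124 [0, 27, -12, 9, -39, 10, 16, -6],
  .dep [1, 1, 1, 1, 2, 2, 2, 2, 1, 1, 1, 1, 0, 0, 0, 0],
  .dep [1, 1, 1, 1, 1, 1, 1, 1, 2, 2, 2, 2, 0, 0, 0, 0, 0, 0, 0, 0],
  .unq 12 13 148 [-24, 2, 2, 2, -1, -6, 3, 12],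
  .unq 12 13 148 [-39, 5, 2, 14, -16, -6, 15, 0],
  .unq 24 17 2 [-163, 21, 64, -69, 71, 1, 38, -29],
  .skip,
  .dep [1, 1, 1, 1, 1, 1, 1, 1, 0, 0, 0, 0, 0, 0, 0, 0],
  .dep [0, 0, 0, 0, 1, 1, 1, 1, 1, 1, 1, 1, 0, 0, 0, 0, 0, 0, 0, 0],
  .dep [0, 0, 0, 0, 1, 1, 1, 1, 1, 1, 1, 1, 0, 0, 0, 0, 0, 0, 0, 0],
  .dep [0, 0, 0, 0, 0, 0, 0, 0, 1, 1, 1, 1, 1, 1, 1, 1, 0, 0, 0, 0, 0, 0, 0, 0],
  .eps [0, 0, 1, 1, 0, 1, 0, 0],
  .eps [0, 0, 1, 1, 0, 1, 0, 0],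
  .eps [0, 0, 1, 1, 0, 1, 0, 0],
  .eps [0, 0, 1, 1, 0, 1, 0, 0],
  .unq 20 25 169 [16, -14, 16, 10, -129, 111, 3, 30],
  .unq 0 1 2 [53, 51, -14, 27, -178, 127, 5, -2],
  .dep [1, 1, 1, 1, 2, 2, 2, 2, 0, 0, 0, 0, 1, 1, 1, 1],
  .dep [1, 1, 1, 1, 1, 1, 1, 1, 2, 2, 2, 2, 0, 0, 0, 0, 0, 0, 0, 0],
  .dep [2, 2, 2, 2, 1, 1, 1, 1, 1, 1, 1, 1],
  .dep [1, 1, 1, 1, 2, 2, 2, 2, 1, 1, 1, 1, 0, 0, 0, 0],
  .dep [1, 1, 1, 1, 0, 0, 0, 0, 1, 1, 1, 1, 2, 2, 2, 2],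
  .dep [2, 2, 2, 2, 1, 1, 1, 1, 0, 0, 0, 0, 1, 1, 1, 1, 0, 0, 0, 0],
  .dep [1, 1, 1, 1, 1, 1, 1, 1, 0, 0, 0, 0, 0, 0, 0, 0],
  .dep [0, 0, 0, 0, 1, 1, 1, 1, 1, 1, 1, 1, 0, 0, 0, 0, 0, 0, 0, 0],
  .dep [0, 0, 0, 0, 1, 1, 1, 1, 1, 1, 1, 1, 0, 0, 0, 0, 0, 0, 0, 0],
  .dep [0, 0, 0, 0, 0, 0, 0, 0, 1, 1, 1, 1, 1, 1, 1, 1, 0, 0, 0, 0, 0, 0, 0, 0],
  .eps [0, 0, 1, 1, 0, 1, 0, 0],
  .eps [0, 0, 1, 1, 0, 1, 0, 0],
  .eps [0, 0, 1, 1, 0, 1, 0, 0],
  .eps [0, 0, 1, 1, 0, 1, 0, 0],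
  .unq 24 17 2 [25, 9, -12, 9, -50, 40, 4, -3],
  .unq 0 9 124 [30, 4, -11, 31, -57, 2, 3, 20],
  .dep [1, 1, 1, 1, 2, 2, 2, 2, 1, 1, 1, 1, 0, 0, 0, 0, 0, 0, 0, 0],
  .dep [1, 1, 1, 1, 1, 1, 1, 1, 2, 2, 2, 2, 0, 0, 0, 0, 0, 0, 0, 0, 0, 0, 0, 0],
  .dep [2, 2, 2, 2, 1, 1, 1, 1, 1, 1, 1, 1, 0, 0, 0, 0],
  .dep [1, 1, 1, 1, 2, 2, 2, 2, 0, 0, 0, 0, 1, 1, 1, 1, 0, 0, 0, 0],
  .dep [1, 1, 1, 1, 0, 0, 0, 0, 2, 2, 2, 2, 1, 1, 1, 1, 0, 0, 0, 0],
  .dep [2, 2, 2, 2, 1, 1, 1, 1, 0, 0, 0, 0, 0, 0, 0, 0, 1, 1, 1, 1, 0, 0, 0, 0],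
  .dep [1, 1, 1, 1, 1, 1, 1, 1, 0, 0, 0, 0, 0, 0, 0, 0, 0, 0, 0, 0],
  .dep [0, 0, 0, 0, 1, 1, 1, 1, 1, 1, 1, 1, 0, 0, 0, 0, 0, 0, 0, 0, 0, 0, 0, 0],
  .dep [0, 0, 0, 0, 1, 1, 1, 1, 1, 1, 1, 1, 0, 0, 0, 0, 0, 0, 0, 0, 0, 0, 0, 0],
  .dep [0, 0, 0, 0, 0, 0, 0, 0, 1, 1, 1, 1, 1, 1, 1, 1, 0, 0, 0, 0, 0, 0, 0, 0, 0, 0, 0, 0]]

/-- the unit lists -/
def un (i : ℕ) : List ℤ := (List.range 8).map fun j => if j = i then 1 else 0

/-- the checks of the geometry -/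
def chkG (D : Dat) : Bool :=
  decide (D.Y.length = 8) && okw D.w && okD D &&
  ((List.range 28).all fun k => decide ((dt (YZ D.Y) (D.RV.getD k []) - 3 ^ (k % 4)) % 40 = 0)) &&
  ((List.range 240).all fun s => !([1, 3, 9, 27].contains (dt (YZ D.Y) (vl s) % 40)) || D.ix.contains s) &&
  ((List.range 28).all fun k => decide (k % 4 = 3) || ((List.range 8).all fun i =>
    decide (dt (actW D.w (un i)) (D.RV.getD k []) = (D.RV.getD (k + 1) []).getD i 0))) &&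
  ((List.range 8).all fun i => decide (((actW D.w (YZ D.Y)).getD i 0 - 3 * (YZ D.Y).getD i 0) % 40 = 0)) &&
  decide (dotN th8 D.Y < 40) && ((List.range 8).all fun i => decide (1 ≤ D.Y.getD i 0))

private noncomputable def _root_.Cfsg.Agent.LsF.f7f7353_0 : {f // @Cfsg.Agent.H942.CB.okw = f} := ⟨_, by first | (delta Cfsg.Agent.H942.CB.okw; rewrite [Cfsg.Agent.LsF.decLt_eq, Cfsg.Agent.LsF.all_eq, Cfsg.Agent.LsF.decide_eq]; exact rfl) | exact rfl⟩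
private noncomputable def _root_.Cfsg.Agent.LsF.f7f7353_1 : {f // @Cfsg.Agent.ChevalleyStructure.RootVecTab.dig = f} := ⟨_, by first | (delta Cfsg.Agent.ChevalleyStructure.RootVecTab.dig; rewrite [Cfsg.Agent.LsF.nmul_pat]; exact rfl) | exact rfl⟩
private noncomputable def _root_.Cfsg.Agent.LsF.f7f7353_2 : {f // @Cfsg.Agent.ChevalleyStructure.RootVecTab.packTab = f} := ⟨_, by first | (delta Cfsg.Agent.ChevalleyStructure.RootVecTab.packTab; rewrite [Cfsg.Agent.LsF.instDecEq_eq, Cfsg.Agent.LsF.ite_eq]; exact rfl) | exact rfl⟩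
private noncomputable def _root_.Cfsg.Agent.LsF.f7f7353_3 : {f // @Cfsg.Agent.ChevalleyStructure.RootVecTab.code = f} := ⟨_, by first | (delta Cfsg.Agent.ChevalleyStructure.RootVecTab.code; rewrite [Cfsg.Agent.LsF.f7f7353_2.2, Cfsg.Agent.LsF.nmul_pat, Cfsg.Agent.LsF.npow_pat]; exact rfl) | exact rfl⟩
private noncomputable def _root_.Cfsg.Agent.LsF.f7f7353_4 : {f // @Cfsg.Agent.ChevalleyStructure.RootVec.rt = f} := ⟨_, by first | (delta Cfsg.Agent.ChevalleyStructure.RootVec.rt; rewrite [Cfsg.Agent.LsF.f7f7353_1.2, Cfsg.Agent.LsF.f7f7353_3.2, Cfsg.Agent.LsF.nsub_pat, Cfsg.Agent.LsF.isub_pat, Cfsg.Agent.LsF.icast_pat, Cfsg.Agent.LsF.decLt_eq, Cfsg.Agent.LsF.dAnd_eq, Cfsg.Agent.LsF.ite_eq]; exact rfl) | exact rfl⟩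
private noncomputable def _root_.Cfsg.Agent.LsF.f7f7353_5 : {f // @Cfsg.Agent.H288.E8L.vl = f} := ⟨_, by first | (delta Cfsg.Agent.H288.E8L.vl; rewrite [Cfsg.Agent.LsF.f7f7353_4.2, Cfsg.Agent.LsF.map_eq, Cfsg.Agent.LsF.range_eq]; exact rfl) | exact rfl⟩
private noncomputable def _root_.Cfsg.Agent.LsF.f7f7353_6 : {f // @Cfsg.Agent.H288.E8L.okD = f} := ⟨_, by first | (delta Cfsg.Agent.H288.E8L.okD; rewrite [Cfsg.Agent.LsF.f7f7353_5.2, Cfsg.Agent.LsF.and_eq, Cfsg.Agent.LsF.instDecEq_eq, Cfsg.Agent.LsF.decLt_eq, Cfsg.Agent.LsF.all_eq, Cfsg.Agent.LsF.map_eq, Cfsg.Agent.LsF.instIDecEq_eq, Cfsg.Agent.LsF.dListEq_eq, Cfsg.Agent.LsF.length_eq, Cfsg.Agent.LsF.decide_eq]; exact rfl) | exact rfl⟩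
private noncomputable def _root_.Cfsg.Agent.LsF.f7f7353_7 : {f // @Cfsg.Agent.H942.CB.dotI = f} := ⟨_, by first | (delta Cfsg.Agent.H942.CB.dotI List.brecOn List.brecOn.go Cfsg.Agent.H942.CB.dotI._f; rewrite [Cfsg.Agent.LsF.iadd_pat, Cfsg.Agent.LsF.imul_pat]; (try delta Cfsg.Agent.H942.CB.dotI.match_1); (try delta Cfsg.Agent.H942.CB.sL._sparseCasesOn_1); first | dsimp -zeta only | exact rfl) | exact rfl⟩
private noncomputable def _root_.Cfsg.Agent.LsF.f7f7353_8 : {f // @Cfsg.Agent.H288.E8L.dt = f} := ⟨_, by first | (delta Cfsg.Agent.H288.E8L.dt; rewrite [Cfsg.Agent.LsF.f7f7353_7.2]; exact rfl) | exact rfl⟩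
private noncomputable def _root_.Cfsg.Agent.LsF.f7f7353_9 : {f // @Cfsg.Agent.H942.CB.YZ = f} := ⟨_, by first | (delta Cfsg.Agent.H942.CB.YZ; rewrite [Cfsg.Agent.LsF.icast_pat, Cfsg.Agent.LsF.map_eq]; exact rfl) | exact rfl⟩
private noncomputable def _root_.Cfsg.Agent.LsF.f7f7353_10 : {f // @Cfsg.Agent.H942.CB.sL = f} := ⟨_, by first | (delta Cfsg.Agent.H942.CB.sL; rewrite [Cfsg.Agent.LsF.iadd_pat, Cfsg.Agent.LsF.ineg_pat]; (try delta Cfsg.Agent.H942.CB.sL.match_1); (try delta Cfsg.Agent.H942.CB.sL._sparseCasesOn_1); (try delta Cfsg.Agent.H942.CB.sL._sparseCasesOn_2); (try rewrite [Cfsg.Agent.LsF.instDecEq_eq, Cfsg.Agent.LsF.dite_eq]); exact rfl) | exact rfl⟩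
private noncomputable def _root_.Cfsg.Agent.LsF.f7f7353_11 : {f // @Cfsg.Agent.H942.CB.actW = f} := ⟨_, by first | (delta Cfsg.Agent.H942.CB.actW List.brecOn List.brecOn.go Cfsg.Agent.H942.CB.actW._f; rewrite [Cfsg.Agent.LsF.f7f7353_10.2]; (try delta Cfsg.Agent.H942.CB.actW.match_1); (try delta List.casesOn); first | dsimp -zeta only | exact rfl) | exact rfl⟩
private noncomputable def _root_.Cfsg.Agent.LsF.f7f7353_12 : {f // @Cfsg.Agent.H288.E8L.un = f} := ⟨_, by first | (delta Cfsg.Agent.H288.E8L.un; rewrite [Cfsg.Agent.LsF.instDecEq_eq, Cfsg.Agent.LsF.map_eq, Cfsg.Agent.LsF.range_eq, Cfsg.Agent.LsF.ite_eq]; exact rfl) | exact rfl⟩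
private noncomputable def _root_.Cfsg.Agent.LsF.f7f7353_13 : {f // @Cfsg.Agent.H944.Tab.dotN = f} := ⟨_, by first | (delta Cfsg.Agent.H944.Tab.dotN List.brecOn List.brecOn.go Cfsg.Agent.H944.Tab.dotN._f; rewrite [Cfsg.Agent.LsF.nadd_pat, Cfsg.Agent.LsF.nmul_pat]; (try delta Cfsg.Agent.H944.Tab.dotN.match_1); (try delta Cfsg.Agent.H944.Tab.dotN._sparseCasesOn_1); first | dsimp -zeta only | exact rfl) | exact rfl⟩
private noncomputable def _root_.Cfsg.Agent.LsF.f7f7353_14 : {f // @Cfsg.Agent.H288.E8L.chkG = f} := ⟨_, by first | (delta Cfsg.Agent.H288.E8L.chkG; rewrite [Cfsg.Agent.LsF.f7f7353_0.2, Cfsg.Agent.LsF.f7f7353_6.2, Cfsg.Agent.LsF.f7f7353_8.2, Cfsg.Agent.LsF.f7f7353_9.2, Cfsg.Agent.LsF.f7f7353_5.2, Cfsg.Agent.LsF.f7f7353_11.2, Cfsg.Agent.LsF.f7f7353_12.2, Cfsg.Agent.LsF.f7f7353_13.2, Cfsg.Agent.LsF.nadd_pat, Cfsg.Agent.LsF.nmod_pat, Cfsg.Agent.LsF.instNBEq_pat, Cfsg.Agent.LsF.imul_pat,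 Cfsg.Agent.LsF.isub_pat, Cfsg.Agent.LsF.imod_pat, Cfsg.Agent.LsF.instIBEq_pat, Cfsg.Agent.LsF.and_eq, Cfsg.Agent.LsF.or_eq, Cfsg.Agent.LsF.not_eq, Cfsg.Agent.LsF.instDecEq_eq, Cfsg.Agent.LsF.decLe_eq, Cfsg.Agent.LsF.decLt_eq, Cfsg.Agent.LsF.all_eq, Cfsg.Agent.LsF.contains_eq, Cfsg.Agent.LsF.range_eq, Cfsg.Agent.LsF.getD_eq, Cfsg.Agent.LsF.instIDecEq_eq, Cfsg.Agent.LsF.length_eq, Cfsg.Agent.LsF.decide_eq]; exact rfl) | exact rfl⟩
theorem g5 : chkG D5 = true := by ((try (rewrite [Cfsg.Agent.LsF.f7f7353_14.2])); decide +kernel)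

theorem g7 : chkG D7 = true := by ((try (rewrite [Cfsg.Agent.LsF.f7f7353_14.2])); decide +kernel)

private noncomputable def _root_.Cfsg.Agent.LsF.f7f7353_15 : {f // @Cfsg.Agent.H288.E8L.sup = f} := ⟨_, by first | (delta Cfsg.Agent.H288.E8L.sup; rewrite [Cfsg.Agent.LsF.ndiv_pat, Cfsg.Agent.LsF.testBit_eq, Cfsg.Agent.LsF.map_eq, Cfsg.Agent.LsF.filter_eq, Cfsg.Agent.LsF.range_eq, Cfsg.Agent.LsF.getD_eq]; exact rfl) | exact rfl⟩
private noncomputable def _root_.Cfsg.Agent.LsF.f7f7353_16 : {f // @Cfsg.Agent.H288.E8L.eqS = f} := ⟨_, by first | (delta Cfsg.Agent.H288.E8L.eqS; rewrite [Cfsg.Agent.LsF.iadd_pat, Cfsg.Agent.LsF.all_eq, Cfsg.Agent.LsF.range_eq, Cfsg.Agent.LsF.getD_eq, Cfsg.Agent.LsF.instIDecEq_eq, Cfsg.Agent.LsF.decide_eq]; exact rfl) | exact rfl⟩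
private noncomputable def _root_.Cfsg.Agent.LsF.f7f7353_17 : {f // @Nat.pred = f} := ⟨_, by first | (delta Nat.pred; (try delta Nat.pow.match_1); (try delta Nat.casesOn); exact rfl) | exact rfl⟩
private noncomputable def _root_.Cfsg.Agent.LsF.f7f7353_18 : {f // @Cfsg.Agent.ChevFast.ix = f} := ⟨_, by first | (delta Cfsg.Agent.ChevFast.ix; rewrite [Cfsg.Agent.LsF.f7f7353_17.2]; exact rfl) | exact rfl⟩
private noncomputable def _root_.Cfsg.Agent.LsF.f7f7353_19 : {f // @Cfsg.Agent.ChevFast.sg = f} := ⟨_, by first | (delta Cfsg.Agent.ChevFast.sg; rewrite [Cfsg.Agent.LsF.cond_eq]; exact rfl) | exact rfl⟩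
private noncomputable def _root_.Cfsg.Agent.LsF.f7f7353_20 : {f // @Cfsg.Agent.ChevFast.coT = f} := ⟨_, by first | (delta Cfsg.Agent.ChevFast.coT; rewrite [Cfsg.Agent.LsF.f7f7353_18.2, Cfsg.Agent.LsF.f7f7353_19.2, Cfsg.Agent.LsF.cond_eq]; exact rfl) | exact rfl⟩
private noncomputable def _root_.Cfsg.Agent.LsF.f7f7353_21 : {f // @Cfsg.Agent.H288.E8L.chkP = f} := ⟨_, by first | (delta Cfsg.Agent.H288.E8L.chkP; rewrite [Cfsg.Agent.LsF.f7f7353_8.2, Cfsg.Agent.LsF.f7f7353_16.2, Cfsg.Agent.LsF.imul_pat, Cfsg.Agent.LsF.instIBEq_pat, Cfsg.Agent.LsF.and_eq, Cfsg.Agent.LsF.or_eq, Cfsg.Agent.LsF.not_eq, Cfsg.Agent.LsF.all_eq, Cfsg.Agent.LsF.contains_eq, Cfsg.Agent.LsF.instBEq_eq, Cfsg.Agent.LsF.idecLt_eq, Cfsg.Agent.LsF.decide_eq]; exact rfl) | exact rfl⟩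
private noncomputable def _root_.Cfsg.Agent.LsF.f7f7353_22 : {f // @Cfsg.Agent.H943.LatFix.ip = f} := ⟨_, by first | (delta Cfsg.Agent.H943.LatFix.ip Cfsg.Agent.ChevalleyStructure.CoxeterGeom.pairing; rewrite [Cfsg.Agent.LsF.imul_pat, Cfsg.Agent.LsF.finFintype_eq, Cfsg.Agent.LsF.fsum_eq, Cfsg.Agent.LsF.iACM_eq]; exact rfl) | exact rfl⟩
private noncomputable def _root_.Cfsg.Agent.LsF.f7f7353_23 : {f // @Cfsg.Agent.ChevFast.dz = f} := ⟨_, by first | (delta Cfsg.Agent.ChevFast.dz; rewrite [Cfsg.Agent.LsF.cond_eq]; exact rfl) | exact rfl⟩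
private noncomputable def _root_.Cfsg.Agent.LsF.f7f7353_24 : {f // @Cfsg.Agent.ChevFast.gz = f} := ⟨_, by first | (delta Cfsg.Agent.ChevFast.gz; rewrite [Cfsg.Agent.LsF.f7f7353_23.2]; exact rfl) | exact rfl⟩
private noncomputable def _root_.Cfsg.Agent.LsF.f7f7353_25 : {f // @Cfsg.Lie.ChevalleyDatum.simple = f} := ⟨_, by first | (delta Cfsg.Lie.ChevalleyDatum.simple; rewrite [Cfsg.Agent.LsF.agetD_eq]; exact rfl) | exact rfl⟩
private noncomputable def _root_.Cfsg.Agent.LsF.f7f7353_26 : {f // @Cfsg.Agent.H942.CB.toV = f} := ⟨_, by first | (delta Cfsg.Agent.H942.CB.toV; rewrite [Cfsg.Agent.LsF.getD_eq]; exact rfl) | exact rfl⟩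
private noncomputable def _root_.Cfsg.Agent.LsF.f7f7353_27 : {f // @Cfsg.Agent.H288.E8L.cmb = f} := ⟨_, by first | (delta Cfsg.Agent.H288.E8L.cmb List.brecOn List.brecOn.go Cfsg.Agent.H288.E8L.cmb._f; rewrite [Cfsg.Agent.LsF.iadd_pat, Cfsg.Agent.LsF.imul_pat, Cfsg.Agent.LsF.icast_pat, Cfsg.Agent.LsF.getD_eq]; (try delta Cfsg.Agent.H288.E8L.cmb.match_1); (try delta Cfsg.Agent.H288.E8L.cmb._sparseCasesOn_1); first | dsimp -zeta only | exact rfl) | exact rfl⟩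
private noncomputable def _root_.Cfsg.Agent.LsF.f7f7353_28 : {f // @Cfsg.Agent.H288.E8L.anyP = f} := ⟨_, by first | (delta Cfsg.Agent.H288.E8L.anyP List.brecOn List.brecOn.go Cfsg.Agent.H288.E8L.anyP._f; rewrite [Cfsg.Agent.LsF.or_eq, Cfsg.Agent.LsF.decLt_eq, Cfsg.Agent.LsF.decide_eq]; (try delta Cfsg.Agent.H288.E8L.anyP.match_1); (try delta Cfsg.Agent.H288.E8L.cmb._sparseCasesOn_1); first | dsimp -zeta only | exact rfl) | exact rfl⟩
theorem c5 : ((List.range 128).all fun m => chkC D5 m (C5.getD m .skip)) = true := by (delta Cfsg.Agent.ChevalleyStructure.CoxeterGeomTypes.cartanOf Cfsg.Agent.H288.E8L.Ncf Cfsg.Agent.H288.E8L.chkC; rewrite [Cfsg.Agent.ChevFast.E8.cartan, Cfsg.Agent.ChevFast.E8.chainCoeff, Cfsg.Agent.ChevFast.E8.negA]; ((try (rewrite [Cfsg.Agent.LsF.f7f7353_11.2, Cfsg.Agent.LsF.f7f7353_15.2, Cfsg.Agent.LsF.f7f7353_8.2, Cfsg.Agent.LsF.f7f7353_16.2, Cfsg.Agent.LsF.f7f7353_5.2,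 Cfsg.Agent.LsF.f7f7353_20.2, Cfsg.Agent.LsF.f7f7353_21.2, Cfsg.Agent.LsF.f7f7353_22.2, Cfsg.Agent.LsF.f7f7353_24.2, Cfsg.Agent.LsF.f7f7353_25.2, Cfsg.Agent.LsF.f7f7353_26.2, Cfsg.Agent.LsF.f7f7353_27.2, Cfsg.Agent.LsF.f7f7353_28.2, Cfsg.Agent.LsF.ndiv_pat, Cfsg.Agent.LsF.nmod_pat, Cfsg.Agent.LsF.isub_pat, Cfsg.Agent.LsF.imod_pat, Cfsg.Agent.LsF.and_eq, Cfsg.Agent.LsF.cond_eq, Cfsg.Agent.LsF.instDecEq_eq, Cfsg.Agent.LsF.decLt_eq, Cfsg.Agent.LsF.testBit_eq, Cfsg.Agent.LsF.all_eq, Cfsg.Agent.LsF.any_eq, Cfsg.Agent.LsF.map_eq, Cfsg.Agent.LsF.range_eq, Cfsg.Agent.LsF.sum_eq, Cfsg.Agent.LsF.getD_eq, Cfsg.Agent.LsF.instIAdd_eq, Cfsg.Agent.LsF.instIDecEq_eq, Cfsg.Agent.LsF.idecLe_eq, Cfsg.Agent.LsF.idecLt_eq, Cfsg.Agent.LsF.dNot_eq, Cfsg.Agent.LsF.length_eq, Cfsg.Agent.LsF.decide_eq])); decide +kernel))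

private noncomputable def _root_.Cfsg.Agent.LsF.f7f7353_29 : {f // @Cfsg.Lie.ChevalleyDatum.chainCoeff = f} := ⟨_, by first | (delta Cfsg.Lie.ChevalleyDatum.chainCoeff; rewrite [Cfsg.Agent.LsF.nadd_pat, Cfsg.Agent.LsF.instDecEq_eq, Cfsg.Agent.LsF.map_eq, Cfsg.Agent.LsF.flatMap_eq, Cfsg.Agent.LsF.filter_eq, Cfsg.Agent.LsF.agetD_eq, Cfsg.Agent.LsF.zipIdx_eq, Cfsg.Agent.LsF.decide_eq]; exact rfl) | exact rfl⟩
private noncomputable def _root_.Cfsg.Agent.LsF.f7f7353_30 : {f // @Cfsg.Agent.H288.E8L.Ncf = f} := ⟨_, by first | (delta Cfsg.Agent.H288.E8L.Ncf; rewrite [Cfsg.Agent.LsF.f7f7353_29.2, Cfsg.Agent.LsF.map_eq, Cfsg.Agent.LsF.sum_eq, Cfsg.Agent.LsF.instIAdd_eq]; exact rfl) | exact rfl⟩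
private noncomputable def _root_.Cfsg.Agent.LsF.f7f7353_31 : {f // @Cfsg.Lie.ChevalleyDatum.cartan = f} := ⟨_, by first | (delta Cfsg.Lie.ChevalleyDatum.cartan; rewrite [Cfsg.Agent.LsF.agetD_eq]; exact rfl) | exact rfl⟩
private noncomputable def _root_.Cfsg.Agent.LsF.f7f7353_32 : {f // @Cfsg.Agent.ChevalleyStructure.CoxeterGeomTypes.cartanOf = f} := ⟨_, by first | (delta Cfsg.Agent.ChevalleyStructure.CoxeterGeomTypes.cartanOf; rewrite [Cfsg.Agent.LsF.f7f7353_31.2, Cfsg.Agent.LsF.f7f7353_25.2]; exact rfl) | exact rfl⟩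
private noncomputable def _root_.Cfsg.Agent.LsF.f7f7353_33 : {f // @Cfsg.Agent.H288.E8L.chkC = f} := ⟨_, by first | (delta Cfsg.Agent.H288.E8L.chkC; rewrite [Cfsg.Agent.LsF.f7f7353_11.2, Cfsg.Agent.LsF.f7f7353_15.2, Cfsg.Agent.LsF.f7f7353_8.2, Cfsg.Agent.LsF.f7f7353_16.2, Cfsg.Agent.LsF.f7f7353_5.2, Cfsg.Agent.LsF.f7f7353_30.2, Cfsg.Agent.LsF.f7f7353_21.2, Cfsg.Agent.LsF.f7f7353_22.2, Cfsg.Agent.LsF.f7f7353_32.2, Cfsg.Agent.LsF.f7f7353_26.2, Cfsg.Agent.LsF.f7f7353_27.2, Cfsg.Agent.LsF.f7f7353_28.2, Cfsg.Agent.LsF.ndiv_pat, Cfsg.Agent.LsF.nmod_pat, Cfsg.Agent.LsF.isub_pat, Cfsg.Agent.LsF.imod_pat, Cfsg.Agent.LsF.and_eq, Cfsg.Agent.LsF.instDecEq_eq, Cfsg.Agent.LsF.decLt_eq, Cfsg.Agent.LsF.testBit_eq, Cfsg.Agent.LsF.all_eq, Cfsg.Agent.LsF.any_eq, Cfsg.Agent.LsF.range_eq, Cfsg.Agent.LsF.getD_eq, Cfsg.Agent.LsF.agetD_eq, Cfsg.Agent.LsF.instIDecEq_eq, Cfsg.Agent.LsF.idecLe_eq, Cfsg.Agent.LsF.idecLt_eq,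 Cfsg.Agent.LsF.dNot_eq, Cfsg.Agent.LsF.length_eq, Cfsg.Agent.LsF.decide_eq]; (try delta Cfsg.Agent.H288.E8L.chkC.match_1); (try delta Cfsg.Agent.H288.E8L.Crt.casesOn); exact rfl) | exact rfl⟩
theorem c7 : ((List.range 128).all fun m => (m == 91) || chkC D7 m (C7.getD m .skip)) = true := by ((try (rewrite [Cfsg.Agent.LsF.f7f7353_33.2, Cfsg.Agent.LsF.nbeq_pat, Cfsg.Agent.LsF.or_eq, Cfsg.Agent.LsF.all_eq, Cfsg.Agent.LsF.range_eq, Cfsg.Agent.LsF.getD_eq])); decide +kernel)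

theorem s1 : chkT D7 91 12 18 24 14 6 [-194, 123, 18, -113, 128, -21, 16, 2] = true := by decide +kernel

theorem s2 : chkT D7 91 12 26 16 14 151 [-40, 4, 7, -6, 28, -26, 4, 0] = true := by decide +kernel

theorem s3 : chkT D7 91 16 18 24 26 7 [-184, 11, 94, -82, 88, -9, 11, 1] = true := by decide +kernel

theorem s4 : ¬ (3 : ℤ) ∣ Ncf (D7.ix.getD 16 0) (D7.ix.getD 18 0) 7 * Ncf (D7.ix.getD 24 0) (D7.ix.getD 14 0) 6 *
    Ncf (D7.ix.getD 12 0) (D7.ix.getD 26 0) 151 +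
  Ncf (D7.ix.getD 24 0) (D7.ix.getD 26 0) 7 * Ncf (D7.ix.getD 16 0) (D7.ix.getD 14 0) 151 *
    Ncf (D7.ix.getD 12 0) (D7.ix.getD 18 0) 6 := by decide +kernel

end Cfsg.Agent.H288.E8L
end

-- part: H288/E8L/TabMain
section
/-!
# The conclusion from the tables
-/

set_option autoImplicit false
set_option linter.unusedSectionVars false
set_option maxRecDepth 100000

namespace Cfsg.Agent.H288.E8L

open CoxeterSystem Cfsg Cfsg.Lie Cfsg.Lie.ChevalleyDatum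
open Cfsg.Agent.ChevalleyStructure Cfsg.Agent.ChevalleyStructure.Elts Cfsg.Agent.ChevalleyStructure.CoxeterGeom
  Cfsg.Agent.ChevalleyStructure.CoxeterGeomTypes Cfsg.Agent.ChevalleyStructure.RootVec
  Cfsg.Agent.ChevalleyStructure.RootVecTab
open Cfsg.Agent.Tits.Roots Cfsg.Agent.Tits.Core Cfsg.Agent.Nodes Cfsg.Agent.Nodes.Reps Cfsg.Agent.Nodes.BNOf
  Cfsg.Agent.Nodes.RGDChev
open Cfsg.Agent.GpExc.Field Cfsg.Agent.BpExc.TowChev Cfsg.Agent.H129.TorusChar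
open Cfsg.Agent.KFacts.RgdChevCoord
open Cfsg.Agent.H942.E8Tab Cfsg.Agent.H942.E8Alc Cfsg.Agent.H942.CB Cfsg.Agent.H944.Tab Cfsg.Agent.H944.Kac
open Matrix

/-- the parts of the geometric checks -/
structure Geo (D : Dat) : Prop where
  len : D.Y.length = 8
  okw : ∀ i ∈ D.w, i < 8
  okD : okD D = true
  kap : ∀ k < 28, (dt (YZ D.Y) (D.RV.getD k []) - 3 ^ (k % 4)) % 40 = 0
  cls : ∀ s < 240, dt (YZ D.Y) (vl s) % 40 ∈ [(1 : ℤ), 3, 9, 27] → s ∈ D.ix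
  phi : ∀ k < 28, k % 4 ≠ 3 → ∀ i : Fin 8, dt (actW D.w (un i)) (D.RV.getD k []) = (D.RV.getD (k + 1) []).getD i 0
  tw : ∀ i : Fin 8, ((40 : ℕ) : ℤ) ∣ (actW D.w (YZ D.Y)).getD i 0 - 3 * (YZ D.Y).getD i 0
  alc : dotN th8 D.Y < 40
  one : ∀ i < 8, 1 ≤ D.Y.getD i 0

theorem geo_of {D : Dat} (h : chkG D = true) : Geo D := by
  unfold chkG at h
  simp only [Bool.and_eq_true, decide_eq_true_eq, List.all_eq_true, Bool.or_eq_true, Bool.not_eq_true',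
    List.mem_range] at h
  obtain ⟨⟨⟨⟨⟨⟨⟨⟨h1, h2⟩, h3⟩, h4⟩, h5⟩, h6⟩, h7⟩, h8⟩, h9⟩ := h
  refine ⟨h1, okw_spec h2, h3, h4, fun s hs hm => ?_, fun k hk h3' i => (h6 k hk).resolve_left h3' i.val i.2,
    fun i => Int.dvd_of_emod_eq_zero (h7 i.val i.2), h8, h9⟩
  rcases h5 s hs with h | h
  · rw [← Bool.not_eq_true, List.contains_iff_mem] at h
    exact absurd hm h
  · rwa [List.contains_iff_mem] at h

/-- the conclusion -/
def Concl (W : Subgroup GK) (D : Dat) : Prop :=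
  ∃ e : List ℤ, e.length = 8 ∧ (∃ i < 8, e.getD i 0 % 2 ≠ 0) ∧ (∀ x : Q8, (2 : ℤ) ∣ fz e (act8 (word D.w) x) - fz e x) ∧
    ∀ a ∈ Ind W, (2 : ℤ) ∣ fz e a

section C

variable {W : Subgroup GK} {f : Q8 →+ ℤ} (hW : ∀ g ∈ W, Uni f (mx g)) (hc : ∀ g ∈ W, ∀ g' ∈ W, g * g' = g' * g)
  {D : Dat} (hG : Geo D) {m : ℕ} (hS : ∀ a, a ∈ Ind W ↔ ∃ r ∈ sup D m, toV r = a)
  {F : Type} [Field F] (ι : F →+* K8) (u : F → GK) (hu : ∀ x, u x ∈ W)
  (hι : ∀ i j, i < 4 → j < 4 → (∀ y : F, ι y ^ 3 ^ i = ι y ^ 3 ^ j) → i = j)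
  (hcf : ∀ k < 28, m.testBit (k / 4) = true →
    ∃ c : K8, c ≠ 0 ∧ ∀ x, cf (fi (D.ix.getD k 0)) (mx (u x)) = c * ι x ^ 3 ^ (k % 4))
  (hb : ∀ s : Fin chevE8.nroots, (∀ a ∈ Ind W, 0 ≤ H943.LatFix.ip (cartanOf chevE8 8) (_root_.Cfsg.Agent.Nodes.RGDChev.vec chevE8 8 s) a) →
      (2 : ℤ) • _root_.Cfsg.Agent.Nodes.RGDChev.vec chevE8 8 s ∈ CL W)

include hG hS in
theorem sound_eps {e : List ℤ} (h : chkC D m (.eps e) = true) : Concl W D := by
  unfold chkC at h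
  simp only [Bool.and_eq_true, decide_eq_true_eq, List.all_eq_true, List.any_eq_true, List.mem_range] at h
  obtain ⟨⟨⟨h1, h2⟩, h3⟩, h4⟩ := h
  refine ⟨e, h1, h2, fun x => ?_, fun a ha => ?_⟩
  · rw [← fz_actW D.w hG.okw h1]
    have := fz_dvd (m := 2) (q := 1) (c := actW D.w e) (c' := e) (fun i => by
      rw [one_mul]
      exact Int.dvd_of_emod_eq_zero (h3 i.val i.2)) x
    rwa [one_mul] at this
  · obtain ⟨r, hr, rfl⟩ := (hS a).1 ha
    have := h4 r hr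
    rw [dt_fz (len_sup hG.okD r hr).le] at this
    exact Int.dvd_of_emod_eq_zero this

include hW hc hG hS hu hι hcf hb in
theorem sound {C : Crt} (h : chkC D m C = true) : Concl W D := by
  cases C with
  | eps e => exact sound_eps hG hS h
  | unq k1 k2 iu l => exact (sound_unq hW hc hG.okD hS ι u hu hι hcf h).elim
  | hw ib l => exact (sound_hw hW hS (len_sup hG.okD) hb h).elim
  | dep N => exact (sound_dep hW hS h).elim
  | skip => exact absurd h Bool.false_ne_true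

end C

section C

variable {W : Subgroup GK} {f : Q8 →+ ℤ} (hW : ∀ g ∈ W, Uni f (mx g)) (hc : ∀ g ∈ W, ∀ g' ∈ W, g * g' = g' * g)
  {F : Type} [Field F] (ι : F →+* K8) (u : F → GK) (hu : ∀ x, u x ∈ W)
  (hι : ∀ i j, i < 4 → j < 4 → (∀ y : F, ι y ^ 3 ^ i = ι y ^ 3 ^ j) → i = j)
  (hb : ∀ s : Fin chevE8.nroots, (∀ a ∈ Ind W, 0 ≤ H943.LatFix.ip (cartanOf chevE8 8) (_root_.Cfsg.Agent.Nodes.RGDChev.vec chevE8 8 s) a) →
      (2 : ℤ) • _root_.Cfsg.Agent.Nodes.RGDChev.vec chevE8 8 s ∈ CL W)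

include hW hc hu hι hb

theorem concl5 {m : ℕ} (hm : m < 128) (hS : ∀ a, a ∈ Ind W ↔ ∃ r ∈ sup D5 m, toV r = a)
    (hcf : ∀ k < 28, m.testBit (k / 4) = true →
      ∃ c : K8, c ≠ 0 ∧ ∀ x, cf (fi (D5.ix.getD k 0)) (mx (u x)) = c * ι x ^ 3 ^ (k % 4)) : Concl W D5 := by
  have h := c5
  rw [List.all_eq_true] at h
  exact sound hW hc (geo_of g5) hS ι u hu hι hcf hb (h m (List.mem_range.2 hm))

theorem concl7 {m : ℕ} (hm : m < 128) (hS : ∀ a, a ∈ Ind W ↔ ∃ r ∈ sup D7 m, toV r = a)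
    (hcf : ∀ k < 28, m.testBit (k / 4) = true →
      ∃ c : K8, c ≠ 0 ∧ ∀ x, cf (fi (D7.ix.getD k 0)) (mx (u x)) = c * ι x ^ 3 ^ (k % 4)) : Concl W D7 := by
  have h := c7
  rw [List.all_eq_true] at h
  have h1 := h m (List.mem_range.2 hm)
  rw [Bool.or_eq_true] at h1
  rcases h1 with h1 | h1
  · exfalso
    have h91 : m = 91 := by simpa using h1
    subst h91
    have r1 := sound_two hW hc (geo_of g7).okD hS ι u hu hι hcf s1
    have r2 := sound_two hW hc (geo_of g7).okD hS ι u hu hι hcf s2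
    have r3 := sound_two hW hc (geo_of g7).okD hS ι u hu hι hcf s3
    have hne : ∀ k < 28, Nat.testBit 91 (k / 4) = true → cf (fi (D7.ix.getD k 0)) (mx (u 1)) ≠ 0 := by
      intro k hk hb
      obtain ⟨c, hc0, hc1⟩ := hcf k hk hb
      rw [hc1, map_one, one_pow, mul_one]
      exact hc0
    have n16 := hne 16 (by norm_num) (by decide)
    have n24 := hne 24 (by norm_num) (by decide)
    have n14 := hne 14 (by norm_num) (by decide)
    have h4 := fun e => s4 ((CharP.intCast_eq_zero_iff K8 3 _).1 e)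
    apply h4
    push_cast
    have h5 : cf (fi (D7.ix.getD 16 0)) (mx (u 1)) * cf (fi (D7.ix.getD 24 0)) (mx (u 1)) *
        cf (fi (D7.ix.getD 14 0)) (mx (u 1)) ≠ 0 := mul_ne_zero (mul_ne_zero n16 n24) n14
    refine (mul_eq_zero.1 ?_).resolve_left h5
    linear_combination (-1 : K8) * ((Ncf (D7.ix.getD 12 0) (D7.ix.getD 18 0) 6 : ℤ) : K8) *
      ((Ncf (D7.ix.getD 12 0) (D7.ix.getD 26 0) 151 : ℤ) : K8) * cf (fi (D7.ix.getD 12 0)) (mx (u 1)) * r3 +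
      ((Ncf (D7.ix.getD 12 0) (D7.ix.getD 26 0) 151 : ℤ) : K8) * ((Ncf (D7.ix.getD 16 0) (D7.ix.getD 18 0) 7 : ℤ) : K8) *
        cf (fi (D7.ix.getD 16 0)) (mx (u 1)) * r1 +
      ((Ncf (D7.ix.getD 12 0) (D7.ix.getD 18 0) 6 : ℤ) : K8) * ((Ncf (D7.ix.getD 24 0) (D7.ix.getD 26 0) 7 : ℤ) : K8) *
        cf (fi (D7.ix.getD 24 0)) (mx (u 1)) * r2
  · exact sound hW hc (geo_of g7) hS ι u hu hι hcf hb h1

end C

end Cfsg.Agent.H288.E8L
end

-- part: H948/E8/RegPar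
section
/-!
# Regular torus elements in parabolic subgroups of a group with root group data

* `mem_PJ_mul_NN` : if `q t q⁻¹ ∈ P_J` for a regular `t ∈ T` then `q ∈ P_J N`;
* `borel_tits_reg` : a `p`-subgroup normalised by `y = z t z⁻¹`, `t` regular, lies in `z ⟨X a : f a > 0⟩ z⁻¹`.
-/

set_option autoImplicit false
set_option linter.unusedSectionVars false

namespace Cfsg.Agent.H948.E8.RegPar

open CoxeterSystem Cfsg.Agent.ChevalleyStructure.CoxeterGeom Cfsg.Agent.Tits.Roots Cfsg.Agent.Tits.Core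
  Cfsg.Agent.Tits.RootComb Cfsg.Agent.Tits.Exchange Cfsg.Agent.Nodes.Reps Cfsg.Agent.Nodes.BNOf
  Cfsg.Agent.Nodes.StabComb Cfsg.Agent.Nodes.Bruhat Cfsg.Agent.Nodes.OppDec Cfsg.Agent.Nodes.LeviDec
  Cfsg.Agent.Nodes.NormalForm Cfsg.Agent.KFacts.RgdPar Cfsg.Agent.KFacts.RgdBorelTits

variable {I W Y : Type*} [Fintype I] [DecidableEq I] [Group W] [Group Y] {M : CoxeterMatrix I}
  {cs : CoxeterSystem M W} {A : I → I → ℤ} {h : IsCartan M A} {p : ℕ} {T : Subgroup Y} {n : I → Y}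
  {X : (I → ℤ) → Subgroup Y}

/-- a torus element is regular -/
def Regular (cs : CoxeterSystem M W) (h : IsCartan M A) (X : (I → ℤ) → Subgroup Y) (t : Y) : Prop :=
  ∀ x, IsRoot cs h x → ∀ a ∈ X x, t * a = a * t → a = 1

/-- minimal coset representatives -/
theorem exists_min_rep (J : Set I) (w : W) : ∃ a ∈ WJ cs J, ∃ v : W, w = a * v ∧ ∀ j ∈ J, 0 ≤ rep cs h v⁻¹ (sr j) := by
  obtain ⟨a, ha, hmin⟩ := Nodes.Comb.exists_min (cs := cs) w⁻¹ J
  refine ⟨a, ha, a⁻¹ * w, by group, fun j hj => ?_⟩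
  have h1 := Nodes.Comb.nonneg_of_min cs h ha hmin hj
  have e : (a⁻¹ * w)⁻¹ = w⁻¹ * a := by group
  rw [e]
  exact h1

theorem rep_nonneg_of_RootsJ {J : Set I} {v : W} (hv : ∀ j ∈ J, 0 ≤ rep cs h v⁻¹ (sr j)) {x : I → ℤ} (h0 : 0 ≤ x)
    (hx : ∀ k, k ∉ J → x k = 0) : 0 ≤ rep cs h v⁻¹ x := by
  have e := eq_sum_sr x
  rw [e, map_sum]
  refine Finset.sum_nonneg fun k _ => ?_
  rw [map_zsmul]
  by_cases hk : k ∈ J
  · exact smul_nonneg (h0 k) (hv k hk)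
  · rw [hx k hk, zero_smul]

/-- the positive roots made negative by a minimal representative -/
theorem act_NW {J : Set I} {v : W} (hv : ∀ j ∈ J, 0 ≤ rep cs h v⁻¹ (sr j)) {x : I → ℤ} (hx : x ∈ NW cs h v) :
    rep cs h v x ∈ NotNJ cs h J := by
  obtain ⟨hr, h0, h1⟩ := hx
  have hr1 := hr.act v
  have hr2 : IsRoot cs h (-rep cs h v x) := hr1.neg
  rcases mem_PosJ_or_NotJ (cs := cs) (h := h) J hr2 (neg_nonneg.2 h1) with h2 | h2
  · exfalso
    have h3 := rep_nonneg_of_RootsJ hv h2.2.1 h2.2.2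
    rw [map_neg, rep_inv_apply] at h3
    exact hr.not_pos_neg h0 (neg_nonneg.1 h3)
  · exact h2

variable (R : RGD cs h p T n X)

include R

/-- the centraliser of a regular element in `U` is trivial -/
theorem eq_one_of_regular [Finite W] {t : Y} (ht : t ∈ T) (hreg : Regular cs h X t) {v : Y}
    (hv : v ∈ RGD.Sup X (RGD.Pos cs h)) (hc : t * v = v * t) : v = 1 := by
  have h1 : v ∈ RGD.Sup X (RGD.Pos cs h) ⊓ Subgroup.centralizer {t} :=
    ⟨hv, Subgroup.mem_centralizer_singleton_iff.2 hc.symm⟩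
  rw [centralizer_U R (Set.singleton_subset_iff.2 ht)] at h1
  have h2 : RGD.Sup (fun x => X x ⊓ Subgroup.centralizer {t}) (RGD.Pos cs h) ≤ ⊥ := by
    refine RGD.Sup_le fun x hx => ?_
    rintro a ⟨ha, hac⟩
    exact Subgroup.mem_bot.2 (hreg x hx.1 a ha (Subgroup.mem_centralizer_singleton_iff.1 hac).symm)
  exact Subgroup.mem_bot.1 (h2 h1)

/-- **An element which carries a regular torus element into `P_J` lies in `P_J N`.** -/
theorem mem_PJ_mul_NN [Finite W] {J : Set I} {q t : Y} (hq : q ∈ GG cs h T X) (ht : t ∈ T)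
    (hreg : Regular cs h X t) (hP : q * t * q⁻¹ ∈ PJ cs h T X J) :
    ∃ b ∈ PJ cs h T X J, ∃ w k, Rp cs R.nsys w k ∧ q = b * k := by
  obtain ⟨w, hw⟩ := (mem_GG R).1 hq
  obtain ⟨u, hu, k, hk, v, hv, rfl⟩ := exists_normal_form R hw
  obtain ⟨a, ha, w', rfl, hmin⟩ := exists_min_rep (h := h) J w
  obtain ⟨l, hl⟩ := exists_rp cs R.nsys a
  have hlP : l ∈ PJ cs h T X J := LJ_le_PJ (rp_mem_LJ R ha hl)
  have hk' : Rp cs R.nsys w' (l⁻¹ * k) := by
    have h1 := hl.inv.mul hk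
    rwa [inv_mul_cancel_left] at h1
  set k' := l⁻¹ * k with hk'def
  have hkk : k = l * k' := by rw [hk'def]; group
  have hvU : v ∈ RGD.Sup X (RGD.Pos cs h) :=
    RGD.Sup_mono (S := NW cs h (a * w')) (S' := RGD.Pos cs h) (fun x hx => ⟨hx.1, hx.2.1⟩) hv
  obtain ⟨v1, hv1, v2, hv2, rfl⟩ := exists_PW_NW R w' hvU
  have hv1U : k' * v1 * k'⁻¹ ∈ RGD.Sup X (RGD.Pos cs h) :=
    conj_mem_Sup R hk' (S' := RGD.Pos cs h) (fun x hx => hx.1) (fun x hx => ⟨hx.1.act _, hx.2.2⟩) hv1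
  have hUP : RGD.Sup X (RGD.Pos cs h) ≤ PJ cs h T X J := le_trans RGD.U_le_B B_le_PJ
  have hb : u * l * (k' * v1 * k'⁻¹) ∈ PJ cs h T X J := mul_mem (mul_mem (hUP hu) hlP) (hUP hv1U)
  have hqe : u * k * (v1 * v2) = u * l * (k' * v1 * k'⁻¹) * (k' * v2) := by rw [hkk]; group
  set b := u * l * (k' * v1 * k'⁻¹) with hbdef
  rw [hqe] at hP ⊢
  -- `k' v2 t v2⁻¹ k'⁻¹ ∈ P_J`
  have h1 : k' * v2 * t * (k' * v2)⁻¹ ∈ PJ cs h T X J := by
    have h2 := mul_mem (mul_mem (inv_mem hb) hP) hb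
    have e : b⁻¹ * (b * (k' * v2) * t * (b * (k' * v2))⁻¹) * b = k' * v2 * t * (k' * v2)⁻¹ := by group
    rwa [e] at h2
  have htk : k' * t * k'⁻¹ ∈ T := (Subgroup.mem_normalizer_iff.1 hk'.mem_normalizer t).1 ht
  have hTP : T ≤ PJ cs h T X J := le_trans T_le_LJ LJ_le_PJ
  have hcN : t⁻¹ * v2 * t * v2⁻¹ ∈ RGD.Sup X (NW cs h w') := by
    refine mul_mem ?_ (inv_mem hv2)
    have h2 := (Subgroup.mem_normalizer_iff.1 (R.T_le_normalizer (S := NW cs h w') (fun x hx => hx.1)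
      (inv_mem ht)) v2).1 hv2
    rwa [inv_inv] at h2
  have h2 : k' * (t⁻¹ * v2 * t * v2⁻¹) * k'⁻¹ ∈ VNJ cs h X J :=
    conj_mem_Sup R hk' (S' := NotNJ cs h J) (fun x hx => hx.1) (fun x hx => act_NW hmin hx) hcN
  have h3 : k' * (t⁻¹ * v2 * t * v2⁻¹) * k'⁻¹ ∈ PJ cs h T X J := by
    have h4 := mul_mem (hTP (inv_mem htk)) h1
    have e : (k' * t * k'⁻¹)⁻¹ * (k' * v2 * t * (k' * v2)⁻¹) = k' * (t⁻¹ * v2 * t * v2⁻¹) * k'⁻¹ := by group
    rwa [e] at h4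
  have h4 := eq_one_of_mem_VNJ_of_mem_PJ R h2 h3
  have h5 : t⁻¹ * v2 * t * v2⁻¹ = 1 := by
    have e : t⁻¹ * v2 * t * v2⁻¹ = k'⁻¹ * (k' * (t⁻¹ * v2 * t * v2⁻¹) * k'⁻¹) * k' := by group
    rw [e, h4]; group
  have h6 : t * v2 = v2 * t := by
    have e : v2 * t = t * (t⁻¹ * v2 * t * v2⁻¹) * v2 := by group
    rw [e, h5, mul_one]
  have h7 : v2 = 1 := eq_one_of_regular R ht hreg
    (RGD.Sup_mono (S := NW cs h w') (S' := RGD.Pos cs h) (fun x hx => ⟨hx.1, hx.2.1⟩) hv2) h6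
  exact ⟨b, hb, w', k', hk', by rw [h7, mul_one]⟩

omit R in
/-- the functional of `J` -/
noncomputable def fJ (J : Set I) : (I → ℤ) →+ ℤ := by
  classical
  exact { toFun := fun x => ∑ i, if i ∈ J then 0 else x i
          map_zero' := by simp only [_root_.Pi.zero_apply, _root_.ite_self, _root_.Finset.sum_const_zero]
          map_add' := fun x y => by
            rw [← Finset.sum_add_distrib]
            refine Finset.sum_congr rfl fun i _ => ?_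
            split_ifs <;> simp }

omit R in
theorem fJ_pos {J : Set I} {x : I → ℤ} (h0 : 0 ≤ x) (hk : ∃ k, k ∉ J ∧ 0 < x k) : 0 < fJ J x := by
  classical
  obtain ⟨k, hk, hk0⟩ := hk
  have e : fJ J x = ∑ i, if i ∈ J then 0 else x i := by
    unfold fJ
    simp only [AddMonoidHom.coe_mk, ZeroHom.coe_mk]
  rw [e]
  refine lt_of_lt_of_le hk0 ?_
  have h1 : (if k ∈ J then 0 else x k) ≤ ∑ i, if i ∈ J then 0 else x i :=
    Finset.single_le_sum (f := fun i => if i ∈ J then (0 : ℤ) else x i) (fun i _ => by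
      show (0 : ℤ) ≤ if i ∈ J then (0 : ℤ) else x i
      split_ifs
      · exact le_rfl
      · exact h0 i) (Finset.mem_univ k)
  rwa [if_neg hk] at h1

/-- **Borel–Tits with a regular element.** -/
theorem borel_tits_reg [Finite W] [Finite Y] [Fact p.Prime] {F : (I → ℤ) → ℝ → Subgroup Y} (hF : Filt R F)
    (hG : GG cs h T X = ⊤) {K : Subgroup Y} (hK : IsPGroup p K) {y z t : Y}
    (hy : y ∈ Subgroup.normalizer (K : Set Y)) (hz : z⁻¹ * y * z = t) (ht : t ∈ T) (hreg : Regular cs h X t) :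
    ∃ f : (I → ℤ) →+ ℤ, ∀ u ∈ K, z⁻¹ * u * z ∈ RGD.Sup X {a | IsRoot cs h a ∧ 0 < f a} := by
  by_cases hK1 : K = ⊥
  · refine ⟨0, fun u hu => ?_⟩
    rw [hK1, Subgroup.mem_bot] at hu
    rw [hu, mul_one, inv_mul_cancel]
    exact one_mem _
  obtain ⟨g, J, hJ, h1, h2⟩ := borel_tits hF hG hK hK1
  have h3 : g⁻¹ * y * g ∈ PJ cs h T X J := by
    have := h2 hy
    exact mem_cj.1 this
  have e1 : (g⁻¹ * z) * t * (g⁻¹ * z)⁻¹ = g⁻¹ * y * g := by rw [← hz]; group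
  obtain ⟨b, hb, w, k, hk, hq⟩ := mem_PJ_mul_NN R (J := J) (q := g⁻¹ * z) (by rw [hG]; exact Subgroup.mem_top _) ht
    hreg (by rw [e1]; exact h3)
  refine ⟨(fJ J).comp (rep cs h w).toAddMonoidHom, fun u hu => ?_⟩
  have h4 : g⁻¹ * u * g ∈ VJ cs h X J := mem_cj.1 (h1 hu)
  have h5 : b⁻¹ * (g⁻¹ * u * g) * b ∈ VJ cs h X J := by
    have := (Subgroup.mem_normalizer_iff.1 (PJ_le_normalizer_VJ R J (inv_mem hb)) (g⁻¹ * u * g)).1 h4
    rwa [inv_inv] at this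
  have h6 := conj_mem_Sup R hk.inv (S := NotJ cs h J)
    (S' := {a | IsRoot cs h a ∧ 0 < ((fJ J).comp (rep cs h w).toAddMonoidHom) a}) (fun x hx => hx.1)
    (fun x hx => ⟨hx.1.act _, by
      show 0 < fJ J (rep cs h w (rep cs h w⁻¹ x))
      rw [rep_apply_inv]
      exact fJ_pos hx.2.1 hx.2.2⟩) h5
  rw [inv_inv] at h6
  have e2 : z⁻¹ * u * z = k⁻¹ * (b⁻¹ * (g⁻¹ * u * g) * b) * k := by
    have : z = g * (b * k) := by rw [← hq]; group
    rw [this]; group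
  rw [e2]
  exact h6

end Cfsg.Agent.H948.E8.RegPar
end

-- part: H948/E8BT
section
/-!
# `E8L.BT`: Borel–Tits for a 3-subgroup of `E₈(3)` normalised by a regular semisimple element
-/

set_option autoImplicit false
set_option linter.unusedSectionVars false

namespace Cfsg.Agent.H948.E8BT

open CoxeterSystem Cfsg Cfsg.Lie Cfsg.Lie.ChevalleyDatum
open Cfsg.Agent.ChevalleyStructure Cfsg.Agent.ChevalleyStructure.Elts Cfsg.Agent.ChevalleyStructure.CoxeterGeom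
  Cfsg.Agent.ChevalleyStructure.CoxeterGeomTypes
open Cfsg.Agent.Tits.Roots Cfsg.Agent.Tits.Core Cfsg.Agent.Nodes Cfsg.Agent.Nodes.Reps Cfsg.Agent.Nodes.BNOf
  Cfsg.Agent.Nodes.RGDChev Cfsg.Agent.Nodes.Bruhat
open Cfsg.Agent.GpExc.Field Cfsg.Agent.BpExc.TowChev Cfsg.Agent.H129.TorusChar
open Cfsg.Agent.KFacts Cfsg.Agent.KFacts.RgdChevCoord Cfsg.Agent.H948.E8.RegPar

universe u

section Gen

variable {D : ChevalleyDatum} {l : ℕ} {M : CoxeterMatrix (Fin l)} (hp : IsType D l M) {W : Type*} [Group W]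
  (cs : CoxeterSystem M W) {k : Type u} [Field k] (hk : LocFin k) (r : ℕ) [Fact r.Prime] [CharP k r]

include hk r

/-- regularity of the torus elements of the levels -/
theorem regular_lev {E : Lev k} {t : ↥(D.group ↥E.1)} (ht : t ∈ TT D ↥E.1)
    (hreg : ∀ a, IsRoot cs hp.isCartan a → cX hp (emb hp.inList E.1.subtype t) a ≠ 1) :
    Regular cs hp.isCartan (XX D l ↥E.1) t := by
  intro x hx a ha hc
  have C := (coordsL (k := k) hp cs hk r).coord x hx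
  have hT : emb hp.inList E.1.subtype t ∈ TT D k := emb_T hp _ ⟨t, ht, rfl⟩
  have hX : emb hp.inList E.1.subtype a ∈ XX D l k x := emb_X hp _ cs hx ⟨a, ha, rfl⟩
  obtain ⟨s, hs⟩ := (C.mem _).1 hX
  have h1 := C.act _ hT s
  have h2 : emb hp.inList E.1.subtype t * emb hp.inList E.1.subtype a * (emb hp.inList E.1.subtype t)⁻¹ =
      emb hp.inList E.1.subtype a := by
    rw [← map_mul, hc, map_mul, mul_inv_cancel_right]
  rw [hs, h2, ← hs] at h1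
  have h3 := C.inj h1
  have h4 : ch hp x (emb hp.inList E.1.subtype t) ≠ 1 := by
    rw [← cX_root hp cs hT hx]
    exact hreg x hx
  have h5 : s = 0 := by
    by_contra h0
    apply h4
    exact (mul_eq_right₀ h0).1 h3.symm
  apply emb_injective hp.inList E.1.subtype
  rw [map_one, ← hs, h5]
  exact C.zero

/-- **Borel–Tits with a regular element in `D.group k`, `k` locally finite.** -/
theorem bt_gen {K : Subgroup ↥(D.group k)} (hfin : (K : Set ↥(D.group k)).Finite) (hK : IsPGroup r K)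
    {y z t : ↥(D.group k)} (hy : y ∈ Subgroup.normalizer (K : Set ↥(D.group k))) (hz : z⁻¹ * y * z = t)
    (ht : t ∈ TT D k) (hreg : ∀ a, IsRoot cs hp.isCartan a → cX hp t a ≠ 1) :
    ∃ f : (Fin l → ℤ) →+ ℤ, ∀ u ∈ K, z⁻¹ * u * z ∈ RGD.Sup (XX D l k) {a | IsRoot cs hp.isCartan a ∧ 0 < f a} := by
  have hWf := finite_W hp cs
  obtain ⟨E1, h1⟩ := exists_TT hp hk ht
  obtain ⟨E2, h2⟩ := exists_level_finite hp hk (S := (K : Set ↥(D.group k)) ∪ {z}) (hfin.union (Set.finite_singleton z))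
  obtain ⟨E, h3, h4⟩ := dir_lev hk E1 E2
  obtain ⟨t', ht', rfl⟩ := h1 E h3
  have hr := h2 E h4
  have := charP_lev r E.1
  set f := emb hp.inList E.1.subtype with hf
  have hinj : Function.Injective f := emb_injective hp.inList _
  obtain ⟨z', rfl⟩ := hr (Or.inr rfl)
  obtain ⟨y', rfl⟩ : ∃ y', f y' = y := by
    refine ⟨z' * t' * z'⁻¹, ?_⟩
    rw [map_mul, map_mul, map_inv, ← hz]; group
  have hKr : K ≤ f.range := fun u hu => hr (Or.inl hu)
  have hmap : (K.comap f).map f = K := by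
    rw [Subgroup.map_comap_eq, inf_eq_right]
    exact hKr
  have hK' : IsPGroup r (K.comap f) := hK.comap_of_injective f hinj
  have hy' : y' ∈ Subgroup.normalizer (K.comap f : Set ↥(D.group ↥E.1)) := by
    rw [Subgroup.mem_normalizer_iff] at hy ⊢
    intro u
    have := hy (f u)
    rw [← map_inv, ← map_mul, ← map_mul] at this
    exact this
  have hz' : z'⁻¹ * y' * z' = t' := by
    apply hinj
    rw [map_mul, map_mul, map_inv]
    exact hz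
  have hGG : GG cs hp.isCartan (TT D ↥E.1) (XX D l ↥E.1) = ⊤ := by
    rw [eq_top_iff, ← G1_eq_top hp cs]
    exact le_sup_right
  have : Finite ↥(D.group ↥E.1) := finite_group
  obtain ⟨F, hF⟩ := borel_tits_reg (rgd (K := ↥E.1) hp cs r) (RgdFiltChev.filt (K := ↥E.1) hp cs r) hGG hK' hy' hz'
    ht' (regular_lev hp cs hk r ht' hreg)
  refine ⟨F, fun u hu => ?_⟩
  rw [← hmap] at hu
  obtain ⟨u', hu', rfl⟩ := hu
  have h5 := hF u' hu'
  rw [← map_inv, ← map_mul, ← map_mul]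
  have h6 : RGD.Sup (XX D l ↥E.1) {a | IsRoot cs hp.isCartan a ∧ 0 < F a} ≤
      (RGD.Sup (XX D l k) {a | IsRoot cs hp.isCartan a ∧ 0 < F a}).comap f := by
    refine RGD.Sup_le fun a ha => ?_
    intro x hx
    exact RGD.le_Sup (S := {a | IsRoot cs hp.isCartan a ∧ 0 < F a}) ha (emb_X hp _ cs ha.1 ⟨x, hx, rfl⟩)
  exact h6 h5

end Gen

/-- a form of `bt_gen` for images of subgroups -/
theorem bt_map {D : ChevalleyDatum} {l : ℕ} {M : CoxeterMatrix (Fin l)} (hp : IsType D l M) {W : Type*} [Group W]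
    (cs : CoxeterSystem M W) {k : Type u} [Field k] (hk : LocFin k) (r : ℕ) [Fact r.Prime] [CharP k r]
    {G : Type*} [Group G] [Finite G] (φ : G →* ↥(D.group k)) {U : Subgroup G} {y : G} {z t : ↥(D.group k)}
    (hU : IsPGroup r U) (hy : y ∈ Subgroup.normalizer (U : Set G)) (hz : z⁻¹ * φ y * z = t) (ht : t ∈ TT D k)
    (hreg : ∀ a, IsRoot cs hp.isCartan a → cX hp t a ≠ 1) :
    ∃ f : (Fin l → ℤ) →+ ℤ, ∀ u ∈ U, z⁻¹ * φ u * z ∈ RGD.Sup (XX D l k) {a | IsRoot cs hp.isCartan a ∧ 0 < f a} := by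
  have h1 : IsPGroup r (U.map φ) := hU.map φ
  have h2 : φ y ∈ Subgroup.normalizer ((U.map φ : Subgroup ↥(D.group k)) : Set ↥(D.group k)) := by
    have h3 := Subgroup.le_normalizer_map (H := U) φ
    exact h3 ⟨y, hy, rfl⟩
  have hfin : ((U.map φ : Subgroup ↥(D.group k)) : Set ↥(D.group k)).Finite := by
    rw [Subgroup.coe_map]
    exact (Set.toFinite _).image _
  obtain ⟨f, hf⟩ := bt_gen hp cs hk r hfin h1 h2 hz ht hreg
  exact ⟨f, fun u hu => hf _ ⟨u, hu, rfl⟩⟩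

/-- **BT.** -/
theorem bt : Cfsg.Agent.H288.E8L.BT := by
  intro U y z t hU hy hz ht
  have : Fact (Nat.Prime 3) := ⟨Nat.prime_three⟩
  have hfinG : Finite ↥(chevE8.group (ZMod 3)) := finite_group
  exact bt_map (D := chevE8) Cfsg.Agent.H942.E8Tab.e8T Cfsg.Agent.H942.CB.cs8 (k := Cfsg.Agent.H288.E8L.K8)
    Cfsg.Agent.H288.E8L.locFin8 3 Cfsg.Agent.H288.E8L.emb8 hU hy hz ht.1 ht.2

end Cfsg.Agent.H948.E8BT
end

-- part: H288/E8L/Frob
section
/-!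
# The Frobenius twist and the exponents of the indecomposable displacements
-/

set_option autoImplicit false
set_option linter.unusedSectionVars false
set_option maxRecDepth 100000

namespace Cfsg.Agent.H288.E8L

open CoxeterSystem Cfsg Cfsg.Lie Cfsg.Lie.ChevalleyDatum
open Cfsg.Agent.ChevalleyStructure Cfsg.Agent.ChevalleyStructure.Elts Cfsg.Agent.ChevalleyStructure.CoxeterGeom
  Cfsg.Agent.ChevalleyStructure.CoxeterGeomTypes Cfsg.Agent.ChevalleyStructure.RootVec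
  Cfsg.Agent.ChevalleyStructure.RootVecTab
open Cfsg.Agent.Tits.Roots Cfsg.Agent.Tits.Core Cfsg.Agent.Nodes Cfsg.Agent.Nodes.Reps Cfsg.Agent.Nodes.BNOf
  Cfsg.Agent.Nodes.RGDChev
open Cfsg.Agent.GpExc.Field Cfsg.Agent.BpExc.TowChev Cfsg.Agent.H129.TorusChar
open Cfsg.Agent.KFacts.RgdChevCoord
open Cfsg.Agent.H942.E8Tab Cfsg.Agent.H942.E8Alc Cfsg.Agent.H942.CB Cfsg.Agent.H944.Tab Cfsg.Agent.H944.Kac
open Matrix
open Cfsg.Agent.H943

/-! ### Frobenius -/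

theorem frb_emb (x : G8) : frb8 (emb8 x) = emb8 x := by
  show emb e8T.inList (frobenius K8 3) (emb e8T.inList (algebraMap (ZMod 3) K8) x) = _
  rw [emb_comp]
  have h : (frobenius K8 3).comp (algebraMap (ZMod 3) K8) = algebraMap (ZMod 3) K8 := Subsingleton.elim _ _
  rw [h]
  rfl

theorem frb_TT {t : GK} (ht : t ∈ TT chevE8 K8) : frb8 t ∈ TT chevE8 K8 := emb_T e8T (frobenius K8 3) ⟨t, ht, rfl⟩

theorem cX_frb {t : GK} (ht : t ∈ TT chevE8 K8) (x : Q8) : cX e8T (frb8 t) x = cX e8T t x ^ 3 := by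
  have h1 : IsMC fun x : Q8 => cX e8T t x ^ 3 :=
    ⟨by
      show cX e8T t 0 ^ 3 = 1
      rw [(isMC_cX e8T ht).zero, one_pow], fun a b => by
      show cX e8T t (a + b) ^ 3 = _
      rw [(isMC_cX e8T ht).add, mul_pow]⟩
  refine (isMC_cX e8T (frb_TT ht)).ext h1 (fun i => ?_) x
  have hr : Rt (sr i) := isRoot_sr cs8 e8T.isCartan i
  obtain ⟨s, hs⟩ := exists_idx hr
  show cX e8T (frb8 t) (sr i) = cX e8T t (sr i) ^ 3
  rw [cX_root e8T cs8 (frb_TT ht) hr, cX_root e8T cs8 ht hr, ← hs]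
  show ch e8T (_root_.Cfsg.Agent.Nodes.RGDChev.vec chevE8 8 s) (emb e8T.inList (frobenius K8 3) t) = _
  rw [emb_ch e8T (frobenius K8 3) s.2 ht, frobenius_def]

/-! ### the character of the torus element -/

theorem fz_zero (c : List ℤ) : fz c 0 = 0 := by unfold fz; simp

theorem cX_eq {Y : List ℕ} {ζ : K8} (hζ : IsPrimitiveRoot ζ 40) {t : GK} (ht : t ∈ TT chevE8 K8)
    (hv : ∀ i, cX e8T t (sr i) = ζ ^ (vecL 40 Y i).val) (a : Q8) : cX e8T t a = ζ ^ fz (YZ Y) a := by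
  have hζ0 : ζ ≠ 0 := hζ.ne_zero (by norm_num)
  have h1 : IsMC fun a : Fin 8 → ℤ => ζ ^ fz (YZ Y) a := ⟨by
    show ζ ^ fz (YZ Y) 0 = 1
    rw [fz_zero, zpow_zero], fun a b => by
    show ζ ^ fz (YZ Y) (a + b) = _
    rw [fz_add, zpow_add₀ hζ0]⟩
  refine (isMC_cX e8T ht).ext h1 (fun i => ?_) a
  rw [hv, fz_sr, YZ_getD, zpow_natCast]
  unfold vecL
  rw [ZMod.val_natCast]
  have := pow_mod_orderOf ζ (Y.getD i 0)
  rwa [← hζ.eq_orderOf] at this

section S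

variable {F : Type} [Field F] [Fintype F] (hF : Fintype.card F = 81) (ι : F →+* K8)
  (φ : _root_.Matrix.SpecialLinearGroup (Fin 2) F →* G8) (lam : Fˣ) (hlam : ∀ x, x ∈ Subgroup.zpowers lam)
  {D : Dat} (hG : Geo D) {z t : GK} (hz : z⁻¹ * emb8 (φ (SL2Rel.h lam)) * z = t) (ht : t ∈ TT chevE8 K8)
  (hv : ∀ i, cX e8T t (sr i) = (ι lam ^ 2) ^ (vecL 40 D.Y i).val)

/-- the conjugated homomorphism -/
noncomputable def cj (φ : _root_.Matrix.SpecialLinearGroup (Fin 2) F →* G8) (z : GK) : _root_.Matrix.SpecialLinearGroup (Fin 2) F →* GK :=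
  (MulAut.conj z⁻¹).toMonoidHom.comp (emb8.comp φ)

theorem cj_apply (φ : _root_.Matrix.SpecialLinearGroup (Fin 2) F →* G8) (z : GK) (g : _root_.Matrix.SpecialLinearGroup (Fin 2) F) :
    cj φ z g = z⁻¹ * emb8 (φ g) * z := by
  show z⁻¹ * emb8 (φ g) * z⁻¹⁻¹ = _
  rw [inv_inv]

/-- the unipotent elements as a homomorphism -/
def uh (F : Type) [Field F] : Multiplicative F →* _root_.Matrix.SpecialLinearGroup (Fin 2) F where
  toFun x := SL2Rel.u x.toAdd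
  map_one' := SL2Rel.u_zero
  map_mul' x y := SL2Rel.u_add x.toAdd y.toAdd

/-- the group `W` -/
noncomputable def WW (φ : _root_.Matrix.SpecialLinearGroup (Fin 2) F →* G8) (z : GK) : Subgroup GK := ((cj φ z).comp (uh F)).range

theorem mem_WW {φ : _root_.Matrix.SpecialLinearGroup (Fin 2) F →* G8} {z g : GK} : g ∈ WW φ z ↔ ∃ x : F, cj φ z (SL2Rel.u x) = g :=
  Iff.rfl

theorem cj_mem (φ : _root_.Matrix.SpecialLinearGroup (Fin 2) F →* G8) (z : GK) (x : F) : cj φ z (SL2Rel.u x) ∈ WW φ z := ⟨x, rfl⟩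

theorem WW_comm (φ : _root_.Matrix.SpecialLinearGroup (Fin 2) F →* G8) (z : GK) : ∀ g ∈ WW φ z, ∀ g' ∈ WW φ z, g * g' = g' * g := by
  rintro _ ⟨x, rfl⟩ _ ⟨y, rfl⟩
  rw [← map_mul, ← map_mul, mul_comm]

/-- the element of the torus acts on the unipotent elements -/
theorem conj_u {φ : _root_.Matrix.SpecialLinearGroup (Fin 2) F →* G8} {lam : Fˣ} {z t : GK}
    (hz : z⁻¹ * emb8 (φ (SL2Rel.h lam)) * z = t) (x : F) :
    t * cj φ z (SL2Rel.u x) * t⁻¹ = cj φ z (SL2Rel.u ((lam : F) ^ 2 * x)) := by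
  rw [← hz, ← cj_apply, ← map_inv, ← map_mul, ← map_mul, SL2Rel.h_u, mul_inv_cancel_right]

/-- the Frobenius map on the conjugated group -/
theorem frb_cj (φ : _root_.Matrix.SpecialLinearGroup (Fin 2) F →* G8) (z : GK) (g : _root_.Matrix.SpecialLinearGroup (Fin 2) F) :
    frb8 (cj φ z g) = (z⁻¹ * frb8 z)⁻¹ * cj φ z g * (z⁻¹ * frb8 z) := by
  rw [cj_apply, map_mul, map_mul, map_inv, frb_emb]
  group

include hF hlam in
theorem prim' : IsPrimitiveRoot (ι lam ^ 2) 40 := H525.E8L.prim40 hF ι hlam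

include hF hlam in
theorem primF : IsPrimitiveRoot ((lam : F) ^ 2) 40 := by
  have h1 : IsPrimitiveRoot lam 80 := H525.E8L.orderOf_gen hF hlam ▸ IsPrimitiveRoot.orderOf lam
  exact (IsPrimitiveRoot.coe_units_iff.2 h1).pow (by norm_num) (by norm_num)

include hF hlam hG ht hv in
theorem reg_t : Reg t := by
  refine ⟨ht, fun a ha h => ?_⟩
  have hζ := prim' hF ι lam hlam
  rw [cX_eq hζ ht hv, hζ.zpow_eq_one_iff_dvd] at h
  have h1 := H845.E8L.bound' hG.one hG.alc ha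
  have h2 : fz (YZ D.Y) a = 0 := Int.eq_zero_of_abs_lt_dvd h (abs_lt.2 ⟨by omega, by omega⟩)
  rcases ha.pos_or_neg with h3 | h3
  · obtain ⟨r, hr, rfl⟩ := mem_pos_iff.1 (⟨ha, h3⟩ : a ∈ RGD.Pos cs8 e8T.isCartan)
    have := (H845.E8L.bound hG.one hG.alc hr).1
    omega
  · obtain ⟨r, hr, h4⟩ := mem_pos_iff.1 (⟨ha.neg, neg_nonneg.2 h3⟩ : -a ∈ RGD.Pos cs8 e8T.isCartan)
    have := (H845.E8L.bound hG.one hG.alc hr).1
    rw [← h4, H845.E8L.fz_neg] at this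
    omega

include hF hlam hG hz ht hv in
/-- the positivity functional -/
theorem exists_f : ∃ f : Q8 →+ ℤ, ∀ g ∈ WW φ z, Uni f (mx g) := by
  have h3' : Fact (Nat.Prime 3) := ⟨Nat.prime_three⟩
  let U : Subgroup G8 := (φ.comp (uh F)).range
  have hF3 : IsPGroup 3 (Multiplicative F) := by
    refine IsPGroup.of_card (n := 4) ?_
    show Nat.card F = 3 ^ 4
    rw [Nat.card_eq_fintype_card, hF]
    norm_num
  have hU : IsPGroup 3 U := hF3.of_surjective (φ.comp (uh F)).rangeRestrict (MonoidHom.rangeRestrict_surjective _)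
  have hconj : ∀ x : F, φ (SL2Rel.h lam) * φ (SL2Rel.u x) * (φ (SL2Rel.h lam))⁻¹ = φ (SL2Rel.u ((lam : F) ^ 2 * x)) := by
    intro x
    rw [← map_inv, ← map_mul, ← map_mul, SL2Rel.h_u, mul_inv_cancel_right]
  have memU : ∀ g, g ∈ U ↔ ∃ x : F, φ (SL2Rel.u x) = g := fun g => Iff.rfl
  have hy : φ (SL2Rel.h lam) ∈ Subgroup.normalizer (U : Set G8) := by
    rw [Subgroup.mem_normalizer_iff]
    intro g
    rw [memU, memU]
    constructor
    · rintro ⟨x, rfl⟩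
      exact ⟨(lam : F) ^ 2 * x, (hconj x).symm⟩
    · rintro ⟨x, hx⟩
      refine ⟨((lam : F) ^ 2)⁻¹ * x, ?_⟩
      have h1 := hconj (((lam : F) ^ 2)⁻¹ * x)
      rw [mul_inv_cancel_left₀ (pow_ne_zero _ lam.ne_zero), hx] at h1
      exact mul_left_cancel (mul_right_cancel h1)
  obtain ⟨f, hf⟩ := H948.E8BT.bt U (φ (SL2Rel.h lam)) z t hU hy hz (reg_t hF ι lam hlam hG ht hv)
  refine ⟨f, fun g hg => ?_⟩
  obtain ⟨x, rfl⟩ := mem_WW.1 hg
  rw [cj_apply]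
  exact uni_Sup (hf (φ (SL2Rel.u x)) ((memU _).2 ⟨x, rfl⟩))

include hF hlam hG hz ht hv in
/-- the Frobenius twist -/
theorem rep_n : Rep (word D.w) (z⁻¹ * frb8 z) := by
  have hζ := prim' hF ι lam hlam
  have hζ0 : ι (lam : F) ^ 2 ≠ 0 := hζ.ne_zero (by norm_num)
  set n := z⁻¹ * frb8 z with hn
  have h1 : n * frb8 t = t * n := by
    have h2 : frb8 t = n⁻¹ * t * n := by
      have := frb_cj φ z (SL2Rel.h lam)
      rwa [cj_apply, hz] at this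
    rw [h2]
    group
  obtain ⟨w, hw⟩ := H857.E8L.nt (frb8 t) t n (frb_TT ht) (reg_t hF ι lam hlam hG ht hv) h1
  have h3 : ∀ x, cX e8T t (act8 w x) = cX e8T t x ^ 3 := by
    intro x
    rw [← cX_frb ht, ← cX_rp e8T cs8 locFin8 3 hw (frb_TT ht) x]
    congr 1
    rw [h1]
    group
  have h4 : ∀ x, cX e8T t (act8 (word D.w) x) = cX e8T t x ^ 3 := by
    intro x
    rw [cX_eq hζ ht hv, cX_eq hζ ht hv]
    have h5 : ((40 : ℕ) : ℤ) ∣ fz (YZ D.Y) (act8 (word D.w) x) - 3 * fz (YZ D.Y) x := by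
      rw [← fz_actW D.w hG.okw (by unfold YZ; rw [List.length_map, hG.len])]
      exact fz_dvd (fun i => hG.tw i) x
    obtain ⟨m, hm⟩ := h5
    have h6 : fz (YZ D.Y) (act8 (word D.w) x) = fz (YZ D.Y) x * 3 + (40 : ℕ) * m := by linarith only [hm]
    rw [h6, zpow_add₀ hζ0, _root_.zpow_mul, _root_.zpow_mul, zpow_natCast _ 40, hζ.pow_eq_one, _root_.one_zpow, mul_one]
    exact zpow_ofNat _ 3
  have h7 : w * (word D.w)⁻¹ = 1 := by
    refine H845.E8L.reg 40 D.Y (ι lam ^ 2) t _ hG.len hG.one hG.alc hζ ht (fun i => ?_) fun x => ?_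
    · rw [cX_eq hζ ht hv, fz_sr, YZ_getD, zpow_natCast]
    · have h8 : act8 (w * (word D.w)⁻¹) x = act8 w (act8 (word D.w)⁻¹ x) := rep_mul_apply _ _ _ _ _
      rw [h8, h3, ← h4, act8_inv]
  rw [mul_inv_eq_one] at h7
  rw [← h7]
  exact hw

include hF hlam hG hz ht hv in
/-- the Weyl element of `SL₂` -/
theorem rep_w : ∃ w0 : W8, Rep w0 (cj φ z SL2Rel.w) ∧ ∀ x, act8 w0 x = -x := by
  have hζ := prim' hF ι lam hlam
  set n := cj φ z SL2Rel.w with hn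
  have htc : cj φ z (SL2Rel.h lam) = t := by rw [cj_apply, hz]
  have h1 : n * t⁻¹ = t * n := by
    rw [← htc, ← map_inv, ← map_mul, ← map_mul, SL2Rel.h_w, SL2Rel.h_inv]
  have ht' : t⁻¹ ∈ TT chevE8 K8 := inv_mem ht
  obtain ⟨w, hw⟩ := H857.E8L.nt t⁻¹ t n ht' (reg_t hF ι lam hlam hG ht hv) h1
  have h3 : ∀ x, cX e8T t (act8 w x) = cX e8T t⁻¹ x := by
    intro x
    rw [← cX_rp e8T cs8 locFin8 3 hw ht' x]
    congr 1
    rw [h1]
    group
  have h4 : ∀ x, cX e8T t⁻¹ (-x) = cX e8T t x := by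
    have m1 : IsMC fun x : Q8 => cX e8T t⁻¹ (-x) := ⟨by
      show cX e8T t⁻¹ (-0) = 1
      rw [neg_zero, (isMC_cX e8T ht').zero], fun a b => by
      show cX e8T t⁻¹ (-(a + b)) = _
      rw [_root_.neg_add, (isMC_cX e8T ht').add]⟩
    refine m1.ext (isMC_cX e8T ht) fun i => ?_
    have hr : Rt (sr i) := isRoot_sr cs8 e8T.isCartan i
    have e1 : cX e8T t⁻¹ (-(sr i)) * cX e8T t⁻¹ (sr i) = 1 := by
      rw [← (isMC_cX e8T ht').add, neg_add_cancel, (isMC_cX e8T ht').zero]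
    have e2 : cX e8T t (sr i) * cX e8T t⁻¹ (sr i) = 1 := by
      have a1 : mx (t * t⁻¹) = mx t * mx t⁻¹ := rfl
      rw [mul_inv_cancel, mx_torus ht, mx_torus ht', Matrix.diagonal_mul_diagonal] at a1
      obtain ⟨s, hs⟩ := exists_idx hr
      have a2 := congrFun (congrFun a1 (Sum.inr s)) (Sum.inr s)
      rw [Matrix.diagonal_apply_eq, wt_inr, hs] at a2
      rw [← a2]
      exact Matrix.one_apply_eq _
    have e3 : cX e8T t⁻¹ (sr i) ≠ 0 := right_ne_zero_of_mul_eq_one e2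
    exact mul_right_cancel₀ e3 (e1.trans e2.symm)
  obtain ⟨wn, hwn⟩ := H845.E8L.neg
  have h5 : w * wn = 1 := by
    refine H845.E8L.reg 40 D.Y (ι lam ^ 2) t _ hG.len hG.one hG.alc hζ ht (fun i => ?_) fun x => ?_
    · rw [cX_eq hζ ht hv, fz_sr, YZ_getD, zpow_natCast]
    · have h8 : act8 (w * wn) x = act8 w (act8 wn x) := rep_mul_apply _ _ _ _ _
      rw [h8, h3, hwn, h4]
  refine ⟨w, hw, fun x => ?_⟩
  have h6 : w = wn⁻¹ := eq_inv_of_mul_eq_one_left h5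
  have h7 : act8 wn (act8 w x) = x := by rw [h6]; exact act8_inv wn x
  rw [hwn] at h7
  exact neg_eq_iff_eq_neg.1 h7

end S

end Cfsg.Agent.H288.E8L
end

private theorem dce_209674c0a453 : _root_.True := by
  try have : _root_.True := by simp only [_root_.Cfsg.Agent.H288.E8L.anyP.eq_2]
  try have : _root_.True := by simp only [_root_.Cfsg.Agent.H288.E8L.anyP.eq_1]
  try have : _root_.True := by simp only [_root_.Cfsg.Agent.H288.E8L.cmb._sparseCasesOn_1.else_eq]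
  try have : _root_.True := by simp only [_root_.Cfsg.Agent.H942.CB.dotI.eq_2]
  try have : _root_.True := by simp only [_root_.Cfsg.Agent.H288.E8L.cmb.eq_1]
  try have : _root_.True := by simp only [_root_.Cfsg.Agent.H942.CB.dotI.eq_def]
  try have : _root_.True := by simp only [_root_.Cfsg.Agent.H288.E8L.anyP.eq_def]
  try have : _root_.True := by simp only [_root_.Cfsg.Agent.H288.E8L.vl.eq_1]
  try have : _root_.True := by simp only [_root_.Cfsg.Agent.H288.E8L.cmb.eq_2]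
  try have : _root_.True := by simp only [_root_.Cfsg.Agent.H942.CB.dotI.eq_1]
  try have : _root_.True := by simp only [_root_.Cfsg.Agent.H288.E8L.cmb.eq_def]
  exact _root_.True.intro
end
end
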